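import Cfsg.Agent.Lib.Alt.J3

/-!
The even weight module and its transvections.
-/

set_option autoImplicit false

namespace Cfsg.Lib.Alt

open Equiv Subgroup Cfsg.Lib.Kondo Cfsg.Lib.FT

section General

variable {ι : Type} [Fintype ι] [DecidableEq ι] {G : Type*} [Group G]

/-- even vectors -/
def Ev (v : ι → ZMod 2) : Prop := ∑ p, v p = 0

omit [DecidableEq ι] in
theorem Ev.add {v v' : ι → ZMod 2} (h : Ev v) (h' : Ev v') : Ev (v + v') := by
  simp only [Ev, Pi.add_apply, Finset.sum_add_distrib] at *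
  rw [h, h', add_zero]

omit [DecidableEq ι] in
theorem ev_zero : Ev (0 : ι → ZMod 2) := by simp [Ev]

theorem ev_δ (p q : ι) : Ev (δ p + δ q) := by
  simp [Ev, Finset.sum_add_distrib, z2_add]

omit [DecidableEq ι] in
theorem Ev.comp {v : ι → ZMod 2} (h : Ev v) (σ : Perm ι) : Ev (v ∘ ⇑σ) :=
  (Equiv.sum_comp σ v).trans h

omit [DecidableEq ι] in
theorem Ev.smul {v : ι → ZMod 2} (h : Ev v) (a : ZMod 2) : Ev (a • v) := by
  rcases z2_cases a with rfl | rfl
  · simpa using ev_zero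
  · simpa using h

theorem comp_swap (v : ι → ZMod 2) (p q : ι) :
    v ∘ ⇑(swap p q) = v + (v p + v q) • (δ p + δ q) := by
  funext x
  by_cases hp : x = p
  · subst hp
    by_cases hq : x = q
    · simp [hq, z2_add]
    · simp [hq, ← add_assoc, z2_add]
  · by_cases hq : x = q
    · subst hq
      simp [hp, add_comm (v p), ← add_assoc, z2_add]
    · simp [swap_apply_of_ne_of_ne hp hq, hp, hq]

theorem δδ_ne {p q : ι} (h : p ≠ q) : δ p + δ q ≠ 0 := fun e => by simpa [h] using congrFun e p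

theorem δδ_comp (p q : ι) (σ : Perm ι) : (δ p + δ q) ∘ ⇑σ⁻¹ = δ (σ p) + δ (σ q) := by
  rw [← δ_comp, ← δ_comp]; rfl

/-- an embedding of the even weight module -/
structure BS (β : (ι → ZMod 2) → G) : Prop where
  add : ∀ v v', Ev v → Ev v' → β (v + v') = β v * β v'
  inj : ∀ v v', Ev v → Ev v' → β v = β v' → v = v'

/-- `g` acts as the permutation `σ` -/
def Acts (β : (ι → ZMod 2) → G) (g : G) (σ : Perm ι) : Prop :=
  ∀ v, Ev v → g * β v * g⁻¹ = β (v ∘ ⇑σ⁻¹)

variable {β : (ι → ZMod 2) → G}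

omit [DecidableEq ι] in
theorem Acts.mul {g h : G} {σ τ : Perm ι} (h1 : Acts β g σ) (h2 : Acts β h τ) :
    Acts β (g * h) (σ * τ) := fun v hv => by
  rw [show g * h * β v * (g * h)⁻¹ = g * (h * β v * h⁻¹) * g⁻¹ by group, h2 v hv, h1 _ (hv.comp _)]
  rfl

omit [DecidableEq ι] in
theorem Acts.inv {g : G} {σ : Perm ι} (h1 : Acts β g σ) : Acts β g⁻¹ σ⁻¹ := fun v hv => by
  have := h1 _ (hv.comp σ)
  rw [show (v ∘ ⇑σ) ∘ ⇑σ⁻¹ = v by funext x; simp] at this
  rw [inv_inv σ, ← this]; group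

omit [DecidableEq ι] in
theorem acts_one : Acts β 1 1 := fun v _ => by simp

theorem Acts.conj {g h : G} {σ : Perm ι} {p q : ι} (h1 : Acts β g σ) (h2 : Acts β h (swap p q)) :
    Acts β (g * h * g⁻¹) (swap (σ p) (σ q)) := by
  rw [swap_apply_apply]; exact (h1.mul h2).mul h1.inv

theorem Acts.δδ {g : G} {σ : Perm ι} (h : Acts β g σ) (p q : ι) :
    g * β (δ p + δ q) * g⁻¹ = β (δ (σ p) + δ (σ q)) := by rw [h _ (ev_δ p q), δδ_comp]

theorem Acts.swap {g : G} {p q : ι} (h : Acts β g (swap p q)) {v : ι → ZMod 2} (hv : Ev v) :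
    g * β v * g⁻¹ = β (v + (v p + v q) • (δ p + δ q)) := by rw [h v hv, swap_inv, comp_swap]

theorem Acts.fix {g : G} {p q : ι} (h : Acts β g (Equiv.swap p q)) {v : ι → ZMod 2} (hv : Ev v)
    (e : v p = v q) : g * β v * g⁻¹ = β v := by rw [h.swap hv, e, z2_add, zero_smul, add_zero]

theorem exists_acts (h : ∀ p q, p ≠ q → ∃ g, Acts β g (swap p q)) (σ : Perm ι) :
    ∃ g, Acts β g σ := by
  induction σ using Perm.swap_induction_on with
  | one => exact ⟨1, acts_one⟩
  | swap_mul σ p q hpq ih =>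
    obtain ⟨g, hg⟩ := ih
    obtain ⟨k, hk⟩ := h p q hpq
    exact ⟨_, hk.mul hg⟩

namespace BS

variable (h : BS β)
include h

omit [DecidableEq ι] in
theorem zero : β 0 = 1 := by simpa using h.add 0 0 ev_zero ev_zero

omit [DecidableEq ι] in
theorem sq {v : ι → ZMod 2} (hv : Ev v) : β v * β v = 1 := by rw [← h.add v v hv hv, vadd, h.zero]

omit [DecidableEq ι] in
theorem inv {v : ι → ZMod 2} (hv : Ev v) : (β v)⁻¹ = β v := inv_eq_of_mul_eq_one_left (h.sq hv)

omit [DecidableEq ι] in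
theorem comm {v v' : ι → ZMod 2} (hv : Ev v) (hv' : Ev v') : β v * β v' = β v' * β v := by
  rw [← h.add _ _ hv hv', ← h.add _ _ hv' hv, add_comm]

omit [DecidableEq ι] in
theorem eq_one {v : ι → ZMod 2} (hv : Ev v) (e : β v = 1) : v = 0 :=
  h.inj _ _ hv ev_zero (e.trans h.zero.symm)

/-- the image -/
def grp : Subgroup G where
  carrier := {g | ∃ v, Ev v ∧ β v = g}
  one_mem' := ⟨0, ev_zero, h.zero⟩
  mul_mem' := by rintro _ _ ⟨v, hv, rfl⟩ ⟨v', hv', rfl⟩; exact ⟨_, hv.add hv', h.add _ _ hv hv'⟩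
  inv_mem' := by rintro _ ⟨v, hv, rfl⟩; exact ⟨v, hv, (h.inv hv).symm⟩

omit [DecidableEq ι] in
theorem mem {v : ι → ZMod 2} (hv : Ev v) : β v ∈ h.grp := ⟨v, hv, rfl⟩

theorem moves {g : G} {p q : ι} (hg : Acts β g (swap p q)) (hpq : p ≠ q) {v : ι → ZMod 2}
    (hv : Ev v) (e : v p ≠ v q) : g * β v * g⁻¹ ≠ β v := fun e' => by
  rw [hg.swap hv] at e'
  have := congrFun (h.inj _ _ (hv.add ((ev_δ p q).smul _)) hv e') p
  simp only [Pi.add_apply, Pi.smul_apply, Pi.single_eq_same, Pi.single_eq_of_ne hpq, add_zero,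
    smul_eq_mul, mul_one, add_eq_left] at this
  exact e (by linear_combination this - z2_add (v q))

theorem tv_swap {g : G} {p q o : ι} (hg : Acts β g (swap p q)) (hpq : p ≠ q) (hp : o ≠ p)
    (hq : o ≠ q) : TV h.grp g (β (δ p + δ q)) := by
  refine ⟨h.mem (ev_δ p q), hg.fix (ev_δ p q) (by simp [hpq, hpq.symm]), ?_, _, h.mem (ev_δ p o),
    h.moves hg hpq (ev_δ p o) (by simp [hpq.symm, hp.symm, hq.symm])⟩
  rintro _ ⟨v, hv, rfl⟩
  rw [hg.swap hv]
  rcases z2_cases (v p + v q) with e | e <;> rw [e]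
  · simp
  · exact Or.inr (by rw [one_smul, h.add _ _ hv (ev_δ p q)])

/-- the linear functional of a transvection -/
theorem exists_fun {d c : G} (hd : TV h.grp d c) (o : ι) : ∃ t : ι → ZMod 2,
    ∀ v, Ev v → (d * β v * d⁻¹ = β v ↔ ∑ p, t p * v p = 0) := by
  classical
  let f : (ι → ZMod 2) → ZMod 2 := fun v => if d * β v * d⁻¹ = β v then 0 else 1
  have hc : c * c = 1 := by obtain ⟨v, hv, rfl⟩ := hd.mem; exact h.sq hv
  have hcc : ∀ v, Ev v → c * β v = β v * c := fun v hv => by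
    obtain ⟨v', hv', rfl⟩ := hd.mem; exact h.comm hv' hv
  have hf : ∀ v v', Ev v → Ev v' → f (v + v') = f v + f v' := fun v v' hv hv' => by
    have := hd.ne_one
    simp only [f, h.add _ _ hv hv', ← conj_mul (b := d)]
    rcases hd.act _ (h.mem hv) with e | e <;> rcases hd.act _ (h.mem hv') with e' | e' <;>
      rw [e, e']
    · simp
    · simp [this]
    · simp [this, mul_assoc, hcc _ hv']
    · simp [this, mul_assoc, ← mul_assoc c, hcc _ hv', hc, z2_add]
  have h0 : f 0 = 0 := by simp [f, h.zero]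
  have key : ∀ (s : Finset ι) (v : ι → ZMod 2), Ev (∑ p ∈ s, v p • (δ p + δ o)) ∧
      f (∑ p ∈ s, v p • (δ p + δ o)) = ∑ p ∈ s, f (δ p + δ o) * v p := fun s v => by
    induction s using Finset.induction_on with
    | empty => exact ⟨ev_zero, h0⟩
    | insert a s ha ih =>
      rw [Finset.sum_insert ha, Finset.sum_insert ha, hf _ _ ((ev_δ a o).smul _) ih.1, ih.2]
      refine ⟨((ev_δ a o).smul _).add ih.1, ?_⟩
      rcases z2_cases (v a) with e | e <;> simp [e, h0]
  refine ⟨fun p => f (δ p + δ o), fun v hv => ?_⟩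
  have e : ∑ p, v p • (δ p + δ o) = v := by
    simp only [smul_add, Finset.sum_add_distrib, ← Finset.sum_smul, show ∑ p, v p = 0 from hv,
      zero_smul, add_zero]
    funext x
    simp [Finset.sum_apply, Pi.single_apply]
  rw [← (key _ v).2, e]
  simp [f]

end BS

theorem sum_mul_δδ (t : ι → ZMod 2) (p q : ι) : ∑ x, t x * (δ p + δ q) x = t p + t q := by
  simp [mul_add, Finset.sum_add_distrib, Pi.single_apply]

end General

/-- the pairs -/
abbrev PI (κ : Type) := Option (κ × ZMod 2)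

variable {κ : Type} [Fintype κ] [DecidableEq κ] {G : Type*} [Group G]

omit [DecidableEq κ] in
theorem sum_PI (v : PI κ → ZMod 2) : ∑ p, v p = v none + ∑ i, (v (some (i, 0)) + v (some (i, 1))) := by
  rw [Fintype.sum_option, Fintype.sum_prod_type]
  congr 1
  exact Finset.sum_congr rfl fun i _ => Finset.sum_pair (by decide : (0 : ZMod 2) ≠ 1)

/-- coordinates on the even weight module -/
def vec (a d : κ → ZMod 2) : PI κ → ZMod 2
  | none => ∑ i, d i
  | some p => a p.1 + p.2 * d p.1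

omit [DecidableEq κ] in
@[simp] theorem vec_none (a d : κ → ZMod 2) : vec a d none = ∑ i, d i := rfl
omit [DecidableEq κ] in
@[simp] theorem vec_some (a d : κ → ZMod 2) (p : κ × ZMod 2) :
    vec a d (some p) = a p.1 + p.2 * d p.1 := rfl

omit [DecidableEq κ] in
theorem ev_vec (a d : κ → ZMod 2) : Ev (vec a d) := by
  rw [Ev, sum_PI]; simp [← add_assoc, z2_add]

omit [DecidableEq κ] in
theorem vec_add (a d a' d' : κ → ZMod 2) : vec (a + a') (d + d') = vec a d + vec a' d' := by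
  funext p
  rcases p with _ | p
  · simp [Finset.sum_add_distrib]
  · simp; ring

omit [DecidableEq κ] in
theorem Ev.exists_vec {v : PI κ → ZMod 2} (hv : Ev v) : ∃ a d, v = vec a d := by
  refine ⟨fun i => v (some (i, 0)), fun i => v (some (i, 0)) + v (some (i, 1)), funext ?_⟩
  rintro (_ | ⟨i, x⟩)
  · rw [Ev, sum_PI] at hv
    rw [vec_none]
    linear_combination hv - z2_add (∑ i, (v (some (i, 0)) + v (some (i, 1))))
  · rcases z2_cases x with rfl | rfl <;> simp [← add_assoc, z2_add]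

omit [DecidableEq κ] in
theorem vec_inj {a d a' d' : κ → ZMod 2} (h : vec a d = vec a' d') : a = a' ∧ d = d' := by
  have ha : a = a' := funext fun i => by simpa using congrFun h (some (i, 0))
  subst ha
  exact ⟨rfl, funext fun i => by simpa using congrFun h (some (i, 1))⟩

theorem vec_δ (i : κ) : vec (δ i) 0 = δ (some (i, 0)) + δ (some (i, 1)) := by
  funext p
  rcases p with _ | ⟨j, x⟩
  · simp
  · by_cases h : j = i
    · rcases z2_cases x with rfl | rfl <;> simp [h]
    · simp [h]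

theorem vec_δ' (i : κ) : vec 0 (δ i) = δ (some (i, 1)) + δ none := by
  funext p
  rcases p with _ | ⟨j, x⟩
  · simp
  · by_cases h : j = i
    · rcases z2_cases x with rfl | rfl <;> simp [h]
    · simp [h]

theorem vec_δ'' (i : κ) : vec (δ i) (δ i) = δ (some (i, 0)) + δ none := by
  funext p
  rcases p with _ | ⟨j, x⟩
  · simp
  · by_cases h : j = i
    · rcases z2_cases x with rfl | rfl <;> simp [h, z2_add]
    · simp [h]

omit [DecidableEq κ] in
theorem wt_vec (a : κ → ZMod 2) : wt (vec a 0) = 2 * wt a := by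
  classical
  rw [wt, wt, show (Finset.univ.filter fun p => vec a 0 p = 1) =
    ((Finset.univ.filter fun i => a i = 1) ×ˢ Finset.univ).map ⟨_, Option.some_injective _⟩ by
      ext (_ | p) <;> simp]
  simp [mul_comm]

omit [DecidableEq κ] in
theorem BS.mx {β : (PI κ → ZMod 2) → G} (h : BS β) : Mx κ h.grp := by
  refine ⟨by rintro _ ⟨v, hv, rfl⟩; exact h.sq hv, ?_⟩
  let f : (κ → ZMod 2) × (κ → ZMod 2) → h.grp := fun p => ⟨_, h.mem (ev_vec p.1 p.2)⟩
  have hf : Function.Bijective f := by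
    refine ⟨fun p q e => ?_, ?_⟩
    · have := vec_inj (h.inj _ _ (ev_vec _ _) (ev_vec _ _) (congrArg Subtype.val e))
      exact Prod.ext this.1 this.2
    · rintro ⟨_, v, hv, rfl⟩
      obtain ⟨a, d, rfl⟩ := hv.exists_vec
      exact ⟨(a, d), rfl⟩
  rw [← Nat.card_eq_of_bijective f hf, Nat.card_prod, Nat.card_fun]
  simp [← mul_pow]

omit [DecidableEq κ] in
theorem const_of_side {I : κ → ZMod 2} {v : PI κ → ZMod 2} (hv : Ev v)
    (h : ∀ p q, vec I 0 p = vec I 0 q → v p = v q) : v = 0 ∨ v = vec I 0 := by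
  have h0 : v none = 0 := by
    rw [Ev, sum_PI, Finset.sum_eq_zero fun i _ => by
      rw [h (some (i, 0)) (some (i, 1)) (by simp), z2_add], add_zero] at hv
    exact hv
  have h1 : ∀ p, vec I 0 p = 0 → v p = 0 := fun p hp => (h p none (by simpa using hp)).trans h0
  by_cases h2 : ∃ p, v p = 1
  · obtain ⟨p, hp⟩ := h2
    have h3 : vec I 0 p = 1 := (z2_cases _).resolve_left fun e => by simp [h1 p e] at hp
    refine Or.inr (funext fun q => ?_)
    rcases z2_cases (vec I 0 q) with e | e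
    · rw [h1 q e, e]
    · rw [h q p (e.trans h3.symm), hp, e]
  · exact Or.inl (funext fun p => (z2_cases _).resolve_right fun e => h2 ⟨p, e⟩)

end Cfsg.Lib.Alt
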