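import Cfsg.Agent.Lib.Alt.B1

/-!
The shape of the centre of a transvection moving `z`.
-/

set_option autoImplicit false

namespace Cfsg.Lib.Alt

open Equiv Subgroup Cfsg.Lib.Kondo Cfsg.Lib.FT

variable {κ : Type} [Fintype κ] [DecidableEq κ] {G : Type*} [Group G] [Finite G]

omit [Fintype κ] in
theorem exists_third (i : κ) (p q : PI κ) : ∃ o, o ≠ p ∧ o ≠ q := by
  by_cases h0 : none ≠ p ∧ none ≠ q
  · exact ⟨_, h0⟩
  by_cases h1 : some (i, 0) ≠ p ∧ some (i, 0) ≠ q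
  · exact ⟨_, h1⟩
  refine ⟨some (i, 1), ?_⟩
  rw [not_and_or, not_not, not_not] at h0 h1
  rcases h0 with rfl | rfl <;> rcases h1 with h | h <;> first | (subst h; simp) | simp at h

/-- transpositions on the same side are induced -/
def SW (β : (PI κ → ZMod 2) → G) (I : κ → ZMod 2) : Prop :=
  ∀ p q, p ≠ q → vec I 0 p = vec I 0 q → ∃ g, Acts β g (swap p q)

/-- the full symmetric group is induced -/
def SN (β : (PI κ → ZMod 2) → G) : Prop := ∀ σ, ∃ g, Acts β g σ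

theorem wt_odd {ι : Type} [Fintype ι] {a : ι → ZMod 2} (h : ∑ i, a i = 1) : wt a % 2 = 1 := by
  rw [← wt_cast] at h
  exact Nat.odd_iff.mp (ZMod.natCast_eq_one_iff_odd.mp h)

theorem wt_even {ι : Type} [Fintype ι] {a : ι → ZMod 2} (h : ∑ i, a i = 0) : wt a % 2 = 0 := by
  rw [← wt_cast] at h
  exact Nat.even_iff.mp (ZMod.natCast_eq_zero_iff_even.mp h)

namespace BS

variable {β : (PI κ → ZMod 2) → G} (h : BS β) {I : κ → ZMod 2} (hs : SW β I) {i₀ : κ}
  (hI : I i₀ = 1)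
include h hs hI

theorem exists_tv (hN : ¬ N[h.grp] ≤ C1[β (vec I 0)]) :
    ∃ d c, Ev c ∧ TV h.grp d (β c) ∧ d * β (vec I 0) * d⁻¹ ≠ β (vec I 0) := by
  by_contra hh
  push Not at hh
  refine hN fun g hg => ?_
  obtain ⟨v, hv, e⟩ := conj_mem_of_mem_normalizer' hg (h.mem (ev_vec I 0))
  rcases const_of_side (I := I) hv (fun p q hpq => by
    by_contra hne
    have h1 : p ≠ q := fun e => hne (by rw [e])
    obtain ⟨k, hk⟩ := hs p q h1 hpq
    obtain ⟨o, h2, h3⟩ := exists_third i₀ p q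
    have h4 := (h.tv_swap hk h1 h2 h3).conj hg
    obtain ⟨c, hc, e'⟩ := h4.mem
    have := hh _ c hc (e' ▸ h4)
    refine h.moves hk h1 hv hne ?_
    rw [e]
    conv_rhs => rw [← this]
    group) with rfl | rfl
  · rw [h.zero] at e
    have := congrFun (h.eq_one (ev_vec I 0) (by
      simpa [mul_assoc] using congrArg (fun x => g * x * g⁻¹) e.symm))
      (some (i₀, 0))
    simp [hI] at this
  · rw [mem_C1]
    conv_lhs => rw [e]
    group

variable {Λ : HJ κ →* G} {w : G} (H : JH Λ w) {d : G} {c : PI κ → ZMod 2} (hc : Ev c)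
  (hd : TV h.grp d (β c))
include H hc hd

theorem fun_side : ∃ t : PI κ → ZMod 2, (∀ v, Ev v → (d * β v * d⁻¹ = β v ↔ ∑ p, t p * v p = 0)) ∧
    ∀ p q, vec I 0 p = vec I 0 q → t p + c p = t q + c q := by
  obtain ⟨t, ht⟩ := h.exists_fun hd none
  refine ⟨t, ht, fun p q hpq => ?_⟩
  by_cases h1 : p = q
  · rw [h1]
  obtain ⟨k, hk⟩ := hs p q h1 hpq
  obtain ⟨o, h2, h3⟩ := exists_third i₀ p q
  have h4 := h.tv_swap hk h1 h2 h3
  have h5 := ht _ (ev_δ p q)
  rw [sum_mul_δδ] at h5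
  by_cases e : c p = c q
  · have := h5.mp (H.symm h.mx h4 hd (hk.fix hc e))
    rw [e]; linear_combination this - z2_add (t q)
  · have := mt h5.mpr fun e' => h.moves hk h1 hc e (H.symm h.mx hd h4 e')
    revert this e
    generalize t p = a
    generalize t q = b
    generalize c p = a'
    generalize c q = b'
    revert a b a' b'; decide

theorem three_swap {p₁ q₁ p₂ q₂ p₃ q₃ : PI κ} (s1 : vec I 0 p₁ = vec I 0 q₁)
    (s2 : vec I 0 p₂ = vec I 0 q₂) (s3 : vec I 0 p₃ = vec I 0 q₃) (c1 : c p₁ = 1) (c2 : c p₂ = 1)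
    (c3 : c p₃ = 1) (d1 : c q₁ = 0) (d2 : c q₂ = 0) (d3 : c q₃ = 0) (n12 : p₁ ≠ p₂) (n13 : p₁ ≠ p₃)
    (n23 : p₂ ≠ p₃) (m12 : q₁ ≠ q₂) (m13 : q₁ ≠ q₃) (m23 : q₂ ≠ q₃) : False := by
  have n : ∀ {p q}, c p = 1 → c q = 0 → p ≠ q := by rintro p q e e' rfl; simp [e] at e'
  have n' : ∀ {p q}, c p = 1 → c q = 0 → q ≠ p := fun e e' => (n e e').symm
  obtain ⟨u₁, a1⟩ := hs _ _ (n c1 d1) s1
  obtain ⟨u₂, a2⟩ := hs _ _ (n c2 d2) s2
  obtain ⟨u₃, a3⟩ := hs _ _ (n c3 d3) s3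
  have k : ∀ {p q p' q'}, c p = 1 → c q' = 0 → c q = 0 → p ≠ p' → β (δ p + δ q) ≠ β (δ p' + δ q') :=
    fun {p q p' q'} e1 e2 e3 e4 e => by
      simpa [n e1 e2, n e1 e3, e4] using congrFun (h.inj _ _ (ev_δ _ _) (ev_δ _ _) e) p
  exact H.three h.mx hd (h.tv_swap a1 (n c1 d1) n12.symm (n c2 d1))
    (h.tv_swap a2 (n c2 d2) n12 (n c1 d2)) (h.tv_swap a3 (n c3 d3) n13 (n c1 d3))
    (a1.fix (ev_δ _ _) (by simp [n12, n c1 d2, n' c2 d1, m12]))
    (a1.fix (ev_δ _ _) (by simp [n13, n c1 d3, n' c3 d1, m13]))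
    (a2.fix (ev_δ _ _) (by simp [n23, n c2 d3, n' c3 d2, m23]))
    (k c1 d2 d1 n12) (k c1 d3 d1 n13) (k c2 d3 d2 n23)
    (h.moves a1 (n c1 d1) hc (by simp [c1, d1])) (h.moves a2 (n c2 d2) hc (by simp [c2, d2]))
    (h.moves a3 (n c3 d3) hc (by simp [c3, d3]))

theorem shape (hm : d * β (vec I 0) * d⁻¹ ≠ β (vec I 0)) :
    (∃ p, vec I 0 * c = δ p ∨ vec I 0 * (1 + c) = δ p) ∧
      ((∃ q, (1 + vec I 0) * c = δ q) ∨ (1 + vec I 0) * (1 + c) = 0) := by
  obtain ⟨t, h1, h2⟩ := h.fun_side hs hI H hc hd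
  have e0 : ∑ p, vec I 0 p = 0 := ev_vec I 0
  have e1 : ∑ p, (vec I 0 * c) p = 1 := by
    have := (z2_cases _).resolve_left (mt (h1 _ (ev_vec I 0)).mpr hm)
    rw [sum_PI] at this ⊢
    refine Eq.trans ?_ this
    simp only [Pi.mul_apply, vec_none, Pi.zero_apply, Finset.sum_const_zero, zero_mul, vec_some,
      mul_zero, add_zero, zero_add]
    refine Finset.sum_congr rfl fun i _ => ?_
    have := h2 (some (i, 0)) (some (i, 1)) (by simp)
    linear_combination (I i) * this - (I i) * z2_add (t (some (i, 0))) + (I i) * z2_add (c (some (i, 1)))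
  have e2 : ∑ p, (vec I 0 * (1 + c)) p = 1 := by
    simp only [mul_add, mul_one, Pi.add_apply, Finset.sum_add_distrib, e0, e1, zero_add]
  have e3 : ∑ p, ((1 + vec I 0) * c) p = 1 := by
    simp only [add_mul, one_mul, Pi.add_apply, Finset.sum_add_distrib, show ∑ p, c p = 0 from hc,
      e1, zero_add]
  have e4 : ∑ p, ((1 + vec I 0) * (1 + c)) p = 0 := by
    simp only [mul_add, mul_one, Pi.add_apply, Finset.sum_add_distrib, e0, e3, add_zero]
    rw [sum_PI]; simp [z2_add]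
  have m : ∀ a b : ZMod 2, (a * b = 1 → a = 1 ∧ b = 1) ∧ (a * (1 + b) = 1 → a = 1 ∧ b = 0) ∧
      ((1 + a) * b = 1 → a = 0 ∧ b = 1) ∧ ((1 + a) * (1 + b) = 1 → a = 0 ∧ b = 0) := by decide
  have w1 := wt_odd e1
  have w2 := wt_odd e2
  have w3 := wt_odd e3
  have w4 := wt_even e4
  constructor
  · by_contra hh
    push Not at hh
    obtain ⟨p₁, p₂, p₃, a1, a2, a3, n12, n13, n23⟩ := Finset.two_lt_card_iff.mp
      (show 2 < wt (vec I 0 * c) by
        have := mt eq_δ_of_wt fun ⟨p, e⟩ => (hh p).1 e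
        omega)
    obtain ⟨q₁, q₂, q₃, b1, b2, b3, m12, m13, m23⟩ := Finset.two_lt_card_iff.mp
      (show 2 < wt (vec I 0 * (1 + c)) by
        have := mt eq_δ_of_wt fun ⟨p, e⟩ => (hh p).2 e
        omega)
    rw [Finset.mem_filter] at a1 a2 a3 b1 b2 b3
    have a1 := (m _ _).1 a1.2
    have a2 := (m _ _).1 a2.2
    have a3 := (m _ _).1 a3.2
    have b1 := (m _ _).2.1 b1.2
    have b2 := (m _ _).2.1 b2.2
    have b3 := (m _ _).2.1 b3.2
    exact h.three_swap hs hI H hc hd (a1.1.trans b1.1.symm) (a2.1.trans b2.1.symm)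
      (a3.1.trans b3.1.symm) a1.2 a2.2 a3.2 b1.2 b2.2 b3.2 n12 n13 n23 m12 m13 m23
  · by_contra hh
    push Not at hh
    obtain ⟨p₁, a1⟩ := Finset.card_pos.mp (show 0 < wt (vec I 0 * c) by omega)
    obtain ⟨q₁, b1⟩ := Finset.card_pos.mp (show 0 < wt (vec I 0 * (1 + c)) by omega)
    obtain ⟨p₂, a2, p₃, a3, n23⟩ := Finset.one_lt_card.mp
      (show 1 < wt ((1 + vec I 0) * c) by
        have := mt eq_δ_of_wt fun ⟨p, e⟩ => hh.1 p e
        omega)
    obtain ⟨q₂, b2, q₃, b3, m23⟩ := Finset.one_lt_card.mp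
      (show 1 < wt ((1 + vec I 0) * (1 + c)) by
        have : wt ((1 + vec I 0) * (1 + c)) ≠ 0 := fun e => hh.2 (funext fun x =>
          (z2_cases _).resolve_right (Finset.filter_eq_empty_iff.mp (Finset.card_eq_zero.mp e)
            (Finset.mem_univ x)))
        omega)
    rw [Finset.mem_filter] at a1 a2 a3 b1 b2 b3
    have a1 := (m _ _).1 a1.2
    have a2 := (m _ _).2.2.1 a2.2
    have a3 := (m _ _).2.2.1 a3.2
    have b1 := (m _ _).2.1 b1.2
    have b2 := (m _ _).2.2.2 b2.2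
    have b3 := (m _ _).2.2.2 b3.2
    have n : ∀ {p q}, vec I 0 p = 1 → vec I 0 q = 0 → p ≠ q := by
      rintro p q e e' rfl; simp [e] at e'
    exact h.three_swap hs hI H hc hd (a1.1.trans b1.1.symm) (a2.1.trans b2.1.symm)
      (a3.1.trans b3.1.symm) a1.2 a2.2 a3.2 b1.2 b2.2 b3.2 (n a1.1 a2.1) (n a1.1 a3.1) n23
      (n b1.1 b2.1) (n b1.1 b3.1) m23

omit hc hd in
theorem sn {p q : PI κ} (hp : vec I 0 p = 1) (hq : vec I 0 q = 0)
    (hd : TV h.grp d (β (δ p + δ q))) : SN β := by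
  obtain ⟨t, h1, h2⟩ := h.fun_side hs hI H (ev_δ p q) hd
  have hpq : p ≠ q := by rintro rfl; simp [hp] at hq
  have e0 := (h1 _ (ev_δ p q)).mp hd.fix
  rw [sum_mul_δδ] at e0
  have e1 : ∀ x, t x = (δ p + δ q) x + (t p + 1) := fun x => by
    rcases z2_cases (vec I 0 x) with e | e
    · have := h2 x q (e.trans hq.symm)
      simp only [Pi.add_apply, Pi.single_eq_of_ne hpq.symm, Pi.single_eq_same] at this ⊢
      linear_combination this + e0 - z2_add (t p) - z2_add (δ p x + δ q x)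
    · have := h2 x p (e.trans hp.symm)
      simp only [Pi.add_apply, Pi.single_eq_of_ne hpq, Pi.single_eq_same] at this ⊢
      linear_combination this - z2_add (δ p x + δ q x)
  have a : Acts β d (swap p q) := fun v hv => by
    have e2 : ∑ x, t x * v x = v p + v q := by
      rw [← sum_mul_δδ, ← add_zero (∑ x, v x * _), ← mul_zero (t p + 1), ← show ∑ x, v x = 0 from hv,
        Finset.mul_sum, ← Finset.sum_add_distrib]
      exact Finset.sum_congr rfl fun x _ => by rw [e1 x]; ring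
    rw [swap_inv, comp_swap]
    rcases z2_cases (v p + v q) with e | e <;> rw [e]
    · simpa using (h1 v hv).mpr (e2.trans e)
    · rw [one_smul, h.add _ _ hv (ev_δ p q)]
      exact hd.moved (h.mem hv) (mt (h1 v hv).mp (by simp [e2, e]))
  have b : ∀ x y, vec I 0 x = vec I 0 y → ∃ g, Acts β g (swap x y) := fun x y e => by
    by_cases hxy : x = y
    · exact ⟨1, by rw [hxy, swap_self]; exact acts_one⟩
    · exact hs x y hxy e
  have k : ∀ x y, vec I 0 x = 1 → vec I 0 y = 0 → ∃ g, Acts β g (swap x y) := fun x y hx hy => by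
    obtain ⟨g, hg⟩ := b p x (hp.trans hx.symm)
    obtain ⟨g', hg'⟩ := b q y (hq.trans hy.symm)
    have := hg'.conj (hg.conj a)
    rw [swap_apply_left, swap_apply_of_ne_of_ne (a := p) hpq.symm (by rintro rfl; simp [hx] at hq),
      swap_apply_left, swap_apply_of_ne_of_ne (by rintro rfl; simp [hx] at hq)
        (by rintro rfl; simp [hx] at hy)] at this
    exact ⟨_, this⟩
  refine exists_acts fun x y _ => ?_
  rcases z2_cases (vec I 0 x) with e | e <;> rcases z2_cases (vec I 0 y) with e' | e'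
  · exact b x y (e.trans e'.symm)
  · rw [swap_comm]; exact k y x e' e
  · exact k x y e e'
  · exact b x y (e.trans e'.symm)

end BS

end Cfsg.Lib.Alt
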