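import Cfsg.Agent.Lib.Alt.M3
import Cfsg.Agent.Lib.FT.GW.Cor
import Cfsg.Agent.Lib.BSW.D8

/-!
The case of one block: the alternating groups of degree six and seven.
-/

set_option autoImplicit false

namespace Cfsg.Lib.Alt

open Equiv Subgroup Cfsg.Lib.Kondo Cfsg.Lib.FT
open scoped commutatorElement

variable {G : Type*} [Group G]

/-- reindexing the blocks -/
def reix {κ κ' : Type} (e : κ ≃ κ') : HJ κ' →* HJ κ :=
  MonoidHom.mk' (fun x => ⟨x.a ∘ e, x.d ∘ e, x.v ∘ e⟩) fun _ _ => rfl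

theorem JH.reix {κ κ' : Type} [Fintype κ] [DecidableEq κ] [Fintype κ'] [DecidableEq κ']
    {Λ : HJ κ →* G} {w : G} (H : JH Λ w) (e : κ ≃ κ') : JH (Λ.comp (reix e)) w := by
  refine ⟨H.inj.comp fun x y h => ?_, H.w3, fun x => ?_, fun g hg => ?_⟩
  · have h1 := HJ.ext_iff.mp h
    exact HJ.ext (e.surjective.injective_comp_right h1.1) (e.surjective.injective_comp_right h1.2.1)
      (e.surjective.injective_comp_right h1.2.2)
  · rw [MonoidHom.comp_apply, H.wconj, ← e.sum_comp]; rfl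
  · obtain ⟨x, k, h⟩ := H.cz g fun i => by
      have : Alt.reix e (zq (δ (e i))) = zq (δ i) := by
        ext j <;> simp [Alt.reix, Pi.single_apply]
      rw [← this]; exact hg (e i)
    refine ⟨⟨x.a ∘ e.symm, x.d ∘ e.symm, x.v ∘ e.symm⟩, k, h.trans ?_⟩
    rw [MonoidHom.comp_apply]
    congr 2
    ext j <;> simp [Alt.reix]

instance : DecidableEq (HJ Unit) := fun _ _ => decidable_of_iff _ HJ.ext_iff.symm

instance : Fintype (HJ Unit) :=
  Fintype.ofEquiv ((Unit → ZMod 2) × (Unit → ZMod 2) × (Unit → ZMod 2))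
    ⟨fun x => ⟨x.1, x.2.1, x.2.2⟩, fun x => (x.a, x.d, x.v), fun _ => rfl, fun _ => rfl⟩

theorem mem_rot {x : HJ Unit} : x ∈ zpowers (⟨0, 1, 1⟩ : HJ Unit) ↔ x.d = x.v := by
  refine ⟨fun h => ?_, fun h => ?_⟩
  · let K : Subgroup (HJ Unit) :=
      { carrier := {x | x.d = x.v}
        one_mem' := rfl
        mul_mem' := fun h h' => congrArg₂ (· + ·) h h'
        inv_mem' := id }
    exact (zpowers_le (H := K)).mpr rfl h
  · have : ∀ x : HJ Unit, x.d = x.v → ∃ n : Fin 4, (⟨0, 1, 1⟩ : HJ Unit) ^ (n : ℕ) = x := by decide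
    obtain ⟨n, rfl⟩ := this x h
    exact pow_mem (mem_zpowers _) _

theorem isD8_HJ : BSW.IsD8 (HJ Unit) :=
  ⟨⟨0, 1, 1⟩, ⟨0, 0, 1⟩, orderOf_eq_prime_pow (p := 2) (n := 1) (by decide) (by decide), by decide,
    by decide, by rw [mem_rot]; decide, fun g => by simp only [mem_rot]; revert g; decide⟩

namespace JH

variable [Finite G] {Λ : HJ Unit →* G} {w : G} (H : JH Λ w)
include H

theorem isSylowIn : IsSylowIn 2 Λ.range ⊤ :=
  ⟨le_top, isPGroup_range, fun R hR _ h => le_antisymm (fun g hg => H.mem_range hR h hg fun i => by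
    obtain ⟨π, hπ⟩ := H.zz_conj (H.le_N hR h hg)
    rw [hπ, δ_comp]) h⟩

omit [Finite G] in
theorem orderOf_eq {x : HJ Unit} (h1 : x * x = 1) (h2 : x ≠ 1) : orderOf (Λ x) = 2 :=
  orderOf_eq_prime (by rw [pow_two, ← map_mul, h1, map_one]) fun e => h2 (H.inj (by rw [e, map_one]))

omit [Finite G] in
theorem cz' {g : G} (hg : g ∈ C1[Λ (zq (δ ()))]) : ∃ x, ∃ k : ℕ, g = Λ x * w ^ k :=
  H.cz g fun _ => mul_inv_eq_iff_eq_mul.mpr (mem_C1.mp hg)

omit [Finite G] H in
theorem range_le : Λ.range ≤ C1[Λ (zq (δ ()))] := by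
  rintro _ ⟨x, rfl⟩
  rw [mem_C1, ← map_mul, zq_comm, map_mul]

theorem dih2 : GW.Dih2 G := by
  have key : ∀ x, Λ x ∈ zpowers (Λ ⟨0, 1, 1⟩) ↔ x.d = x.v := fun x => by
    rw [← MonoidHom.map_zpowers, mem_map_iff_mem H.inj, mem_rot]
  refine GW.dih2_of_gen (c := Λ ⟨0, 1, 1⟩) H.isSylowIn ⟨⟨_, rfl⟩, ?_, ?_⟩
  · rintro _ ⟨x, rfl⟩ h
    rw [key] at h
    rw [← map_mul, ← map_one Λ]; congr 1
    revert x; decide
  · rintro _ ⟨x, rfl⟩ _ ⟨y, rfl⟩ h h'
    rw [← map_mul, key]
    rw [key] at h h'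
    revert x y; decide

theorem base_one (hG : ∀ N : Subgroup G, N.index ≠ 2) (hw : w = 1) :
    Nonempty (G ≃* alternatingGroup (Fin 6)) ∨ Nat.card G = 168 := by
  have e : C1[Λ (zq (δ ()))] = Λ.range := le_antisymm (fun g hg => by
    obtain ⟨x, k, rfl⟩ := H.cz' hg
    rw [hw, one_pow, mul_one]; exact ⟨x, rfl⟩) range_le
  refine (BSW.a6_or_psl27 hG (H.orderOf_eq (x := zq (δ ())) (by decide) (by decide)) ?_ ?_).imp_right
    And.left <;> rw [e]
  · exact isD8_HJ.of_equiv (MonoidHom.ofInjective H.inj).symm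
  · have := H.isSylowIn.not_dvd_relIndex
    rw [relIndex_top_right] at this
    exact Nat.odd_iff.mpr (by omega)

theorem base_three (hG : ∀ N : Subgroup G, N.index ≠ 2) (hw : w ≠ 1) :
    Nonempty (G ≃* alternatingGroup (Fin 7)) := by
  have hd := H.dih2
  have hc := hd.oneClass hG
  have ou := H.orderOf_eq (x := zq (δ ())) (by decide) (by decide)
  have os := H.orderOf_eq (x := sq' ()) (by decide) (by decide)
  have oe := H.orderOf_eq (x := eq' ()) (by decide) (by decide)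
  have ow : orderOf w = 3 := orderOf_eq_prime H.w3 hw
  have ws : Λ (sq' ()) * w = w * Λ (sq' ()) := H.comm_w (by decide)
  have wu : w ∈ C1[Λ (zq (δ ()))] := mem_C1.mpr (H.comm_w (by decide)).symm
  have we : Λ (eq' ()) * w ≠ w * Λ (eq' ()) := fun e => hw (H.eq_one_of_comm (by decide) e)
  have nc : C1[Λ (zq (δ ()))] ≠ ⊤ := fun h => by
    obtain ⟨g, hg⟩ := hc.exists_conj ou os
    rw [mem_C1.mp (h.ge (mem_top g)), mul_inv_cancel_right] at hg
    exact absurd (H.inj hg) (by decide)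
  have hO : pPrimeCore 2 G = ⊥ := by
    have h0 : Odd (Nat.card (pPrimeCore 2 G)) :=
      Nat.odd_iff.mpr (by have := not_dvd_card_pPrimeCore (p := 2) (G := G); omega)
    have h1 : ∀ g ∈ pPrimeCore 2 G, g ∈ C1[Λ (zq (δ ()))] → g = 1 ∨ g = w ∨ g = w⁻¹ := fun g h1 h2 => by
      obtain ⟨x, k, e⟩ := H.cz' h2
      have h3 := hd.mem_oc ou le_rfl h2 (GW.odd_orderOf h0 h1)
      have h4 := hd.mem_oc ou le_rfl wu (by rw [ow]; decide)
      have h5 : Λ x ∈ _ := (mul_mem_cancel_right (pow_mem h4 k)).mp (e ▸ h3)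
      have h6 := GW.odd_orderOf (GW.odd_oc _) h5
      have h7 : Λ x = 1 := by
        rw [← orderOf_eq_one_iff]
        refine Nat.eq_one_of_dvd_coprimes (Nat.coprime_two_left.mpr h6 |>.pow_left 2) ?_ dvd_rfl
        exact orderOf_dvd_of_pow_eq_one (by rw [← map_pow, show 2 ^ 2 = 4 from rfl, x.pow_four, map_one])
      rw [e, h7, one_mul]; exact H.pow_cases k
    have h2 : ∀ t, orderOf t = 2 → ∀ X : Subgroup G, (∀ g, t = g * Λ (zq (δ ())) * g⁻¹ → g * w * g⁻¹ ∈ pPrimeCore 2 G →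
        g * w * g⁻¹ ∈ X) → pPrimeCore 2 G ⊓ C1[t] ≤ X := fun t ht X hX y hy => by
      obtain ⟨g, rfl⟩ := hc.exists_conj ou ht
      have h3 : g⁻¹ * y * g ∈ pPrimeCore 2 G := Normal.conj_mem' inferInstance _ hy.1 g
      have e : y = g * (g⁻¹ * y * g) * g⁻¹ := by group
      rw [GW.c1_conj] at hy
      rcases h1 _ h3 (mem_map_conj.mp hy.2) with e' | e' | e' <;> rw [e'] at e
      · simp [e]
      · exact e ▸ hX g rfl (e ▸ hy.1)
      · rw [← conj_inv] at e
        rw [e, inv_mem_iff]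
        exact hX g rfl (inv_mem_iff.mp (e ▸ hy.1))
    have f1 : GW.Four (Λ (zq (δ ()))) (Λ (sq' ())) :=
      ⟨ou, os, fun e => absurd (H.inj e) (by decide), by rw [← map_mul, ← map_mul]; congr 1⟩
    have h3 : ∀ t ∈ GW.four (Λ (zq (δ ()))) (Λ (sq' ())), orderOf t = 2 →
        pPrimeCore 2 G ⊓ C1[t] ≤ C1[Λ (zq (δ ()))] := fun t ht ho => h2 t ho _ fun g hg _ => by
      have h4 : w ∈ C1[t] := centralizer_le_singleton ht
        (by rw [GW.centralizer_four]; exact ⟨wu, mem_C1.mpr ws.symm⟩)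
      rw [hg, GW.c1_conj, mem_map_conj] at h4
      rcases H.three_mem (g := g⁻¹ * w * g) (by simpa [H.w3] using conj_pow (i := 3) (a := g⁻¹) (b := w))
        (fun _ => mul_inv_eq_iff_eq_mul.mpr (mem_C1.mp h4)) with e | e | e
      · exact absurd (conj_eq_one_iff.mp (by rwa [inv_inv])) hw
      · rw [← e]; simpa [mul_assoc] using wu
      · rw [← inv_mem_iff, conj_inv, ← e]; simpa [mul_assoc] using wu
    have h4 : pPrimeCore 2 G ≤ C1[Λ (zq (δ ()))] :=
      f1.le_of_odd h0 (le_normalizer_of_normal (mem_top _)) (le_normalizer_of_normal (mem_top _))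
        inf_le_right (h3 _ (GW.right_mem_four _ _) os)
        (h3 _ (mul_mem (GW.left_mem_four _ _) (GW.right_mem_four _ _)) f1.hw)
    have h5 : w ∉ pPrimeCore 2 G := fun h => by
      obtain ⟨g, hg⟩ := hc.exists_conj ou oe
      have := h4 (Normal.conj_mem' inferInstance _ h g)
      rw [← mem_map_conj, ← GW.c1_conj, hg] at this
      exact we (mem_C1.mp this).symm
    refine eq_bot_iff.mpr fun g hg => ?_
    rcases h1 g hg (h4 hg) with rfl | rfl | rfl
    exacts [rfl, absurd hg h5, absurd (inv_mem_iff.mp hg) h5]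
  have hns : ¬ Group.IsSolvable G := fun hs => by
    rcases hd.char_two (GW.oc_top.trans hO) (fun e => hw (e.le (mem_top w)))
      (inf_centralizer_fittingOf_le inferInstance) with ⟨z, hz, h⟩ | ⟨a, b, -, -, -, h⟩
    · obtain ⟨g, rfl⟩ := hc.exists_conj ou hz
      rw [GW.c1_conj, top_le_iff] at h
      exact nc (by rw [← map_conj_inv_map_conj C1[_] g, h]; exact map_top_of_surjective _ (MulAut.conj _).surjective)
    · have h1 : 8 ∣ Nat.card C1[Λ (zq (δ ()))] := by
        have := card_dvd_of_le (range_le (Λ := Λ))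
        rwa [← Nat.card_congr (MonoidHom.ofInjective H.inj).toEquiv, Nat.card_eq_fintype_card] at this
      have h2 := ow ▸ Subgroup.orderOf_dvd_natCard _ wu
      exact nc (eq_of_le_of_card_ge le_top (Nat.le_of_dvd Nat.card_pos
        (h.trans (Nat.Coprime.mul_dvd_of_dvd_of_dvd (by decide) h1 h2))))
  obtain ⟨L, hL, -, -, h | h⟩ := hd.exists_almS hO hns
  · have h1 : w ∈ L := GW.l2_commutator hL h (by
      have : w = ⁅Λ (eq' ()), w⁆ := by
        rw [commutatorElement_def, H.wconj, if_neg (by decide), eq_comm, ← mul_inv_rev,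
          inv_eq_iff_mul_eq_one, ← H.w3, pow_succ, pow_two]
      rw [this]
      exact commutator_mem_commutator (mem_top _) (mem_top _))
    have h2 := GW.l2_inverts hL h ou os (fun e => absurd (H.inj e) (by decide))
      (by rw [← map_mul, ← map_mul]; congr 1)
      (hd.mem_oc ou inf_le_right (a := w) ⟨h1, wu⟩ (by rw [ow]; decide))
    rw [ws, mul_inv_cancel_right] at h2
    exact absurd (eq_one_of_two_three (k := 1) (by rw [pow_one, pow_two, mul_eq_one_iff_eq_inv, ← h2]) H.w3) hw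
  · exact (GW.a7_top hL h ▸ h).of_equiv topEquiv

end JH

end Cfsg.Lib.Alt
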