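import Cfsg.Agent.Lib.Alt.M3

/-!
The involutions inducing transpositions and the three-cycles.
-/

set_option autoImplicit false

namespace Cfsg.Lib.Alt

open Equiv Subgroup Cfsg.Lib.Kondo Cfsg.Lib.FT

variable {ι : Type} [DecidableEq ι] [Fintype ι] {G : Type*} [Group G] {β : (ι → ZMod 2) → G}

/-- `x` behaves as a three-cycle on the pair `p` and one point of the pair `q` -/
structure XR (β : (ι → ZMod 2) → G) (p q : ι) (x : G) : Prop where
  x3 : x ^ 3 = 1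
  xc : ∀ v, Ev v → v p = 0 → v q = 0 → β v * x * (β v)⁻¹ = x
  xi : ∀ v, Ev v → v p = 1 → v q = 0 → β v * x * (β v)⁻¹ = x⁻¹
  xb : (x * β (δ p + δ q)) ^ 3 = 1

/-- `π` is an involution of the first type inducing a transposition -/
structure IsPi (β : (ι → ZMod 2) → G) (p q : ι) (π : G) : Prop where
  act : Acts β π (swap p q)
  sq : π * π = 1
  typ : ∃ g p' q', p' ≠ q' ∧ g * π * g⁻¹ = β (δ p' + δ q')

theorem XR.conj {p q : ι} {x g : G} {σ : Perm ι} (h : XR β p q x) (hg : Acts β g σ) :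
    XR β (σ p) (σ q) (g * x * g⁻¹) := by
  have e : ∀ v, Ev v → β v = g * β (v ∘ σ) * g⁻¹ := fun v hv => by
    rw [hg _ (hv.comp σ)]; congr 1; funext x; simp
  refine ⟨by rw [conj_pow, h.x3]; simp, fun v hv h1 h2 => ?_, fun v hv h1 h2 => ?_, ?_⟩
  · rw [e v hv, conj_conj_eq (h.xc _ (hv.comp σ) h1 h2)]
  · rw [e v hv, conj_conj_eq (h.xi _ (hv.comp σ) h1 h2), conj_inv]
  · rw [← hg.δδ, conj_mul, conj_pow, h.xb]; simp

theorem XR.inv {p q : ι} {x : G} (B : BS β) (h : XR β p q x) : XR β p q x⁻¹ := by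
  refine ⟨by rw [inv_pow, h.x3, inv_one], fun v hv h1 h2 => by rw [← conj_inv, h.xc v hv h1 h2],
    fun v hv h1 h2 => by rw [← conj_inv, h.xi v hv h1 h2], ?_⟩
  have : x⁻¹ * β (δ p + δ q) = x⁻¹ * (x * β (δ p + δ q))⁻¹ * x⁻¹⁻¹ := by
    rw [mul_inv_rev, B.inv (ev_δ p q)]; group
  rw [this, conj_pow, inv_pow, h.xb]; simp

theorem IsPi.conj {p q : ι} {π g : G} {σ : Perm ι} (h : IsPi β p q π) (hg : Acts β g σ) :
    IsPi β (σ p) (σ q) (g * π * g⁻¹) := by
  obtain ⟨k, p', q', h1, h2⟩ := h.typ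
  exact ⟨hg.conj h.act, by rw [conj_mul, h.sq]; simp, k * g⁻¹, p', q', h1, by rw [← h2]; group⟩

theorem IsPi.symm {p q : ι} {π : G} (h : IsPi β p q π) : IsPi β q p π :=
  ⟨swap_comm p q ▸ h.act, h.sq, h.typ⟩

theorem IsPi.inv {p q : ι} {π : G} (h : IsPi β p q π) : π⁻¹ = π := inv_eq_of_mul_eq_one_left h.sq

theorem a4_rel {x b : G} (h1 : x ^ 3 = 1) (h2 : b * b = 1) (h3 : (x * b) ^ 3 = 1) :
    x * b * x⁻¹ * b = x⁻¹ * b * x ∧ b * (x * b * x⁻¹) = x⁻¹ * b * x := by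
  have e1 : x⁻¹ = x * x := inv_eq_of_mul_eq_one_left (by rw [← pow_three', h1])
  have e2 : b⁻¹ = b := inv_eq_of_mul_eq_one_left h2
  have e3 : b * x * b = x⁻¹ * b * x⁻¹ := by
    calc _ = x⁻¹ * (x * b) ^ 3 * b⁻¹ * x⁻¹ := by rw [pow_three']; group
      _ = _ := by rw [h3, e2, mul_one]
  have e4 : b * x⁻¹ * b = x * b * x := by
    calc _ = (b * x * b)⁻¹ := by rw [mul_inv_rev, mul_inv_rev, e2, mul_assoc]
      _ = _ := by rw [e3, mul_inv_rev, mul_inv_rev, e2]; group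
  constructor
  · calc _ = x * (b * x⁻¹ * b) := by group
      _ = _ := by rw [e4, e1]; group
  · calc _ = b * x * b * x⁻¹ := by group
      _ = x⁻¹ * b * (x * x)⁻¹ := by rw [e3]; group
      _ = _ := by rw [← e1, inv_inv]

theorem split_vec (v : ι → ZMod 2) {p q : ι} (hpq : p ≠ q) (e : v p = v q) :
    (v + v p • (δ p + δ q)) p = 0 ∧ (v + v p • (δ p + δ q)) q = 0 := by
  simp [hpq, hpq.symm, e, z2_add]

namespace XR

variable (B : BS β) {p q o : ι} {x : G} (h : XR β p q x) (hpq : p ≠ q) (hp : o ≠ p) (hq : o ≠ q)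
include B h

theorem rel : x * β (δ p + δ q) * x⁻¹ * β (δ p + δ q) = x⁻¹ * β (δ p + δ q) * x ∧
    β (δ p + δ q) * (x * β (δ p + δ q) * x⁻¹) = x⁻¹ * β (δ p + δ q) * x :=
  a4_rel h.x3 (B.sq (ev_δ p q)) h.xb

omit B in
theorem comm {v : ι → ZMod 2} (hv : Ev v) (h1 : v p = 0) (h2 : v q = 0) : Commute (β v) x :=
  mul_inv_eq_iff_eq_mul.mp (h.xc v hv h1 h2)

include hpq hp hq

theorem isPi : IsPi β p q (x * β (δ p + δ q) * x⁻¹) := by
  have h2 : x * β (δ p + δ q) * x⁻¹ * (x * β (δ p + δ q) * x⁻¹) = 1 := by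
    rw [conj_mul, B.sq (ev_δ p q)]; simp
  refine ⟨fun v hv => ?_, h2, x⁻¹, p, q, hpq, by group⟩
  set π := x * β (δ p + δ q) * x⁻¹ with hπ
  have e1 : π * β (δ p + δ o) * π⁻¹ = β (δ q + δ o) := by
    have e2 : β (δ p + δ o) * π * (β (δ p + δ o))⁻¹ = π * β (δ p + δ q) := by
      rw [(h.rel B).1, hπ, ← conj_mul, ← conj_mul, ← conj_inv,
        h.xi _ (ev_δ p o) (by simp [hp.symm]) (by simp [hpq.symm, hq.symm]),
        B.comm (ev_δ p o) (ev_δ p q), mul_inv_cancel_right, inv_inv]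
    rw [inv_eq_of_mul_eq_one_left h2, mul_assoc, mul_inv_eq_iff_eq_mul.mp e2, ← mul_assoc,
      ← mul_assoc, h2, one_mul, ← B.add _ _ (ev_δ _ _) (ev_δ _ _), add_add_add_comm, vadd, zero_add]
  refine hv.induction o (P := fun v => π * β v * π⁻¹ = β (v ∘ ⇑(swap p q)⁻¹)) (by simp [B.zero])
    (fun y => ?_) fun v v' hv hv' a b => by
      rw [B.add _ _ hv hv', ← conj_mul, a, b, ← B.add _ _ (hv.comp _) (hv'.comp _)]; rfl
  rw [δδ_comp, swap_apply_of_ne_of_ne hp hq]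
  by_cases e : y = p
  · rw [e, swap_apply_left, e1]
  by_cases e' : y = q
  · rw [e', swap_apply_right, ← e1, inv_eq_of_mul_eq_one_left h2]
    calc _ = π * π * β (δ p + δ o) * (π * π) := by group
      _ = _ := by rw [h2]; simp
  · have := h.comm (ev_δ y o) (by simp [hp.symm, Ne.symm e]) (by simp [hq.symm, Ne.symm e'])
    rw [swap_apply_of_ne_of_ne e e', mul_inv_eq_iff_eq_mul]
    exact ((this.mul_right (B.comm (ev_δ _ _) (ev_δ _ _))).mul_right this.inv_right).symm.eq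

end XR

/-- the hypotheses on the module -/
structure BD (β : (ι → ZMod 2) → G) : Prop where
  bs : BS β
  sn : ∀ σ, ∃ g, Acts β g σ
  nf : ∀ g v v', Ev v → Ev v' → g * β v * g⁻¹ = β v' → wt v = wt v'
  cb : ∀ g, (∀ v, Ev v → g * β v * g⁻¹ = β v) → ∃ v, Ev v ∧ β v = g
  hw : ∃ p q, p ≠ q ∧ ∀ g, (∀ v, Ev v → v p = v q → g * β v * g⁻¹ = β v) →
    Acts β g 1 ∨ Acts β g (swap p q)
  third : ∀ p q : ι, ∃ o, o ≠ p ∧ o ≠ q
  xr : ∃ p q x, p ≠ q ∧ XR β p q x

omit [DecidableEq ι] [Fintype ι] in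
theorem inj2 {a b : ι} (h : a ≠ b) : Function.Injective ![a, b] := by
  intro i j e
  fin_cases i <;> fin_cases j <;> simp_all [eq_comm]

theorem wt_δδ {p q : ι} (h : p ≠ q) : wt (δ p + δ q) = 2 := by
  rw [wt_add_δ (by simp [h.symm]), wt_δ]

namespace BD

variable (D : BD β)
include D

theorem exists_xr {p q : ι} (h : p ≠ q) : ∃ x, XR β p q x := by
  obtain ⟨p', q', x, h1, h2⟩ := D.xr
  obtain ⟨σ, hσ⟩ := Perm.exists_extending_pair _ _ (inj2 h1) (inj2 h)
  obtain ⟨g, hg⟩ := D.sn σ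
  exact ⟨_, (hσ 0 : σ p' = p) ▸ (hσ 1 : σ q' = q) ▸ h2.conj hg⟩

theorem exists_isPi {p q : ι} (h : p ≠ q) : ∃ π, IsPi β p q π := by
  obtain ⟨x, hx⟩ := D.exists_xr h
  obtain ⟨o, h1, h2⟩ := D.third p q
  exact ⟨_, hx.isPi D.bs h h1 h2⟩

theorem exists_eq_mul {g g' : G} {σ : Perm ι} (h : Acts β g σ) (h' : Acts β g' σ) :
    ∃ v, Ev v ∧ g' = g * β v := by
  obtain ⟨v, hv, e⟩ := D.cb (g⁻¹ * g') fun v hv => by simpa using h.inv.mul h' v hv
  exact ⟨v, hv, by rw [e, mul_inv_cancel_left]⟩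

theorem eq_of_sq {p q : ι} {π : G} (h : p ≠ q) (hπ : IsPi β p q π) {v : ι → ZMod 2} (hv : Ev v)
    (e : π * β v * (π * β v) = 1) : v p = v q := by
  by_contra hne
  refine D.bs.moves hπ.act h hv hne ?_
  rw [hπ.inv, eq_inv_of_mul_eq_one_left (a := π * β v * π) (b := β v) (by rw [← e]; group),
    D.bs.inv hv]

theorem unique' {p q : ι} {x π : G} (h : p ≠ q) (hx : XR β p q x) (hπ : IsPi β p q π) :
    π = x * β (δ p + δ q) * x⁻¹ ∨ π = x * β (δ p + δ q) * x⁻¹ * β (δ p + δ q) := by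
  obtain ⟨o, h1, h2⟩ := D.third p q
  have h0 := hx.isPi D.bs h h1 h2
  obtain ⟨v, hv, rfl⟩ := D.exists_eq_mul h0.act hπ.act
  have e := D.eq_of_sq h h0 hv hπ.sq
  obtain ⟨g, p', q', h3, h4⟩ := hπ.typ
  obtain ⟨e1, e2⟩ := split_vec v h e
  have hv' := hv.add ((ev_δ p q).smul (v p))
  have h5 := hx.comm hv' e1 e2
  have key : ∀ k, x * β (δ p + δ q) * x⁻¹ * β v =
      k * (β (v + v p • (δ p + δ q)) * β (δ p + δ q)) * k⁻¹ → v = v p • (δ p + δ q) := fun k hk => by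
    have := D.nf (g * k) _ _ (hv'.add (ev_δ p q)) (ev_δ p' q')
      (by rw [← h4, hk, D.bs.add _ _ hv' (ev_δ p q)]; group)
    rw [← add_assoc, wt_add_δ (by simpa [h.symm] using e2), wt_add_δ e1, wt_δδ h3] at this
    have e3 : v + v p • (δ p + δ q) = 0 := funext fun x => (z2_cases _).resolve_right
      (Finset.filter_eq_empty_iff.mp (Finset.card_eq_zero.mp (show wt _ = 0 by omega)) (Finset.mem_univ x))
    linear_combination e3 - vadd (v p • (δ p + δ q))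
  rcases z2_cases (v p) with e3 | e3 <;> rw [e3] at key h5
  · left
    rw [zero_smul, add_zero] at key h5
    rw [key x (by rw [D.bs.comm hv (ev_δ p q), mul_assoc, ← h5.inv_right.eq]; group), D.bs.zero,
      mul_one]
  · right
    rw [one_smul] at key h5
    rw [← key x⁻¹ ?_]
    rw [D.bs.comm (hv.add (ev_δ p q)) (ev_δ p q), inv_inv, ← mul_assoc x⁻¹, mul_assoc _ _ x, h5.eq,
      ← mul_assoc, ← (hx.rel D.bs).1, mul_assoc (_ * x⁻¹),
      ← D.bs.add _ _ (ev_δ p q) (hv.add (ev_δ p q)), add_left_comm, vadd, add_zero]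

theorem unique {p q : ι} {π π' : G} (h : p ≠ q) (hπ : IsPi β p q π) (hπ' : IsPi β p q π') :
    π' = π ∨ π' = π * β (δ p + δ q) := by
  obtain ⟨x, hx⟩ := D.exists_xr h
  rcases D.unique' h hx hπ with rfl | rfl <;> rcases D.unique' h hx hπ' with rfl | rfl
  · exact Or.inl rfl
  · exact Or.inr rfl
  · exact Or.inr (by rw [mul_assoc (_ * x⁻¹), D.bs.sq (ev_δ p q), mul_one])
  · exact Or.inl rfl

theorem hw' {p q : ι} (h : p ≠ q) {g : G} (hg : ∀ v, Ev v → v p = v q → g * β v * g⁻¹ = β v) :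
    Acts β g 1 ∨ Acts β g (swap p q) := by
  obtain ⟨p', q', h1, h2⟩ := D.hw
  obtain ⟨σ, hσ⟩ := Perm.exists_extending_pair _ _ (inj2 h1) (inj2 h)
  obtain ⟨k, hk⟩ := D.sn σ
  obtain rfl : σ p' = p := hσ 0
  obtain rfl : σ q' = q := hσ 1
  have := h2 (k⁻¹ * g * k) fun v hv e => by
    have e1 := hk v hv
    rw [← mul_left_inj k⁻¹, ← mul_right_inj k, ← mul_assoc k (β v), e1,
      ← hg _ (hv.comp _) (by simpa using e), ← e1]
    group
  rw [show g = k * (k⁻¹ * g * k) * k⁻¹ by group]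
  exact this.imp (fun a => by simpa using (hk.mul a).mul hk.inv) hk.conj

/-- the alternating group on two pairs is determined -/
theorem comm_xr {p q : ι} (h : p ≠ q) {x y t : G} (hx : XR β p q x) (hy : XR β p q y)
    (h1 : Commute t y) (h2 : Commute t (β (δ p + δ q))) : Commute t x := by
  obtain ⟨o, o1, o2⟩ := D.third p q
  wlog e : y * β (δ p + δ q) * y⁻¹ = x * β (δ p + δ q) * x⁻¹ generalizing y
  · refine this (hy.inv D.bs) h1.inv_right ?_
    rw [inv_inv, ← (hy.rel D.bs).1, (D.unique' h hx (hy.isPi D.bs h o1 o2)).resolve_left e,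
      mul_assoc (_ * x⁻¹), D.bs.sq (ev_δ p q), mul_one]
  have h0 := hy.isPi D.bs h o1 o2
  set b := β (δ p + δ q) with hb
  have c1 : Commute (y⁻¹ * x) b := by
    rw [Commute, SemiconjBy, ← mul_inv_eq_iff_eq_mul]
    calc _ = y⁻¹ * (x * b * x⁻¹) * y := by group
      _ = _ := by rw [← e]; group
  have c2 : Commute (y⁻¹ * x) (y * b * y⁻¹) := by
    have k : ∀ {x}, XR β p q x → x * (x * b * x⁻¹) * x⁻¹ = x * b * x⁻¹ * b := fun {x} hx => by
      rw [hb, (hx.rel D.bs).1, ← hb]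
      calc _ = x⁻¹ * x ^ 3 * b * (x ^ 3)⁻¹ * x := by rw [pow_three']; group
        _ = _ := by rw [hx.x3]; group
    rw [Commute, SemiconjBy, ← mul_inv_eq_iff_eq_mul]
    calc _ = y⁻¹ * (x * (y * b * y⁻¹) * x⁻¹) * y := by group
      _ = _ := by rw [e, k hx, ← e, ← k hy]; group
  obtain ⟨r, hr, v, hv, e1, e2⟩ : ∃ r, (r = 1 ∨ r = y * b * y⁻¹) ∧ ∃ v, Ev v ∧ v p = v q ∧
      y⁻¹ * x = r * β v := by
    have k : ∀ r v, Ev v → Commute r (y * b * y⁻¹) → y⁻¹ * x = r * β v → v p = v q :=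
      fun r v hv c e => by
        by_contra hne
        refine D.bs.moves h0.act h hv hne (mul_inv_eq_iff_eq_mul.mpr ?_)
        have := (c.inv_left.mul_left (e ▸ c2)).symm.eq
        rwa [← mul_assoc r⁻¹, inv_mul_cancel, one_mul] at this
    rcases D.hw' h (g := y⁻¹ * x) (fun v hv e => by
      obtain ⟨e1, e2⟩ := split_vec v h e
      have hv' := hv.add ((ev_δ p q).smul (v p))
      have c3 := (hy.comm hv' e1 e2).inv_right.mul_right (hx.comm hv' e1 e2)
      rw [mul_inv_eq_iff_eq_mul]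
      rcases z2_cases (v p) with e3 | e3 <;> rw [e3] at c3
      · simpa using c3.symm.eq
      · have := c3.symm.mul_right c1
        rwa [one_smul, hb, ← D.bs.add _ _ (hv.add (ev_δ p q)) (ev_δ p q), add_assoc, vadd,
          add_zero] at this) with a | a
    · obtain ⟨v, hv, e⟩ := D.exists_eq_mul acts_one a
      exact ⟨1, Or.inl rfl, v, hv, k 1 v hv (Commute.one_left _) e, e⟩
    · obtain ⟨v, hv, e⟩ := D.exists_eq_mul h0.act a
      exact ⟨_, Or.inr rfl, v, hv, k _ v hv (Commute.refl _) e, e⟩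
  obtain ⟨e3, e4⟩ := split_vec v h e1
  have hv' := hv.add ((ev_δ p q).smul (v p))
  set u := β (v + v p • (δ p + δ q)) with hu
  have c3 : Commute u y := hy.comm hv' e3 e4
  have c4 : Commute u b := D.bs.comm hv' (ev_δ p q)
  obtain ⟨a, a1, a2, a3, a4⟩ : ∃ a, a ^ 3 = 1 ∧ Commute u a ∧ Commute t a ∧ x = a * u := by
    have k : ∀ s : G, Commute s y → Commute s b → Commute s (y * b * y⁻¹) := fun s a b =>
      (a.mul_right b).mul_right a.inv_right
    rw [inv_mul_eq_iff_eq_mul] at e2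
    rcases z2_cases (v p) with e5 | e5 <;> rw [e5] at hu
    · rw [zero_smul, add_zero] at hu
      rcases hr with rfl | rfl
      · exact ⟨y, hy.x3, c3, h1, by rw [e2, hu, one_mul]⟩
      · exact ⟨y * (y * b * y⁻¹), by
          rw [show y * (y * b * y⁻¹) = y * (y * b) * y⁻¹ by group, conj_pow, hy.xb]; simp,
          c3.mul_right (k u c3 c4), h1.mul_right (k t h1 h2), by rw [e2, hu]; group⟩
    · have e6 : β v = b * u := by
        rw [hu, one_smul, hb, ← D.bs.add _ _ (ev_δ p q) (hv.add (ev_δ p q)), add_left_comm, vadd,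
          add_zero]
      rcases hr with rfl | rfl
      · exact ⟨y * b, hy.xb, c3.mul_right c4, h1.mul_right h2, by rw [e2, e6]; group⟩
      · exact ⟨y * (y * b * y⁻¹ * b), by
          rw [(hy.rel D.bs).1, show y * (y⁻¹ * b * y) = y⁻¹ * (y * b) * y⁻¹⁻¹ by group, conj_pow,
            hy.xb]; simp,
          c3.mul_right ((k u c3 c4).mul_right c4), h1.mul_right ((k t h1 h2).mul_right h2),
          by rw [e2, e6]; group⟩
  have := hx.x3
  rw [a4, a2.symm.mul_pow, a1, one_mul, pow_three, D.bs.sq hv', mul_one] at this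
  rwa [a4, this, mul_one]

end BD

end Cfsg.Lib.Alt
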