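import Cfsg.Agent.Lib.Alt.C1

/-!
Construction of the alternating subgroup.
-/

set_option autoImplicit false

namespace Cfsg.Lib.Alt

open Equiv Subgroup Cfsg.Lib.Kondo Cfsg.Lib.FT

variable {ι : Type} [DecidableEq ι] [Fintype ι] {G : Type*} [Group G] {β : (ι → ZMod 2) → G}

/-- the data for the construction -/
structure CD (β : (ι → ZMod 2) → G) (o p q : ι) (x s : G) : Prop extends BD β where
  op : o ≠ p
  oq : o ≠ q
  pq : p ≠ q
  hx : XR β o p x
  hs : IsPi β p q s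
  xs : (x * s) ^ 4 = 1
  h5 : ∃ k l π, k ≠ l ∧ k ≠ o ∧ k ≠ p ∧ l ≠ o ∧ l ≠ p ∧ IsPi β k l π ∧ Commute π x

/-- the two three-cycles through a pair -/
def x0 (x b : G) (y : ZMod 2) : G := if y = 0 then x else b * x⁻¹ * b

theorem sq_comm_one {a b : G} (h : (a * b) ^ 2 = 1) : (b * a) ^ 2 = 1 := by
  rw [show b * a = b * (a * b) * b⁻¹ by group, conj_pow, h]; simp

theorem sq_conj_one {a b g : G} (h : (a * b) ^ 2 = 1) : (g * a * g⁻¹ * (g * b * g⁻¹)) ^ 2 = 1 := by
  rw [conj_mul, conj_pow, h]; simp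

namespace CD

variable {o p q : ι} {x s : G} (D : CD β o p q x s)
include D

theorem comm {k l : ι} {π : G} (h : k ≠ l) (h1 : k ≠ o) (h2 : k ≠ p) (h3 : l ≠ o) (h4 : l ≠ p)
    (hπ : IsPi β k l π) (y : ZMod 2) :
    π * x0 x (β (δ o + δ p)) y * π⁻¹ = x0 x (β (δ o + δ p)) y := by
  have hb : ∀ {k l π}, k ≠ o → k ≠ p → l ≠ o → l ≠ p → IsPi β k l π → Commute π (β (δ o + δ p)) :=
    fun h1 h2 h3 h4 hπ => mul_inv_eq_iff_eq_mul.mp (hπ.act.fix (ev_δ _ _) (by simp [h1, h2, h3, h4]))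
  have hx : Commute π x := by
    obtain ⟨k', l', π', a, a1, a2, a3, a4, a5, a6⟩ := D.h5
    obtain ⟨σ, hσ⟩ := Perm.exists_extending_pair _ _ (inj4 D.op a1.symm a2.symm a3.symm a4.symm a)
      (inj4 D.op h1.symm h2.symm h3.symm h4.symm h)
    obtain ⟨g, hg⟩ := D.sn σ
    have b1 := a5.conj hg
    have b2 := D.hx.conj hg
    rw [show σ k' = k from hσ 2, show σ l' = l from hσ 3] at b1
    rw [show σ o = o from hσ 0, show σ p = p from hσ 1] at b2
    have b3 := D.comm_xr D.op D.hx b2 (a6.conj g) (hb h1 h2 h3 h4 b1)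
    rcases D.unique h b1 hπ with rfl | rfl
    · exact b3
    · exact b3.mul_left (D.hx.comm (ev_δ _ _) (by simp [h1.symm, h3.symm]) (by simp [h2.symm, h4.symm]))
  have := hb h1 h2 h3 h4 hπ
  rw [mul_inv_eq_iff_eq_mul, x0]
  split_ifs
  exacts [hx, ((this.mul_right hx.inv_right).mul_right this).eq]

theorem act0 {v : ι → ZMod 2} (hv : Ev v) (h : v o = 0) (y : ZMod 2) :
    β v * x0 x (β (δ o + δ p)) y * (β v)⁻¹ = x0 x (β (δ o + δ p)) (y + v p) := by
  have hb : β v * β (δ o + δ p) * (β v)⁻¹ = β (δ o + δ p) := by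
    rw [D.bs.comm hv (ev_δ _ _), mul_inv_cancel_right]
  have h2 := D.bs.sq (ev_δ o p)
  rcases z2_cases (v p) with e | e
  · have := D.hx.xc v hv h e
    rcases z2_cases y with rfl | rfl <;> simp only [x0, e, add_zero, if_true, one_ne_zero, if_false]
    · exact this
    · rw [← conj_mul, ← conj_mul, ← conj_inv, this, hb]
  · have : β v * x * (β v)⁻¹ = β (δ o + δ p) * x⁻¹ * β (δ o + δ p) := by
      rw [← D.hx.xi _ (hv.add (ev_δ o p)) (by simp [h, D.op]) (by simp [e, D.op.symm, z2_add]),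
        D.bs.add _ _ hv (ev_δ o p), D.bs.comm hv (ev_δ o p), mul_inv_rev, D.bs.inv (ev_δ o p)]
      calc _ = (β (δ o + δ p) * β (δ o + δ p)) * (β v * x * (β v)⁻¹) *
          (β (δ o + δ p) * β (δ o + δ p)) := by rw [h2]; group
        _ = _ := by group
    rcases z2_cases y with rfl | rfl <;>
      simp only [x0, e, zero_add, z2_add, if_true, one_ne_zero, if_false]
    · exact this
    · rw [← conj_mul, ← conj_mul, ← conj_inv, this, hb, mul_inv_rev, mul_inv_rev,
        D.bs.inv (ev_δ o p), inv_inv]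
      calc _ = (β (δ o + δ p) * β (δ o + δ p)) * x * (β (δ o + δ p) * β (δ o + δ p)) := by group
        _ = _ := by rw [h2]; group

theorem exists_family : ∃ X : ι → ZMod 2 → G, X p 0 = x ∧ (∀ k y, X k y ^ 3 = 1) ∧
    (∀ k, k ≠ o → (X k 0)⁻¹ * X k 1 * (X k 0)⁻¹ = β (δ o + δ k)) ∧
    (∀ k, (X k 0 * X k 1) ^ 2 = 1) ∧
    (∀ v, Ev v → v o = 0 → ∀ k, k ≠ o → ∀ y, β v * X k y * (β v)⁻¹ = X k (y + v k)) ∧
    ∀ k l π, k ≠ l → k ≠ o → l ≠ o → IsPi β k l π → ∀ j, j ≠ o →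
      ∃ t, ∀ y, π * X j y * π⁻¹ = X (swap k l j) (y + t) := by
  have : ∀ k, ∃ P, Acts β P (swap p k) ∧ (k = p → P = 1) ∧ (k ≠ p → IsPi β p k P) := fun k => by
    by_cases h : k = p
    · exact ⟨1, by rw [h, swap_self]; exact acts_one, fun _ => rfl, fun e => absurd h e⟩
    · obtain ⟨π, hπ⟩ := D.exists_isPi (Ne.symm h)
      exact ⟨π, hπ.act, fun e => absurd e h, fun _ => hπ⟩
  choose P P1 P2 P3 using this
  have act0 := @D.act0
  have comm := @D.comm
  set b := β (δ o + δ p) with hb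
  have h2 : b * b = 1 := D.bs.sq (ev_δ o p)
  have h3 := D.hx.rel D.bs
  rw [← hb] at h3
  have hi : b⁻¹ = b := inv_eq_of_mul_eq_one_left h2
  refine ⟨fun k y => P k * x0 x b y * (P k)⁻¹, by simp [P2 p rfl, x0], fun k y => ?_, fun k hk => ?_,
    fun k => sq_conj_one ?_, fun v hv h k hk y => ?_, ?_⟩
  · rw [conj_pow, x0]
    split_ifs
    · simp [D.hx.x3]
    · nth_rw 2 [← hi]
      rw [conj_pow, inv_pow, D.hx.x3]; simp
  · have := (P1 k).δδ o p
    rw [swap_apply_left, swap_apply_of_ne_of_ne D.op hk.symm] at this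
    rw [← this, conj_inv, conj_mul, conj_mul, ← hb]
    simp only [x0, if_true, one_ne_zero, if_false]
    congr 2
    calc _ = b⁻¹ * (x * b)⁻¹ ^ 3 := by
          rw [mul_inv_rev, hi, pow_three']; simp only [← mul_assoc, h2, one_mul]
      _ = _ := by rw [inv_pow, D.hx.xb, hi]; simp
  · simp only [x0, if_true, one_ne_zero, if_false]
    calc _ = x⁻¹ * (b * b) * x := by rw [← mul_assoc, ← mul_assoc, h3.1, pow_two]; group
      _ = _ := by rw [h2]; group
  · have := act0 (hv.comp (swap p k)) (by simpa [swap_apply_of_ne_of_ne D.op hk.symm] using h) y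
    rw [Function.comp_apply, swap_apply_left] at this
    beta_reduce
    rw [← this, ← conj_conj_eq (g := P k) rfl, P1 k _ (hv.comp _)]
    congr 4 <;> funext x <;> simp
  have A : ∀ l π, l ≠ p → l ≠ o → IsPi β p l π → ∃ t, ∀ y,
      π * x0 x b y * π⁻¹ = P l * x0 x b (y + t) * (P l)⁻¹ := fun l π h1 h2 hπ => by
    rcases D.unique h1.symm (P3 l h1) hπ with rfl | rfl
    · exact ⟨0, by simp⟩
    · refine ⟨1, fun y => ?_⟩
      have := act0 (ev_δ p l) (by simp [D.op, h2.symm]) y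
      simp only [Pi.add_apply, Pi.single_eq_same, Pi.single_eq_of_ne h1.symm, add_zero] at this
      rw [← this]; group
  have B : ∀ k l π, k ≠ l → k ≠ o → l ≠ o → IsPi β k l π → ∃ t, ∀ y,
      π * (P k * x0 x b y * (P k)⁻¹) * π⁻¹ = P l * x0 x b (y + t) * (P l)⁻¹ := fun k l π h h1 h2 hπ => by
    by_cases e : k = p
    · subst e
      simpa [P2 k rfl] using A l π h.symm ‹_› hπ
    by_cases e' : l = p
    · subst e'
      obtain ⟨t, ht⟩ := A k π h h1 hπ.symm
      refine ⟨t, fun y => ?_⟩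
      have := ht (y + t)
      rw [add_assoc, z2_add, add_zero] at this
      rw [← this, P2 l rfl, hπ.inv]
      calc _ = π * π * x0 x b (y + t) * (π * π) := by group
        _ = _ := by rw [hπ.sq]; group
    · have a := (P3 k e).conj hπ.act
      rw [swap_apply_left, swap_apply_of_ne_of_ne (Ne.symm e) (Ne.symm e')] at a
      obtain ⟨t, ht⟩ := A l _ e' h2 a
      refine ⟨t, fun y => ?_⟩
      rw [← ht, ← conj_conj_eq rfl, comm h h1 e h2 e' hπ]
  intro k l π h h1 h2 hπ j hj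
  by_cases e : j = k
  · rw [e, swap_apply_left]; exact B k l π h h1 h2 hπ
  by_cases e' : j = l
  · rw [e', swap_apply_right]; exact B l k π h.symm h2 h1 hπ.symm
  refine ⟨0, fun y => ?_⟩
  have n : ∀ {k}, k ≠ o → j ≠ k → (swap p j)⁻¹ k ≠ o ∧ (swap p j)⁻¹ k ≠ p := fun h1 h2 => by
    rw [swap_inv, Ne, Ne, swap_apply_eq_iff, swap_apply_eq_iff, swap_apply_left,
      swap_apply_of_ne_of_ne D.op hj.symm]
    exact ⟨h1, h2.symm⟩
  have := comm ((swap p j)⁻¹.injective.ne h) (n h1 e).1 (n h1 e).2 (n h2 e').1 (n h2 e').2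
    (hπ.conj (P1 j).inv) y
  rw [swap_apply_of_ne_of_ne e e', add_zero]
  beta_reduce
  conv_rhs => rw [← this]
  group

theorem exists_family' : ∃ X : ι → ZMod 2 → G, (∀ k y, X k y ^ 3 = 1) ∧
    (∀ k, k ≠ o → (X k 0)⁻¹ * X k 1 * (X k 0)⁻¹ = β (δ o + δ k)) ∧
    (∀ k l y y', k ≠ o → l ≠ o → (k, y) ≠ (l, y') → (X k y * X l y') ^ 2 = 1) ∧
    ∀ w, (w * x) ^ 2 = 1 → Commute s w → (∀ v, Ev v → v o = 0 → Commute (β v) w) →
      (∀ g, g ^ 3 = 1 → (∀ v, Ev v → v o = 0 → Commute (β v) g) → g = 1 ∨ g = w ∨ g = w⁻¹) →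
      w ^ 3 = 1 → ∀ k y, k ≠ o → (w * X k y) ^ 2 = 1 := by
  obtain ⟨X, a0, a1, a2, a3, a4, a5⟩ := D.exists_family
  refine ⟨X, a1, a2, fun k l y y' hk hl h => ?_, fun w w1 w2 w3 w4 w5 k y hk => ?_⟩
  · by_cases e : k = l
    · subst e
      rcases z2_cases y with rfl | rfl <;> rcases z2_cases y' with rfl | rfl
      exacts [absurd rfl h, a3 k, sq_comm_one (a3 k), absurd rfl h]
    let R : ι → ι → Prop := fun k l => ∀ y y', (X k y * X l y') ^ 2 = 1
    have R1 : ∀ a b k l, a ≠ o → b ≠ o → k ≠ o → l ≠ o → R k l → R (swap a b k) (swap a b l) :=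
      fun a b k l ha hb hk hl h y y' => by
        by_cases e : a = b
        · simpa [e] using h y y'
        obtain ⟨π, hπ⟩ := D.exists_isPi e
        obtain ⟨t, ht⟩ := a5 a b π e ha hb hπ k hk
        obtain ⟨t', ht'⟩ := a5 a b π e ha hb hπ l hl
        have := sq_conj_one (g := π) (h (y + t) (y' + t'))
        rwa [ht, ht', add_assoc, add_assoc, z2_add, z2_add, add_zero, add_zero] at this
    have R0 : R p q := fun y y' => by
      obtain ⟨r, r1, r2, r3⟩ : ∃ r, r ≠ o ∧ r ≠ p ∧ r ≠ q := by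
        obtain ⟨k, l, -, a, a1, a2, a3, a4, -⟩ := D.h5
        by_cases e : k = q
        · exact ⟨l, a3, a4, e ▸ a.symm⟩
        · exact ⟨k, a1, a2, e⟩
      obtain ⟨t, ht⟩ := a5 p q s D.pq D.op.symm D.oq.symm D.hs p D.op.symm
      have h0 : (X p 0 * X q (0 + t)) ^ 2 = 1 := by
        rw [swap_apply_left] at ht
        rw [← ht, a0, D.hs.inv, ← D.xs, pow_two, show 4 = 2 + 2 from rfl, pow_add, pow_two]
        group
      have hv := ((ev_δ p r).smul y).add ((ev_δ q r).smul (y' + t))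
      have h1 : (y • (δ p + δ r) + (y' + t) • (δ q + δ r)) o = 0 := by simp [D.op, D.oq, r1.symm]
      have := sq_conj_one (g := β (y • (δ p + δ r) + (y' + t) • (δ q + δ r))) h0
      rw [a4 _ hv h1 p D.op.symm, a4 _ hv h1 q D.oq.symm] at this
      simpa [D.pq, D.pq.symm, r2.symm, r3.symm, add_left_comm t, z2_add] using this
    have n1 : swap p k l ≠ o := by
      rwa [Ne, swap_apply_eq_iff, swap_apply_of_ne_of_ne D.op hk.symm]
    have n2 : swap p k l ≠ p := by rw [Ne, swap_apply_eq_iff, swap_apply_left]; exact Ne.symm e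
    have := R1 q _ p q D.oq.symm n1 D.op.symm D.oq.symm R0
    rw [swap_apply_left, swap_apply_of_ne_of_ne D.pq n2.symm] at this
    have := R1 p k _ _ D.op.symm hk D.op.symm n1 this
    rw [swap_apply_left, swap_apply_self] at this
    exact this y y'
  · have b1 : ∀ y, (w * X p y) ^ 2 = 1 := fun y => by
      have hv := (ev_δ p q).smul y
      have h1 : (y • (δ p + δ q)) o = 0 := by simp [D.op, D.oq]
      have := sq_conj_one (g := β (y • (δ p + δ q))) w1
      rw [← a0, a4 _ hv h1 p D.op.symm, (w3 _ hv h1).eq, mul_inv_cancel_right] at this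
      simpa [D.pq] using this
    by_cases e : k = p
    · exact e ▸ b1 y
    obtain ⟨σ, hσ⟩ := Perm.exists_extending_pair _ _ (inj3 D.op D.oq D.pq) (inj3 D.op hk.symm (Ne.symm e))
    obtain ⟨g, hg⟩ := D.sn σ
    have b2 := D.hs.conj hg
    rw [show σ p = p from hσ 1, show σ q = k from hσ 2] at b2
    have b3 : Commute (g * s * g⁻¹) w := by
      rcases w4 (g * w * g⁻¹) (by rw [conj_pow, w5]; simp) (fun v hv h => by
        have := (w3 _ (hv.comp σ) (by rwa [Function.comp_apply, show σ o = o from hσ 0])).conj g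
        rwa [hg _ (hv.comp σ), show (v ∘ ⇑σ) ∘ ⇑σ⁻¹ = v by funext x; simp] at this) with e | e | e
      · rw [show w = 1 by simpa using e]; exact Commute.one_right _
      · exact e ▸ w2.conj g
      · exact Commute.inv_right_iff.mp (e ▸ w2.conj g)
    obtain ⟨t, ht⟩ := a5 p k _ (Ne.symm e) D.op.symm hk b2 p D.op.symm
    have := sq_conj_one (g := g * s * g⁻¹) (b1 (y + t))
    rwa [ht, b3.eq, mul_inv_cancel_right, swap_apply_left, add_assoc, z2_add, add_zero] at this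

end CD

theorem CD.exists_hom [Finite G] {κ E : Type} [DecidableEq κ] [Fintype κ] [DecidableEq E] [Fintype E]
    [Subsingleton E] {β : (PI κ → ZMod 2) → G} {p q : PI κ} {x s w : G} (D : CD β none p q x s)
    (w1 : Nonempty E → (w * x) ^ 2 = 1) (w2 : Commute s w)
    (w3 : ∀ v, Ev v → v none = 0 → Commute (β v) w)
    (w4 : ∀ g, g ^ 3 = 1 → (∀ v, Ev v → v none = 0 → Commute (β v) g) → g = 1 ∨ g = w ∨ g = w⁻¹)
    (w5 : w ^ 3 = 1) : ∃ Ψ : alternatingGroup (Om κ E) →* G,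
      ∀ v, Ev v → ∀ g : alternatingGroup (Om κ E), (g : Perm (Om κ E)) = bb v → Ψ g = β v := by
  obtain ⟨X, a1, a2, a3, a4⟩ := D.exists_family'
  have n : ∀ {p : PI κ} {y : ZMod 2}, (Sum.inl (p, y) : Om κ E) ≠ t0 →
      (Sum.inl (p, y) : Om κ E) ≠ t1 → p ≠ none := by
    rintro _ y h1 h2 rfl
    rcases z2_cases y with rfl | rfl
    exacts [h1 rfl, h2 rfl]
  obtain ⟨Ψ, hΨ⟩ := carmichael (a := (t0 : Om κ E)) (b := t1) (by simp)
    (Sum.elim (fun a => X a.1 a.2) fun _ => w) (by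
      rintro (⟨k, y⟩ | e) _ _
      exacts [a1 k y, w5]) (by
      rintro (⟨k, y⟩ | e) (⟨l, y'⟩ | e') h1 h2 h3 h4 h5
      · exact a3 k l y y' (n h1 h2) (n h3 h4) fun e => h5 (congrArg _ e)
      · exact sq_comm_one (a4 w (w1 ⟨e'⟩) w2 w3 w4 w5 k y (n h1 h2))
      · exact a4 w (w1 ⟨e⟩) w2 w3 w4 w5 l y' (n h3 h4)
      · exact absurd (congrArg _ (Subsingleton.elim _ _)) h5)
  have m : ∀ v, Ev v → bb v ∈ alternatingGroup (Om κ E) := fun v hv => (bb_mem (I := 0) hv).1
  refine ⟨Ψ, fun v hv => hv.induction none (P := fun v => ∀ g : alternatingGroup (Om κ E),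
    (g : Perm (Om κ E)) = bb v → Ψ g = β v) (fun g e => ?_) (fun k g e => ?_) fun v v' hv hv' a b g e => ?_⟩
  · rw [show g = 1 from Subtype.ext (e.trans wr_one), map_one, D.bs.zero]
  · by_cases hk : k = none
    · rw [hk, vadd] at e ⊢
      rw [show g = 1 from Subtype.ext (e.trans wr_one), map_one, D.bs.zero]
    have c := fun y => Perm.mem_alternatingGroup.mpr (sign_c3 (a := (t0 : Om κ E)) (b := t1)
      (c := .inl (k, y)) (by simp) (by simp [Ne.symm hk]))
    rw [add_comm, ← a2 k hk, show g = (⟨_, c 0⟩ : alternatingGroup _)⁻¹ * ⟨_, c 1⟩ * (⟨_, c 0⟩)⁻¹ from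
      Subtype.ext (by
        rw [e, add_comm, bb_add, bb_δ, bb_δ]
        exact (c3_word (by simp) (by simp [Ne.symm hk]) (by simp [Ne.symm hk]) (by simp [Ne.symm hk])
          (by simp [Ne.symm hk]) (by simp)).symm), map_mul, map_mul, map_inv,
      hΨ _ (by simp [hk]) (by simp [hk]) _ rfl, hΨ _ (by simp [hk]) (by simp [hk]) _ rfl]
    rfl
  · rw [show g = ⟨_, m v hv⟩ * ⟨_, m v' hv'⟩ from Subtype.ext (e.trans (bb_add _ _)), map_mul,
      a _ rfl, b _ rfl, D.bs.add _ _ hv hv']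

end Cfsg.Lib.Alt
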