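import Cfsg.Agent.Lib.Alt.M3
import Cfsg.Agent.Lib.Alt.C2

/-!
The construction of the alternating subgroup: the noncentral case.
-/

set_option autoImplicit false

namespace Cfsg.Lib.Alt

open Equiv Subgroup Cfsg.Lib.Kondo Cfsg.Lib.FT

variable {κ E : Type} [DecidableEq κ] [DecidableEq E] [Fintype κ] [Fintype E] {G : Type*} [Group G]

theorem JH.pow_eq_one {Λ : HJ κ →* G} {w : G} (H : JH Λ w) {x y y' : HJ κ} {k : ℕ}
    (hy : ∑ i, y.d i = 1) (e : Λ x * w ^ k * Λ y * (Λ x * w ^ k)⁻¹ = Λ y') : w ^ k = 1 := by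
  have h1 : Λ y * (w ^ k)⁻¹ * (Λ y)⁻¹ = w ^ k := by
    rw [← inv_pow, ← conj_pow, ← conj_inv, H.wconj, if_neg (by simp [hy]), inv_inv]
  have h2 : w ^ k * w ^ k = Λ (x⁻¹ * y' * x * y⁻¹) := by
    simp only [map_mul, map_inv, ← e]
    nth_rw 2 [← h1]; group
  have h3 : (w ^ k) ^ 3 = 1 := by rw [← pow_mul, mul_comm, pow_mul, H.w3, one_pow]
  refine eq_one_of_two_three (k := 3) ?_ h3
  rw [show 2 ^ 3 = 2 * 4 from rfl, pow_mul, pow_two, h2, ← map_pow, HJ.pow_four, map_one]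

namespace Mod

variable {I : κ → ZMod 2} {z : G} {φ : Perm (Om κ E) → G} (M : Mod I z φ) [Subsingleton E]
include M

omit [Subsingleton E] in
theorem acts_lam (x : HJ κ) : Acts (fun v => φ (bb v)) (M.lam x) (shP x.v) := M.acts (jt_mem I x)

theorem eq_lam {g : G} {l : κ} (h1 : ∀ i, g * M.lam (zq (δ i)) * g⁻¹ = M.lam (zq (δ i)))
    (h2 : g * M.lam (eq' l) * g⁻¹ = M.lam (eq' l)) :
    ∃ x, g = M.lam x ∧ ∀ j, g * M.lam (eq' j) * g⁻¹ = M.lam (eq' j) → x.v j = 0 := by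
  obtain ⟨x, k, rfl⟩ := M.jh.cz g h1
  rw [M.jh.pow_eq_one (by simp) h2, mul_one]
  refine ⟨x, rfl, fun j e => ?_⟩
  rw [← map_inv, ← map_mul, ← map_mul, conj_eq'] at e
  simpa [mul_zq] using congrFun (congrArg HJ.a (M.jh.inj e)) j

theorem nf [Finite G] (sn : SN fun v => φ (bb v)) {g : G} {v v' : PI κ → ZMod 2} (hv : Ev v)
    (hv' : Ev v') (e : g * φ (bb v) * g⁻¹ = φ (bb v')) : wt v = wt v' := by
  have key : ∀ v : PI κ → ZMod 2, Ev v → ∃ a g, wt v = 2 * wt a ∧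
      g * M.lam (zq a) * g⁻¹ = φ (bb v) := fun v hv => by
    have h1 := wt_even hv
    have h2 : wt v ≤ _ := Finset.card_le_univ _
    obtain ⟨a, ha⟩ : ∃ a : κ → ZMod 2, wt a = wt v / 2 := by
      classical
      obtain ⟨t, -, h2⟩ := Finset.exists_subset_card_eq (s := (Finset.univ : Finset κ)) (n := wt v / 2)
        (by simp at h2 ⊢; omega)
      exact ⟨fun i => if i ∈ t then 1 else 0, by rw [← h2, wt]; congr 1; ext i; simp⟩
    obtain ⟨π, rfl⟩ := exists_comp_of_wt (a := vec a 0) (b := v) (by rw [wt_vec]; omega)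
    obtain ⟨g, hg⟩ := sn π
    exact ⟨a, g, by omega, by rw [lam_bb]; exact hg _ (ev_vec _ _)⟩
  obtain ⟨a, g₁, h1, e1⟩ := key v hv
  obtain ⟨a', g₂, h2, e2⟩ := key v' hv'
  rw [h1, h2, M.jh.wt_eq (a := a) (b := a') (g := g₂⁻¹ * g * g₁) (by
    rw [show g₂⁻¹ * g * g₁ * M.lam (zq a) * (g₂⁻¹ * g * g₁)⁻¹ =
      g₂⁻¹ * (g * (g₁ * M.lam (zq a) * g₁⁻¹) * g⁻¹) * g₂ by group, e1, e, ← e2]; group)]

theorem bd [Finite G] (sn : SN fun v => φ (bb v)) {k l : κ} (hkl : k ≠ l)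
    (xr : ∃ p q x, p ≠ q ∧ XR (fun v => φ (bb v)) p q x) : BD fun v => φ (bb v) := by
  refine ⟨M.bs, sn, fun g v v' => M.nf sn, fun g hg => ?_, ⟨some (k, 0), some (k, 1), by simp,
    fun g hg => ?_⟩, exists_third k, xr⟩
  · obtain ⟨⟨a, d, v⟩, rfl, h⟩ := M.eq_lam (g := g) (l := k) (fun i => M.lam_bb _ _ ▸ hg _ (ev_vec _ _))
      (M.lam_bb _ _ ▸ hg _ (ev_vec _ _))
    obtain rfl : v = 0 := funext fun j => h j (M.lam_bb _ _ ▸ hg _ (ev_vec _ _))
    exact ⟨_, ev_vec a d, (M.lam_bb a d).symm⟩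
  · obtain ⟨x, rfl, h⟩ := M.eq_lam (g := g) (l := l)
      (fun i => M.lam_bb _ _ ▸ hg _ (ev_vec _ _) (by simp)) (M.lam_bb _ _ ▸ hg _ (ev_vec _ _) (by simp [hkl]))
    have h1 : ∀ j, j ≠ k → x.v j = 0 := fun j hj =>
      h j (M.lam_bb _ _ ▸ hg _ (ev_vec _ _) (by simp [hj.symm]))
    have h2 := M.acts_lam x
    rcases z2_cases (x.v k) with e | e
    · rw [show x.v = 0 by ext j; by_cases hj : j = k <;> simp [hj, h1, e], shP_zero] at h2
      exact Or.inl h2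
    · rw [show x.v = δ k by ext j; by_cases hj : j = k <;> simp [hj, h1, e], shP_δ] at h2
      exact Or.inr h2

theorem exists_hom [Finite G] {p q : PI κ} {x : G} {k : κ}
    (D : CD (fun v => φ (bb v)) none p q x (M.lam (sq' k)))
    (w1 : Nonempty E → (φ (w3 κ E) * x) ^ 2 = 1 ∨ ((φ (w3 κ E))⁻¹ * x) ^ 2 = 1) :
    ∃ Ψ : alternatingGroup (Om κ E) →* G,
      ∀ v, Ev v → ∀ g : alternatingGroup (Om κ E), (g : Perm (Om κ E)) = bb v → Ψ g = φ (bb v) := by
  have w2 : Commute (M.lam (sq' k)) (φ (w3 κ E)) := M.jh.comm_w (by simp)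
  have w3' : ∀ v : PI κ → ZMod 2, Ev v → v none = 0 → Commute (φ (bb v)) (φ (w3 κ E)) := fun v hv h => by
    obtain ⟨a, d, rfl⟩ := hv.exists_vec
    rw [← M.lam_bb]
    exact M.jh.comm_w h
  have w4 : ∀ g : G, g ^ 3 = 1 → (∀ v : PI κ → ZMod 2, Ev v → v none = 0 → Commute (φ (bb v)) g) →
      g = 1 ∨ g = φ (w3 κ E) ∨ g = (φ (w3 κ E))⁻¹ := fun g h3 h => M.jh.three_mem h3 fun i => by
    rw [M.lam_bb, ← (h _ (ev_vec _ _) (by simp)).eq, mul_inv_cancel_right]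
  by_cases h : Nonempty E → (φ (w3 κ E) * x) ^ 2 = 1
  · exact D.exists_hom h w2 w3' w4 M.jh.w3
  · exact D.exists_hom (fun e => (w1 e).resolve_left fun e' => h fun _ => e') w2.inv_right
      (fun v hv h => (w3' v hv h).inv_right)
      (fun g h3 h => by rw [inv_inv]; exact (w4 g h3 h).imp_right Or.symm) (by rw [inv_pow, M.jh.w3, inv_one])

omit [Subsingleton E] in
theorem acts_sq' (k : κ) : Acts (fun v => φ (bb v)) (M.lam (sq' k)) (swap (some (k, 0)) (some (k, 1))) :=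
  shP_δ k ▸ M.acts_lam (sq' k)

omit [Subsingleton E] in
theorem sq'_sq (k : κ) : M.lam (sq' k) * M.lam (sq' k) = 1 := by
  rw [← map_mul, HJ.sq_eq_one.mpr (by simp), map_one]

theorem noncentral [Finite G] (sn : SN fun v => φ (bb v)) {k l : κ} (hk : I k = 0) (hl : I l = 1) :
    ∃ Ψ : alternatingGroup (Om κ E) →* G,
      ∀ v, Ev v → ∀ g : alternatingGroup (Om κ E), (g : Perm (Om κ E)) = bb v → Ψ g = φ (bb v) := by
  have hkl : k ≠ l := fun e => by simp [e, hl] at hk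
  obtain ⟨f1, f2, f3, f4⟩ := ve_f6 (E := E) k
  let x : Perm (Om κ E) := c3 t0 t1 (.inl (some (k, 0), 0))
  have ex : ve (f6 E k) (c3 4 5 0) = x := ve_c3 _ _ _ _
  have cx : ∀ {c : PI κ → ZMod 2} {σ : Perm (PI κ)}, c none = 0 → c (some (k, 0)) = 0 → σ none = none →
      σ (some (k, 0)) = some (k, 0) → wr c σ * x * (wr c σ)⁻¹ = x := fun h1 h2 h3 h4 => by
    simp [x, conj_c3, h1, h2, h3, h4]
  have hx : x ∈ Hm E I := mem_Hm.mpr ⟨sign_c3 (by simp) (by simp), by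
    rw [mul_inv_eq_iff_eq_mul, eq_comm, ← mul_inv_eq_iff_eq_mul]
    exact cx (by simp) (by simp [hk]) rfl rfl⟩
  have xr : XR (fun v => φ (bb v)) none (some (k, 0)) (φ x) := by
    refine ⟨by rw [← M.pow hx, c3_cube (by simp) (by simp) (by simp), M.one], fun v hv h1 h2 => ?_,
      fun v hv h1 h2 => ?_, ?_⟩
    · rw [M.conj (bb_mem hv) hx, cx h1 h2 rfl rfl]
    · rw [M.conj (bb_mem hv) hx, ← M.inv hx, ← c3_swap (by simp) (by simp) (by simp)]
      simp [x, conj_c3, h1, h2, z2_add]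
    · rw [← M.mul _ hx _ (bb_mem (ev_δ _ _)), ← M.pow (mul_mem hx (bb_mem (ev_δ _ _))), ← M.one, bb_add,
        ← f1, ← f3, ← ex, ← map_mul, ← map_mul, ← map_pow, ← map_one (ve (f6 E k))]
      exact congrArg (fun g => φ (ve (f6 E k) g)) (by decide)
  have D := M.bd sn hkl ⟨_, _, _, by simp, xr⟩
  refine M.exists_hom (p := some (k, 0)) (q := some (k, 1)) (x := φ x) (k := k)
    ⟨D, by simp, by simp, by simp, xr, ⟨M.acts_sq' k, M.sq'_sq k, φ (tr k * bb (δ none)), some (k, 0),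
      some (k, 1), by simp, ?_⟩, ?_, ?_⟩ fun h => Or.inl ?_
  · rw [M.rr_act hk rfl, ← vec_δ, ← M.lam_bb]
    congr 1
    ext j <;> simp [z2_add]
  · rw [lam_apply, ← M.mul _ hx _ (jt_mem I _), ← M.pow (mul_mem hx (jt_mem I _)), ← M.one, jt_sq',
      ← f4, ← ex, ← map_mul, ← map_pow, ← map_one (ve (f6 E k))]
    exact congrArg (fun g => φ (ve (f6 E k) g)) (by decide)
  · have hl' : (some (l, 0) : PI κ) ≠ some (l, 1) := by simp
    obtain ⟨π, hπ⟩ := D.exists_isPi hl'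
    obtain ⟨v, hv, e⟩ := D.exists_eq_mul hπ.act (M.acts_sq' l)
    have e' : π = M.lam (sq' l) * φ (bb v) := by rw [e, mul_assoc, M.bs.sq hv, mul_one]
    have h1 := D.eq_of_sq hl' hπ hv (e ▸ M.sq'_sq l)
    have h2 : ∀ r r' : PI κ, vec I 0 r = vec I 0 r' → (∀ u, r ≠ some (l, u)) → (∀ u, r' ≠ some (l, u)) →
        v r = v r' := fun r r' h0 h h' => by
      have a := M.acts (pp_swap_mem (E := E) h0)
      have b := hπ.conj a
      have c : φ (pp (swap r r')) * M.lam (sq' l) * (φ (pp (swap r r')))⁻¹ = M.lam (sq' l) := by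
        rw [lam_apply, M.conj (pp_swap_mem h0) (jt_mem I _), jt_sq',
          pp_conj _ (swap_apply_of_ne_of_ne (h 0) (h 1)) (swap_apply_of_ne_of_ne (h' 0) (h' 1))]
        simp [wr_one]
      rw [swap_apply_of_ne_of_ne (h 0).symm (h' 0).symm,
        swap_apply_of_ne_of_ne (h 1).symm (h' 1).symm] at b
      have d := D.unique hl' hπ b
      rw [e', ← conj_mul, c, a.swap hv, mul_assoc, mul_right_inj, mul_right_inj,
        ← M.bs.add _ _ hv (ev_δ _ _)] at d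
      by_contra hne
      have h3 : v r + v r' = 1 := by revert hne; generalize v r = a; generalize v r' = b; revert a b; decide
      have h4 : r' ≠ r := fun e => hne (by rw [e])
      rcases d with d | d <;>
        simpa [h3, h, h4.symm] using congrFun (M.bs.inj _ _ (hv.add ((ev_δ _ _).smul _))
          (by first | exact hv | exact hv.add (ev_δ _ _)) d) r
    have h3 : v none = 0 := by
      have := hv
      rwa [Ev, sum_PI, Finset.sum_eq_zero, add_zero] at this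
      intro i _
      by_cases hi : i = l
      · rw [hi, h1, z2_add]
      · rw [h2 (some (i, 0)) (some (i, 1)) (by simp) (by simp [hi]) (by simp [hi]), z2_add]
    refine ⟨_, _, π, hl', by simp, by simp [hkl.symm], by simp, by simp [hkl.symm], hπ, e' ▸
      Commute.mul_left ?_ (xr.comm hv h3 (h3 ▸ h2 _ _ (by simp [hk]) (by simp [hkl]) (by simp)))⟩
    rw [Commute, SemiconjBy, ← mul_inv_eq_iff_eq_mul, lam_apply, M.conj (jt_mem I _) hx, jt_apply,
      cx (by simp) (by simp) rfl (by simp [hkl])]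
  · rcases w3_cases (κ := κ) (E := E) with ⟨h', -⟩ | ⟨e, he⟩
    · exact h'.elim h.some
    · rw [← M.mul _ (w3_mem I) _ hx, ← M.pow (mul_mem (w3_mem I) hx), he,
        c3_sq (by simp) (by simp) (by simp) (by simp) (by simp) (by simp), M.one]

end Mod

end Cfsg.Lib.Alt
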