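import Cfsg.Agent.Lib.Alt.D1
import Cfsg.Agent.Lib.Alt.BL

/-!
The central case: transvections.
-/

set_option autoImplicit false

namespace Cfsg.Lib.Alt

open Equiv Subgroup Cfsg.Lib.Kondo Cfsg.Lib.FT

variable {κ E : Type} [DecidableEq κ] [DecidableEq E] [Fintype κ] [Fintype E] {G : Type*} [Group G]

omit [Fintype κ] in
theorem fix_zq' {Λ : HJ κ →* G} [Finite κ] {g : G} {m : κ → ZMod 2}
    (hg : ∀ i, m i = 1 → g * Λ (zq (δ i)) * g⁻¹ = Λ (zq (δ i))) : g * Λ (zq m) * g⁻¹ = Λ (zq m) := by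
  suffices ∀ a, g * Λ (zq (m * a)) * g⁻¹ = Λ (zq (m * a)) by simpa using this 1
  intro a
  induction a using Pi.single_induction with
  | zero => simp [zq_zero]
  | add a b ha hb => rw [mul_add, zq_add, map_mul, ← conj_mul, ha, hb]
  | single i c =>
    rcases z2_cases c with rfl | rfl
    · simp [zq_zero]
    · rcases mul_δ m i with ⟨-, h⟩ | ⟨h1, h⟩ <;> rw [h]
      · simp [zq_zero]
      · exact hg i h1

theorem JH.eq'_fix {Λ : HJ κ →* G} {w : G} (H : JH Λ w) {i : κ} {x : HJ κ} :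
    Λ (eq' i) * Λ x * (Λ (eq' i))⁻¹ = Λ x ↔ x.v i = 0 := by
  rw [← map_inv, ← map_mul, ← map_mul, H.inj.eq_iff, eq'_conj, mul_eq_left]
  rcases mul_δ x.v i with ⟨h1, h⟩ | ⟨h1, h⟩ <;> rw [h, h1]
  · simp [zq_zero]
  · simp [zq_δ_ne]

/-- the centraliser of `z` contains a transvection with centre the swap in block `k` -/
def CT {Λ : HJ κ →* G} (x : HJ κ) : Prop :=
  ∃ d, TV ((HB 1).map Λ) d (Λ x) ∧ d * Λ (zq 1) * d⁻¹ ≠ Λ (zq 1)

theorem CT.conj {Λ : HJ κ →* G} {x y : HJ κ} (h : CT (Λ := Λ) x) {g : G} (h1 : g ∈ N[(HB 1).map Λ])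
    (h2 : g * Λ (zq 1) * g⁻¹ = Λ (zq 1)) (h3 : g * Λ x * g⁻¹ = Λ y) : CT (Λ := Λ) y := by
  obtain ⟨d, a, b⟩ := h
  refine ⟨_, h3 ▸ a.conj h1, fun e => b ?_⟩
  rw [← h2, conj_conj_eq rfl] at e
  simpa using e

namespace Mod

variable {z : G} {φ : Perm (Om κ E) → G} (M : Mod 1 z φ) [Subsingleton E] [Finite G]
include M

theorem tv_fix {F : Subgroup G} (hF : Mx κ F) (hz : z ∈ F) {u : G} {x : HJ κ} (h : TV F u (M.lam x))
    (hu : u * z * u⁻¹ = z) : x.v = 0 := by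
  obtain ⟨g, hg, i, e⟩ := M.jh.centre_C1 hF h hz M.range_le hu
  obtain ⟨h, hh, rfl⟩ := M.surj g (mul_inv_eq_iff_eq_mul.mpr (FT.mem_C1.mp hg))
  rw [lam_apply, lam_apply, M.conj hh (jt_mem 1 _)] at e
  have e1 := M.inj _ (jt_mem 1 _) _ (mul_mem (mul_mem hh (jt_mem 1 _)) (inv_mem hh)) e
  funext j
  have e2 := Equiv.congr_fun e1 (.inl (some (j, 0), 0))
  have e3 := Equiv.congr_fun (mem_Hm.mp hh).2 (.inl (some (j, 0), 0))
  have e4 : ∀ Q : Om κ E, jt (zq (δ i)) Q = Q ∨ jt (zq (δ i)) Q = bb (vec 1 0) Q := by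
    rintro (⟨_ | ⟨l, u⟩, y⟩ | e)
    · simp [jt_bb]
    · by_cases h : l = i <;> simp [jt_bb, h]
    · exact Or.inl rfl
  simp only [Perm.mul_apply] at e2 e3
  rcases e4 (h⁻¹ (.inl (some (j, 0), 0))) with e5 | e5 <;> rw [e5] at e2
  · simpa [jt_apply] using congrArg (Sum.map Prod.fst id) e2
  · simpa [jt_apply] using congrArg (Sum.map Prod.fst id) (e2.trans e3)

theorem two_move {F : Subgroup G} (hF : Mx κ F) (hz : z ∈ F) {d d' : G} {x x' : HJ κ}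
    (h : TV F d (M.lam x)) (h' : TV F d' (M.lam x')) (m : d * z * d⁻¹ ≠ z) (m' : d' * z * d'⁻¹ ≠ z)
    (hv : x.v ≠ x'.v) : d * M.lam x' * d⁻¹ = M.lam x' := by
  by_contra hne
  have e1 := h.moved h'.mem hne
  have e2 := h'.moved h.mem fun e => hne (M.jh.symm hF h' h e)
  have e3 := h.moved hz m
  have e4 : d * (z * M.lam x) * d⁻¹ = z := by
    rw [← conj_mul, e3, h.fix, mul_assoc, hF.sq _ h.mem, mul_one]
  have h2 := h'.conj h.mem_N
  rw [e1, ← map_mul] at h2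
  have := M.tv_fix hF hz h2 (by
    nth_rw 1 [← e4]
    rw [conj_conj_eq (b' := z * M.lam x), e4]
    rw [← conj_mul, h'.moved hz m', e2, hF.comm h.mem h'.mem, mul_assoc, ← mul_assoc (M.lam x'),
      hF.sq _ h'.mem, one_mul])
  exact hv (by rw [← add_zero x.v, ← this, HJ.mul_v, add_comm x'.v, ← add_assoc, vadd, zero_add])

omit [Subsingleton E] [Finite G] in
theorem z_mem (β : κ → ZMod 2) : z ∈ (HB β).map M.lam := ⟨_, zq_mem 1 β, M.lam_z⟩

theorem exists_ct (hG : ∀ N : Subgroup G, N.index ≠ 2) (i : κ) :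
    ∃ x : HJ κ, x.d = 0 ∧ CT (Λ := M.lam) x := by
  obtain ⟨χ, h1, -, h2⟩ := exists_sig (κ := κ) (E := E)
  obtain ⟨χ', h3, h4⟩ := M.exists_char h1
  by_contra hne
  refine M.jh.thompson hG (fun g hg => ?_) χ' h3 (β := 1) (sq'_mem (i := i) rfl)
    (by rw [lam_apply, h4 _ (jt_mem 1 _), h2]) fun g hg => ?_
  · obtain ⟨π, hπ⟩ := M.jh.zz_conj hg
    rw [FT.mem_C1, ← mul_inv_eq_iff_eq_mul, ← M.lam_z, hπ]; rfl
  have key : ∀ a, ∃ a', g * M.lam (zq a) * g⁻¹ = M.lam (zq a') := fun a => by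
    induction a using Pi.single_induction with
    | zero => exact ⟨0, by simp [zq_zero]⟩
    | add a b ha hb =>
      obtain ⟨a', ha⟩ := ha
      obtain ⟨b', hb⟩ := hb
      exact ⟨a' + b', by rw [zq_add, map_mul, ← conj_mul, ha, hb, zq_add, map_mul]⟩
    | single j c =>
      rcases z2_cases c with rfl | rfl
      · exact ⟨0, by simp [zq_zero]⟩
      have h := (M.jh.tv_eq' (β := 1) (i := j) rfl).conj hg
      obtain ⟨⟨a, d, v⟩, hx, e⟩ := h.mem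
      obtain rfl : d = 0 := mem_HB_one.mp hx
      rw [← e] at h
      obtain rfl : v = 0 := M.tv_fix (M.jh.mx 1) (M.z_mem 1) h
        (by_contra fun hh => hne ⟨_, rfl, _, h, by rwa [M.lam_z]⟩)
      exact ⟨a, e.symm⟩
  obtain ⟨a, ha⟩ := key 1
  have h5 := M.jh.wt_eq ha
  obtain rfl : a = 1 := by
    have := Finset.eq_univ_of_card (Finset.univ.filter fun i => a i = 1) (by simpa [wt] using h5.symm)
    exact funext fun i => (Finset.mem_filter.mp (this.ge (Finset.mem_univ i))).2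
  rw [FT.mem_C1, ← mul_inv_eq_iff_eq_mul, ← M.lam_z, ha]

theorem tv_z {d : G} {x : HJ κ} (h : TV ((HB 1).map M.lam) d (M.lam x)) (i : κ) :
    d * M.lam (zq (δ i)) * d⁻¹ = M.lam (zq (δ i)) ↔ x.v i = 0 := by
  rw [← M.jh.eq'_fix]
  exact ⟨M.jh.symm (M.jh.mx 1) h (M.jh.tv_eq' rfl), M.jh.symm (M.jh.mx 1) (M.jh.tv_eq' rfl) h⟩

theorem ct_v {x : HJ κ} (h : CT (Λ := M.lam) x) : ∃ k, x.v = δ k := by
  obtain ⟨d, h, m⟩ := h
  obtain ⟨k, hk⟩ : ∃ k, x.v k = 1 := by_contra fun hh => m (fix_zq' fun i _ =>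
    (M.tv_z h i).mpr ((z2_cases _).resolve_right fun e => hh ⟨i, e⟩))
  refine ⟨k, funext fun j => ?_⟩
  by_cases hj : j = k
  · simp [hj, hk]
  rw [δ, Pi.single_eq_of_ne hj]
  refine (z2_cases _).resolve_right fun hj' => m ?_
  have mv : ∀ {i}, x.v i = 1 → d * M.lam (zq (δ i)) * d⁻¹ = M.lam (zq (δ i)) * M.lam x := fun hi =>
    h.moved (mem_map_of_mem _ (zq_mem _ _)) fun e => by simp [(M.tv_z h _).mp e] at hi
  have ne : ∀ {i j : κ}, i ≠ j → M.lam (zq (δ i)) ≠ M.lam (zq (δ j)) := fun h e => h (δ_inj (M.jh.zq_inj e))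
  have h1 := fix_zq' (Λ := M.lam) (g := d) (m := 1 + (δ k + δ j)) fun i hi => (M.tv_z h i).mpr
    ((z2_cases _).resolve_right fun hi' => by
      have n1 : k ≠ i := by rintro rfl; simp [Ne.symm hj, z2_add] at hi
      have n2 : j ≠ i := by rintro rfl; simp [hj, z2_add] at hi
      exact M.jh.three (M.jh.mx 1) h (M.jh.tv_eq' (i := k) rfl) (M.jh.tv_eq' (i := j) rfl)
        (M.jh.tv_eq' (i := i) rfl) (M.jh.eq'_fix.mpr rfl) (M.jh.eq'_fix.mpr rfl) (M.jh.eq'_fix.mpr rfl)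
        (ne (Ne.symm hj)) (ne n1) (ne n2) (by simp [M.jh.eq'_fix, hk]) (by simp [M.jh.eq'_fix, hj'])
        (by simp [M.jh.eq'_fix, hi']))
  rw [show zq (1 : κ → ZMod 2) = zq (1 + (δ k + δ j)) * zq (δ k + δ j) by
    rw [← zq_add, add_assoc, vadd, add_zero], map_mul, ← conj_mul, h1, zq_add (δ k), map_mul, ← conj_mul, mv hk, mv hj', mul_right_inj,
    mul_assoc, mul_right_inj, ← map_mul, ← map_mul, ← zq_comm, ← mul_assoc, map_mul, map_mul,
    (M.jh.mx 1).sq _ h.mem, one_mul]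

theorem ct_a {a : κ → ZMod 2} {k l l' : κ} (h : CT (Λ := M.lam) ⟨a, 0, δ k⟩) (hl : l ≠ k) (hl' : l' ≠ k) :
    a l = a l' := by
  obtain ⟨d, h, -⟩ := h
  by_contra hne
  have ll : l ≠ l' := fun e => hne (by rw [e])
  let β : κ → ZMod 2 := 1 + δ l + δ l'
  have b1 : β l = 0 := by simp [β, ll, z2_add]
  have b2 : β l' = 0 := by simp [β, ll.symm, z2_add]
  have b3 : β k = 1 := by simp [β, hl.symm, hl'.symm]
  obtain ⟨d₀, -, h₀⟩ := M.jh.switch h (M.jh.mx β) (map_le_range _ _)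
    (mem_map_of_mem _ (mem_HB.mpr fun i => ⟨fun _ => rfl, fun e =>
      Pi.single_eq_of_ne (by rintro rfl; simp [b3] at e) _⟩)) (mem_map_of_mem _ (zq_mem (δ k) _))
    (mem_map_of_mem _ (zq_mem (δ k) _)) (by simp [M.tv_z h])
  have t : ∀ u, TV ((HB β).map M.lam) (φ (pp (swap (some (l, u)) (some (l', u)))))
      (φ (bb (δ (some (l, u)) + δ (some (l', u))))) := fun u =>
    M.pp_tv (by simp) (by simp [b1]) (by simp [b2]) (δ l) (by simp [ll.symm])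
  have ac := fun u : ZMod 2 =>
    M.acts (pp_swap_mem (E := E) (I := 1) (p := some (l, u)) (q := some (l', u)) (by simp))
  have f : ∀ u, φ (pp (swap (some (l, u)) (some (l', u)))) * M.lam (zq (δ k)) *
      (φ (pp (swap (some (l, u)) (some (l', u)))))⁻¹ = M.lam (zq (δ k)) := fun u => by
    rw [M.lam_bb]; exact (ac u).fix (ev_vec _ _) (by simp [hl, hl'])
  have n : ∀ u, φ (bb (δ (some (l, u)) + δ (some (l', u)))) ≠ M.lam (zq (δ k)) := fun u e => by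
    rw [M.lam_bb] at e
    simpa [hl, ll] using congrFun (M.bs.inj _ _ (ev_δ _ _) (ev_vec _ _) e) (some (l, u))
  have m : ∀ u, φ (pp (swap (some (l, u)) (some (l', u)))) * M.lam ⟨a, 0, δ k⟩ *
      (φ (pp (swap (some (l, u)) (some (l', u)))))⁻¹ ≠ M.lam ⟨a, 0, δ k⟩ := fun u e => by
    have hp := pp_swap_mem (E := E) (I := 1) (p := some (l, u)) (q := some (l', u)) (by simp)
    rw [lam_apply, M.conj hp (jt_mem 1 _)] at e
    have := Equiv.congr_fun (M.inj _ (mul_mem (mul_mem hp (jt_mem 1 _)) (inv_mem hp)) _ (jt_mem 1 _) e)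
      (.inl (some (l, u), 0))
    rw [jt_apply, pp_conj _ (by simp [hl]) (by simp [hl'])] at this
    simp [ll] at this
    exact hne (by revert this; generalize a l = x; generalize a l' = y; revert x y; decide)
  exact M.jh.three (M.jh.mx β) h₀ (t 0) (t 1) (M.jh.tv_eq' b3) ((ac 0).fix (ev_δ _ _) (by simp))
    (f 0) (f 1) (fun e => by
      simpa [ll] using congrFun (M.bs.inj _ _ (ev_δ _ _) (ev_δ _ _) e) (some (l, 0))) (n 0) (n 1) (m 0)
    (m 1) (by simp [M.jh.eq'_fix])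

theorem ct_perm {k : κ} (h : CT (Λ := M.lam) (sq' k)) (l : κ) : CT (Λ := M.lam) (sq' l) := by
  let σ : Perm (PI κ) := optionCongr (prodCongr (swap k l) (Equiv.refl _))
  have h1 : (pp σ : Perm (Om κ E)) ∈ Hm E 1 := wr_mem ev_zero (by rintro (_ | p) <;> simp [σ])
  have h2 : ∀ x, φ (pp σ) * M.lam x * (φ (pp σ))⁻¹ = M.lam (reix (swap k l) x) := fun x => by
    rw [lam_apply, M.conj h1 (jt_mem 1 _), lam_apply]
    congr 1
    rw [mul_inv_eq_iff_eq_mul]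
    ext1 p
    rcases p with ⟨_ | ⟨j, u⟩, y⟩ | e
    · simp [jt_apply, σ, reix, Equiv.sum_comp (swap k l) x.d]
    · simp [jt_apply, σ, reix]
    · rfl
  refine h.conj (mem_normalizer_fintype ?_) (h2 _) ((h2 _).trans ?_)
  · rintro _ ⟨x, hx, rfl⟩
    rw [h2]
    exact mem_map_of_mem _ (mem_HB_one.mpr (congrArg (· ∘ swap k l) (mem_HB_one.mp hx)))
  · congr 1
    ext j <;> simp [reix, Pi.single_apply, swap_apply_eq_iff]

theorem exists_ct_all (hG : ∀ N : Subgroup G, N.index ≠ 2) {k₀ l₀ : κ} (h₀ : k₀ ≠ l₀) :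
    ∃ (φ' : Perm (Om κ E) → G) (M' : Mod 1 z φ'), (∀ v, φ' (bb v) = φ (bb v)) ∧
      ∀ k, CT (Λ := M'.lam) (sq' k) := by
  obtain ⟨⟨a, d, v⟩, rfl, h⟩ := M.exists_ct hG k₀
  obtain ⟨k, rfl⟩ : ∃ k, v = δ k := M.ct_v h
  obtain ⟨l, hl⟩ : ∃ l, l ≠ k := by
    by_cases e : k₀ = k
    exacts [⟨l₀, e ▸ h₀.symm⟩, ⟨k₀, e⟩]
  have h1 : CT (Λ := M.lam) ⟨a l • 1, 0, δ k⟩ := by
    refine h.conj (g := M.lam ⟨0, (a k + a l) • δ k, 0⟩) (JH.range_le_N 1 ⟨_, rfl⟩)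
      (by rw [← map_inv, ← map_mul, ← map_mul, zq_conj]) ?_
    rw [← map_inv, ← map_mul, ← map_mul, HJ.conj]
    congr 1
    ext j
    · by_cases hj : j = k
      · simp [hj, ← add_assoc, z2_add]
      · simp [hj, M.ct_a h hj hl]
    · rfl
    · rfl
  rcases z2_cases (a l) with e | e <;> rw [e] at h1
  · exact ⟨φ, M, fun _ => rfl, M.ct_perm (zero_smul (ZMod 2) (1 : κ → ZMod 2) ▸ h1)⟩
  obtain ⟨χ, c1, c2, c3⟩ := exists_sig (κ := κ) (E := E)
  have M' := M.twist c1 (c2 _)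
  have e1 : ∀ x, M'.lam x = M.lam (x * zq (χ (jt x) • 1)) := fun x => by
    rw [lam_apply, lam_apply, map_mul, jt_bb]
    refine congrArg (fun v => φ (jt x * bb v)) (funext fun p => ?_)
    rcases p with _ | p <;> simp
  have e2 : (HB 1).map M'.lam = (HB 1).map M.lam := eq_of_le_of_card_ge (by
    rintro _ ⟨x, hx, rfl⟩
    exact ⟨_, mul_mem hx (zq_mem _ _), (e1 x).symm⟩) (by rw [(M.jh.mx 1).card, (M'.jh.mx 1).card])
  refine ⟨_, M', fun v => by simp [c2, wr_one], M'.ct_perm (k := k) ?_⟩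
  obtain ⟨d, h2, h3⟩ := h1
  refine ⟨d, ?_, by rwa [M'.lam_z, ← M.lam_z]⟩
  rw [e2, e1, c3, mul_zq, zero_add]
  exact h2

variable (sn : SN fun v => φ (bb v)) (ct : ∀ k, CT (Λ := M.lam) (sq' k))
include sn ct

theorem exists_dd (l : κ) : ∃ d', Acts (fun v => φ (bb v)) d' (swap (some (l, 0)) none) ∧
    ∀ k, k ≠ l → d' * M.lam (sq' k) * d'⁻¹ = M.lam (sq' k) ∧ ∃ d,
      d * M.lam (zq (δ k)) * d⁻¹ = M.lam (zq (δ k)) * M.lam (sq' k) ∧
      (∀ j, d * M.lam (sq' j) * d⁻¹ = M.lam (sq' j)) ∧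
      (∀ j, j ≠ k → d * M.lam (zq (δ j)) * d⁻¹ = M.lam (zq (δ j))) ∧
      d * M.lam (eq' l) * d⁻¹ = M.lam (eq' l) := by
  let β : κ → ZMod 2 := 1 + δ l
  have b1 : β l = 0 := by simp [β, z2_add]
  have b2 : ∀ k, k ≠ l → β k = 1 := fun k h => by simp [β, h]
  obtain ⟨g, hg⟩ := sn (swap (some (l, 0)) none)
  have t1 := M.bs.tv_swap hg (o := some (l, 1)) (by simp) (by simp) (by simp)
  rw [M.grp_eq, ← vec_δ'', ← M.lam_bb] at t1
  obtain ⟨d', h1, h2⟩ := M.jh.switch t1 (M.jh.mx β) (map_le_range _ _)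
    (mem_map_of_mem _ (mem_HB.mpr fun i => ⟨fun e =>
      Pi.single_eq_of_ne (by rintro rfl; simp [b1] at e) _, fun _ => rfl⟩))
    (mem_map_of_mem _ (zq_mem (δ l) _)) (mem_map_of_mem _ (zq_mem (δ l) _))
    (by rw [M.lam_bb]; exact M.bs.moves hg (by simp) (ev_vec _ _) (by simp))
  have a1 : Acts (fun v => φ (bb v)) d' (swap (some (l, 0)) none) := fun v hv =>
    (conj_eq_of_C h1 (M.grp_eq ▸ M.bs.mem hv)).trans (hg v hv)
  have m1 : d' * z * d'⁻¹ ≠ z := M.zt ▸ M.bs.moves a1 (by simp) (ev_vec _ _) (by simp)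
  refine ⟨d', a1, fun k hk => ?_⟩
  obtain ⟨d, t2, m2⟩ := ct k
  obtain ⟨d₀, h3, h4⟩ := M.jh.switch t2 (M.jh.mx β) (map_le_range _ _)
    (mem_map_of_mem _ (sq'_mem (b2 k hk))) (mem_map_of_mem _ (zq_mem (δ k) _))
    (mem_map_of_mem _ (zq_mem (δ k) _)) (by simp [M.tv_z t2])
  rw [M.lam_z] at m2
  have m3 : d₀ * z * d₀⁻¹ ≠ z := by rwa [conj_eq_of_C h3 (M.z_mem 1)]
  have z1 : ∀ j, j ≠ k → d₀ * M.lam (zq (δ j)) * d₀⁻¹ = M.lam (zq (δ j)) := fun j hj => by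
    rw [conj_eq_of_C h3 (mem_map_of_mem _ (zq_mem _ _)), M.tv_z t2]
    simp [hj]
  refine ⟨M.two_move (M.jh.mx β) (M.z_mem β) h2 h4 m1 m3 (δ_ne k).symm, d₀, ?_, fun j => ?_, z1, ?_⟩
  · rw [conj_eq_of_C h3 (mem_map_of_mem _ (zq_mem _ _))]
    exact t2.moved (mem_map_of_mem _ (zq_mem _ _)) (by simp [M.tv_z t2])
  · rw [conj_eq_of_C h3 (mem_map_of_mem _ (sq'_mem rfl))]
    by_cases hj : j = k
    · exact hj ▸ t2.fix
    · obtain ⟨d₁, t3, m4⟩ := ct j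
      exact M.two_move (M.jh.mx 1) (M.z_mem 1) t2 t3 m2 (M.lam_z ▸ m4) fun e => hj (δ_inj e).symm
  · rw [show eq' l = ⟨δ l, δ l, 0⟩ * zq (δ l) by rw [mul_zq, vadd], map_mul, ← conj_mul, z1 l hk.symm,
      M.two_move (M.jh.mx β) (M.z_mem β) h4 h2 m3 m1 (δ_ne k)]

end Mod

end Cfsg.Lib.Alt
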