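import Cfsg.Agent.Lib.Alt.M3
import Cfsg.Agent.Lib.Kondo.W2

/-!
Involutions of alternating groups and the dihedral argument.
-/

set_option autoImplicit false

namespace Cfsg.Lib.Alt

open Equiv Subgroup Cfsg.Lib.Kondo Cfsg.Lib.FT

section Dihedral

variable {G : Type*} [Group G] [Finite G]

theorem dihedral {w e f : G} (hw : w * w = 1) (he : e * e = 1) (hf : f * f = 1) (ew : Commute e w)
    (fw : Commute f w) (h : ∀ k, Commute k w → k * e * k⁻¹ ≠ f ∧ k * e * k⁻¹ ≠ f * w) :
    ∃ u, Commute u w ∧ u ≠ 1 ∧ u ≠ w ∧ (u * u = 1 ∨ u * u = w) ∧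
      (u * e * u⁻¹ = e ∨ u * e * u⁻¹ = e * w) ∧ (u * f * u⁻¹ = f ∨ u * f * u⁻¹ = f * w) ∧
      ((∃ k, Commute k w ∧ e * u = k * f * k⁻¹) ∨ ∃ k, Commute k w ∧ f * u = k * f * k⁻¹) := by
  classical
  have hex : ∃ r, 0 < r ∧ ((e * f) ^ r = 1 ∨ (e * f) ^ r = w) :=
    ⟨_, orderOf_pos (e * f), Or.inl (pow_orderOf_eq_one _)⟩
  obtain ⟨h0, h1⟩ := Nat.find_spec hex
  have h2 := fun m => Nat.find_min hex (m := m)
  set r := Nat.find hex
  have ie : e⁻¹ = e := inv_eq_of_mul_eq_one_left he
  have i' : f⁻¹ = f := inv_eq_of_mul_eq_one_left hf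
  have c : ∀ m : ℕ, Commute ((e * f) ^ m) w := fun m => (ew.mul_left fw).pow_left m
  have a1 : ∀ m : ℕ, e * (e * f) ^ m = ((e * f) ^ m)⁻¹ * e := fun m => by
    rw [← mul_inv_eq_iff_eq_mul, ← conj_pow, ← inv_pow, mul_inv_rev, ie, i', ← mul_assoc, he, one_mul]
  have a2 : ∀ m : ℕ, f * (e * f) ^ m = ((e * f) ^ m)⁻¹ * f := fun m => by
    rw [← mul_inv_eq_iff_eq_mul, ← conj_pow, ← inv_pow, mul_inv_rev, ie, i', mul_assoc, mul_assoc, hf,
      mul_one]
  obtain ⟨s, hs | hs⟩ := Nat.even_or_odd' r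
  · have b : (e * f) ^ s * (e * f) ^ s = 1 ∨ (e * f) ^ s * (e * f) ^ s = w := by
      rwa [← pow_add, ← two_mul, ← hs]
    have b' : ∀ x, Commute x w → x * (e * f) ^ s = ((e * f) ^ s)⁻¹ * x →
        (e * f) ^ s * x * ((e * f) ^ s)⁻¹ = x ∨ (e * f) ^ s * x * ((e * f) ^ s)⁻¹ = x * w :=
      fun x hx e1 => by
        have : (e * f) ^ s * x * ((e * f) ^ s)⁻¹ = (e * f) ^ s * (e * f) ^ s * x := by
          rw [mul_inv_eq_iff_eq_mul, mul_assoc _ x, e1]; group
        rw [this]
        exact b.imp (fun b => by rw [b, one_mul]) fun b => by rw [b, hx.eq]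
    have n := not_and.mp (h2 s (by omega)) (by omega)
    refine ⟨(e * f) ^ s, c s, fun e => n (Or.inl e), fun e => n (Or.inr e), b, b' e ew (a1 s),
      b' f fw (a2 s), ?_⟩
    obtain ⟨j, rfl | rfl⟩ := Nat.even_or_odd' s
    · exact Or.inr ⟨_, (c j).inv_left, by rw [two_mul, pow_add, ← mul_assoc, a2, inv_inv]⟩
    · exact Or.inl ⟨_, (c j).inv_left, by
        rw [two_mul, add_right_comm, pow_add, pow_succ, ← mul_assoc, ← mul_assoc, a1, inv_inv,
          mul_assoc _ e, ← mul_assoc e, he, one_mul]⟩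
  · have : (e * f) ^ s * e * ((e * f) ^ s)⁻¹ = (e * f) ^ r * f := by
      rw [mul_inv_eq_iff_eq_mul, hs, mul_assoc, a2, two_mul, add_right_comm, pow_add, pow_succ,
        mul_assoc _ ((e * f) ^ s), mul_inv_cancel_left, mul_assoc, mul_assoc, hf, mul_one]
    rcases h1 with h1 | h1 <;> rw [h1] at this
    · exact absurd (this.trans (one_mul _)) (h _ (c s)).1
    · exact absurd (this.trans fw.symm.eq) (h _ (c s)).2

/-- a unique fixed point among those of `w` -/
def UW (X : Subgroup G) (w e : G) : Prop := ∀ c, Commute c w → c * e * c⁻¹ ∈ X → c ∈ X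

theorem dihedral' {X : Subgroup G} {w e f c : G} (hw : w * w = 1) (he : e * e = 1) (hf : f * f = 1)
    (ew : Commute e w) (fw : Commute f w) (cw : Commute c w) (wX : w ∈ X) (eX : e ∈ X) (fX : f ∈ X)
    (ue : UW X w e) (uf : UW X w f) (h : ∀ k, Commute k w → k * e * k⁻¹ ≠ f ∧ k * e * k⁻¹ ≠ f * w) :
    ∃ u ∈ X, c * u * c⁻¹ ∈ X ∧ Commute u w ∧ u ≠ 1 ∧ u ≠ w ∧ (u * u = 1 ∨ u * u = w) ∧
      ((∃ k, Commute k w ∧ e * u = k * f * k⁻¹) ∨
        ∃ k, Commute k w ∧ f * (c * u * c⁻¹) = k * f * k⁻¹) := by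
  have hc : c * w * c⁻¹ = w := by rw [cw.eq, mul_inv_cancel_right]
  obtain ⟨u, a1, a2, a3, a0, a4, a5, a6⟩ := dihedral (f := c⁻¹ * f * c) hw he
    (by simpa using conj_mul (b := c⁻¹) (a := f) (c := f) |>.trans (by simp [hf])) ew
    ((cw.inv_left.mul_left fw).mul_left cw) fun k hk => by
      obtain ⟨h1, h2⟩ := h (c * k) (cw.mul_left hk)
      refine ⟨fun e' => h1 ?_, fun e' => h2 ?_⟩
      · rw [show c * k * e * (c * k)⁻¹ = c * (k * e * k⁻¹) * c⁻¹ by group, e']; group
      · rw [show c * k * e * (c * k)⁻¹ = c * (k * e * k⁻¹) * c⁻¹ by group, e', ← conj_mul, hc]; group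
  refine ⟨u, ue u a1 ?_, uf _ ((cw.mul_left a1).mul_left cw.inv_left) ?_, a1, a2, a3, a0, ?_⟩
  · rcases a4 with e | e <;> rw [e]
    exacts [eX, mul_mem eX wX]
  · rw [show c * u * c⁻¹ * f * (c * u * c⁻¹)⁻¹ = c * (u * (c⁻¹ * f * c) * u⁻¹) * c⁻¹ by group]
    rcases a5 with e | e <;> rw [e]
    · simpa [mul_assoc] using fX
    · rw [← conj_mul, hc]; simpa [mul_assoc] using mul_mem fX wX
  · refine a6.imp (fun ⟨k, h1, h2⟩ => ⟨k * c⁻¹, h1.mul_left cw.inv_left, by rw [h2]; group⟩)
      fun ⟨k, h1, h2⟩ => ⟨c * k * c⁻¹, (cw.mul_left h1).mul_left cw.inv_left, ?_⟩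
    calc _ = c * (c⁻¹ * f * c * u) * c⁻¹ := by group
      _ = _ := by rw [h2]; group

end Dihedral

section Perm

variable {Ω : Type} [Fintype Ω] [DecidableEq Ω]

/-- the number of moved points -/
def sc (t : alternatingGroup Ω) : ℕ := (t : Perm Ω).support.card

theorem sc_eq_zero {t : alternatingGroup Ω} : sc t = 0 ↔ t = 1 := by
  rw [sc, Perm.card_support_eq_zero, OneMemClass.coe_eq_one]

theorem exists_conj_sc {t t' : alternatingGroup Ω} (h1 : t * t = 1) (h2 : t' * t' = 1)
    (h : sc t = sc t') : ∃ g, g * t * g⁻¹ = t' := by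
  by_cases h0 : t = 1
  · exact ⟨1, by rw [h0, sc_eq_zero.mpr rfl, eq_comm, sc_eq_zero] at h; simp [h0, h]⟩
  have h1' : (t : Perm Ω) * t = 1 := congrArg Subtype.val h1
  obtain ⟨g, hg⟩ := isConj_iff.mp (isConj_of_sq h1' (congrArg Subtype.val h2) h)
  rcases Int.units_eq_one_or (Perm.sign g) with e | e
  · exact ⟨⟨g, e⟩, Subtype.ext hg⟩
  · obtain ⟨x, hx⟩ : ∃ x, (t : Perm Ω) x ≠ x := by
      by_contra hh
      push Not at hh
      exact h0 (Subtype.ext (Equiv.ext hh))
    refine ⟨⟨g * swap x ((t : Perm Ω) x), by simp [Perm.mem_alternatingGroup, e, hx.symm]⟩,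
      Subtype.ext ?_⟩
    have := mul_swap_eq_swap_mul (t : Perm Ω) x ((t : Perm Ω) x)
    rw [← Perm.mul_apply, h1', Perm.one_apply, swap_comm ((t : Perm Ω) x)] at this
    simp only [coe_mul, InvMemClass.coe_inv, mul_inv_rev, swap_inv]
    rw [← hg, mul_assoc g, ← this]
    simp [mul_assoc]

theorem four_dvd_sc {t : alternatingGroup Ω} (h : t * t = 1) : 4 ∣ sc t := by
  have e1 := Perm.cycleType_of_pow_prime_eq_one (σ := (t : Perm Ω)) (p := 2)
    (by rw [pow_two]; exact congrArg Subtype.val h)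
  have e2 := Perm.sign_of_cycleType (t : Perm Ω)
  rw [sc, ← Perm.sum_cycleType, e1, Multiset.sum_replicate, smul_eq_mul]
  rw [Perm.mem_alternatingGroup.mp t.2, e1, Multiset.sum_replicate, smul_eq_mul,
    Multiset.card_replicate, eq_comm, neg_one_pow_eq_one_iff_even (by decide)] at e2
  obtain ⟨k, hk⟩ := e2
  omega

theorem sc_swap_swap {a b c d : Ω} (h1 : a ≠ b) (h2 : a ≠ c) (h3 : b ≠ c) (h4 : a ≠ d) (h5 : b ≠ d)
    (h6 : c ≠ d) : (swap a b * swap c d).support.card = 4 := by
  have := support_ve (embOf _ (inj4 h1 h2 h3 h4 h5 h6)) (swap 0 1 * swap 2 3)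
  rw [map_mul, ve_swap, ve_swap] at this
  exact (congrArg Finset.card this).trans (by rw [Finset.card_map]; decide)

/-- `t` agrees with `w` on its support -/
def Sub (t w : Perm Ω) : Prop := ∀ x, t x = x ∨ t x = w x

omit [Fintype Ω] [DecidableEq Ω] in
theorem Sub.mul {t t' w : Perm Ω} (hw : w * w = 1) (h : Sub t w) (h' : Sub t' w) : Sub (t * t') w :=
  fun x => by
    rw [Perm.mul_apply]
    rcases h' x with e | e <;> rw [e]
    · exact h x
    · exact (h _).symm.imp_left fun e => e.trans (Equiv.congr_fun hw x)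

omit [Fintype Ω] [DecidableEq Ω] in
theorem Sub.sq {t w : Perm Ω} (hw : w * w = 1) (h : Sub t w) : t * t = 1 := Equiv.ext fun x => by
  rw [Perm.mul_apply]
  rcases h x with e | e
  · rw [e, e]; rfl
  · rcases h (t x) with e' | e'
    · rw [t.injective e', t.injective e']; rfl
    · rw [e', e]; exact Equiv.congr_fun hw x

theorem Sub.le {t w : Perm Ω} (h : Sub t w) : t.support ⊆ w.support := fun x hx => by
  rw [Perm.mem_support] at hx ⊢
  rwa [← (h x).resolve_left hx]

theorem Sub.lt {t w : Perm Ω} (h : Sub t w) (hne : t ≠ w) : t.support.card < w.support.card := by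
  refine Finset.card_lt_card ⟨h.le, fun hh => hne (Equiv.ext fun x => ?_)⟩
  by_cases e : w x = x
  · rcases h x with e' | e'
    exacts [e'.trans e.symm, e']
  · exact (h x).resolve_left (Perm.mem_support.mp (hh (Perm.mem_support.mpr e)))

theorem sub_of_card {t w : Perm Ω} (ht : t * t = 1)
    (h : (t * w).support.card + t.support.card ≤ w.support.card) : Sub t w := by
  have h1 : w.support ⊆ (t * w).support ∪ t.support.filter fun x => t x = w x := fun x hx => by
    by_cases e : t x = w x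
    · simpa [e] using Or.inr (Perm.mem_support.mp hx)
    · refine Finset.mem_union_left _ (Perm.mem_support.mpr fun e' => e ?_)
      calc t x = t ((t * w) x) := by rw [e']
        _ = w x := Equiv.congr_fun ht (w x)
  have h2 := (Finset.card_le_card h1).trans (Finset.card_union_le _ _)
  have h3 := Finset.eq_of_subset_of_card_le (Finset.filter_subset (fun x => t x = w x) t.support)
    (by omega)
  intro x
  by_cases e : t x = x
  · exact Or.inl e
  · exact Or.inr (Finset.mem_filter.mp (h3.ge (Perm.mem_support.mpr e))).2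

theorem card_lt_of_comm {t w y : Perm Ω} (hw : w * w = 1) (ht : Sub t w) (hy : y.support ⊆ w.support)
    (h1 : y.support.card + t.support.card ≤ w.support.card) (h0 : t ≠ 1) :
    (y * t).support.card < w.support.card ∨ (y * t * w).support.card < w.support.card := by
  by_cases h : Disjoint y.support t.support
  · right
    refine lt_of_le_of_lt (Finset.card_le_card (t := w.support \ t.support) fun x hx => ?_)
      (Finset.card_lt_card (Finset.sdiff_ssubset ht.le (by simpa [Finset.nonempty_iff_ne_empty])))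
    rw [Finset.mem_sdiff]
    refine ⟨?_, fun hx' => Perm.mem_support.mp hx ?_⟩
    · by_contra hh
      have a : ∀ {g : Perm Ω}, g.support ⊆ w.support → g x = x := fun hg =>
        Perm.notMem_support.mp fun e => hh (hg e)
      exact Perm.mem_support.mp hx (by simp [a hy, a ht.le, a subset_rfl])
    · rw [Perm.mul_apply, Perm.mul_apply, ← (ht x).resolve_left (Perm.mem_support.mp hx'),
        ← Perm.mul_apply t, ht.sq hw, Perm.one_apply]
      exact Perm.notMem_support.mp (Finset.disjoint_right.mp h hx')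
  · left
    have h2 := Finset.card_le_card (Perm.support_mul_le y t)
    have h3 := Finset.card_union_add_card_inter y.support t.support
    have h4 := Finset.card_pos.mpr (Finset.not_disjoint_iff_nonempty_inter.mp h)
    rw [Finset.sup_eq_union] at h2
    omega

theorem card_comm_le {t w y : Perm Ω} (ht : Sub t w) (hy : Commute y w) (h2 : t * t = 1) :
    (y * t * (y * t)).support.card ≤ y.support.card := by
  refine Finset.card_le_card fun x hx => ?_
  by_contra hh
  have a := Perm.notMem_support.mp hh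
  have b : y (t x) = t x := by
    rcases ht x with e | e <;> rw [e]
    · exact a
    · rw [← Perm.mul_apply, hy.eq, Perm.mul_apply, a]
  refine Perm.mem_support.mp hx ?_
  simp only [Perm.mul_apply, b]
  rw [← Perm.mul_apply t, h2, Perm.one_apply, a]

end Perm

variable {κ E : Type} [DecidableEq κ] [DecidableEq E] [Fintype κ] [Fintype E]

/-- the embedding of `J` in the alternating group -/
def jA (E : Type) [DecidableEq E] [Fintype E] : HJ κ →* alternatingGroup (Om κ E) :=
  jt.codRestrict _ sign_jt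

theorem coe_jA (x : HJ κ) : (jA E x : Perm (Om κ E)) = jt x := rfl

theorem sc_bb (v : PI κ → ZMod 2) : (bb v : Perm (Om κ E)).support.card = 2 * wt v := by
  rw [wt, show (bb v : Perm (Om κ E)).support =
    ((Finset.univ.filter fun p => v p = 1) ×ˢ Finset.univ).map ⟨_, Sum.inl_injective⟩ by
      ext (⟨p, y⟩ | e)
      · rcases z2_cases (v p) with h | h <;> simp [h]
      · simp]
  simp [mul_comm]

theorem support_jA (a v : κ → ZMod 2) : (jt ⟨a, 0, v⟩ : Perm (Om κ E)).support =
    (((Finset.univ.filter fun i => a i = 1 ∨ v i = 1) ×ˢ Finset.univ) ×ˢ Finset.univ).image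
      fun x => Sum.inl (some x.1, x.2) := by
  ext (⟨_ | ⟨j, u⟩, y⟩ | e)
  · simp [jt_apply]
  · rcases z2_cases (a j) with h | h <;> rcases z2_cases (v j) with h' | h' <;> simp [jt_apply, h, h']
  · simp [jt_apply]

theorem sc_jA (a v : κ → ZMod 2) :
    sc (jA E ⟨a, 0, v⟩) = 4 * (Finset.univ.filter fun i => a i = 1 ∨ v i = 1).card := by
  rw [sc, coe_jA, support_jA,
    Finset.card_image_of_injective _ fun x y e => by simpa [Prod.ext_iff] using e]
  simp; ring

theorem sc_zq (a : κ → ZMod 2) : sc (jA E (zq a)) = 4 * wt a := by rw [sc_jA]; simp [wt]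

theorem exists_wt {ι : Type} [Fintype ι] {k : ℕ} {s : Finset ι} (h : k ≤ s.card) :
    ∃ a : ι → ZMod 2, wt a = k ∧ ∀ i, i ∉ s → a i = 0 := by
  classical
  obtain ⟨t, h1, h2⟩ := Finset.exists_subset_card_eq h
  exact ⟨fun i => if i ∈ t then 1 else 0, by rw [← h2, wt]; congr 1; ext i; simp,
    fun i hi => if_neg fun e => hi (h1 e)⟩

theorem card_Om : Fintype.card (Om κ E) = 4 * Fintype.card κ + 2 + Fintype.card E := by
  simp; ring

theorem exists_zq [Subsingleton E] {t : alternatingGroup (Om κ E)} (h : t * t = 1) :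
    ∃ a : κ → ZMod 2, sc t = 4 * wt a := by
  obtain ⟨k, hk⟩ := four_dvd_sc h
  have h1 : sc t ≤ _ := Finset.card_le_univ _
  have h2 := Fintype.card_le_one_iff_subsingleton.mpr ‹Subsingleton E›
  rw [card_Om] at h1
  obtain ⟨a, ha, -⟩ := exists_wt (s := (Finset.univ : Finset κ)) (k := k) (by simp; omega)
  exact ⟨a, by rw [ha, hk]⟩

end Cfsg.Lib.Alt
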