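import Cfsg.Agent.Lib.Alt.D2
import Cfsg.Agent.Lib.Alt.F1

/-!
The central case: the centraliser of the four-groups of all blocks but one.
-/

set_option autoImplicit false

namespace Cfsg.Lib.Alt

open Equiv Subgroup Cfsg.Lib.Kondo Cfsg.Lib.FT

variable {κ : Type} [DecidableEq κ] [Fintype κ] {G : Type*} [Group G]

omit [Fintype κ] in
/-- the dihedral group of one block -/
def io (k : κ) : HJ Unit →* HJ κ :=
  MonoidHom.mk' (fun x => ⟨x.a () • δ k, x.d () • δ k, x.v () • δ k⟩) fun x y => by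
    ext j <;> by_cases h : j = k <;> simp [h, mul_comm]

omit [Fintype κ] [DecidableEq κ] in
/-- the four-groups outside one block -/
def HO (k : κ) : Subgroup (HJ κ) where
  carrier := {x | x.d = 0 ∧ x.a k = 0 ∧ x.v k = 0}
  one_mem' := ⟨rfl, rfl, rfl⟩
  mul_mem' := fun h h' => by simp [h.1, h.2.1, h.2.2, h'.1, h'.2.1, h'.2.2]
  inv_mem' := fun h => by simp [h.1, h.2.1, h.2.2]

omit [Fintype κ] in
theorem io_u (k : κ) : io k (zq (δ ())) = zq (δ k) := by ext j <;> simp [io]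
omit [Fintype κ] in
theorem io_e (k : κ) : io k (eq' ()) = eq' k := by ext j <;> simp [io]
omit [Fintype κ] in
theorem io_s (k : κ) : io k (sq' ()) = sq' k := by ext j <;> simp [io]

omit [Fintype κ] in
theorem mem_K {Λ : HJ κ →* G} [Finite κ] {k : κ} {g : G}
    (h1 : ∀ j, j ≠ k → g * Λ (zq (δ j)) * g⁻¹ = Λ (zq (δ j)))
    (h2 : ∀ j, j ≠ k → g * Λ (sq' j) * g⁻¹ = Λ (sq' j)) : g ∈ C[(HO k).map Λ] := by
  rintro _ ⟨⟨a, d, v⟩, ⟨rfl, ha, hv⟩, rfl⟩
  have e1 : g * Λ (zq a) * g⁻¹ = Λ (zq a) := fix_zq' fun i hi => h1 i (by rintro rfl; simp_all)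
  have e2 : ∀ b, g * Λ ⟨0, 0, v * b⟩ * g⁻¹ = Λ ⟨0, 0, v * b⟩ := fun b => by
    induction b using Pi.single_induction with
    | zero => simp [zq_zero]
    | add a b ha hb =>
      rw [show (⟨0, 0, v * (a + b)⟩ : HJ κ) = ⟨0, 0, v * a⟩ * ⟨0, 0, v * b⟩ by ext <;> simp [mul_add],
        map_mul, ← conj_mul, ha, hb]
    | single i c =>
      rcases z2_cases c with rfl | rfl
      · simp [zq_zero]
      · rcases mul_δ v i with ⟨-, h⟩ | ⟨h3, h⟩ <;> rw [h]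
        · simp [zq_zero]
        · exact h2 i (by rintro rfl; simp_all)
  rw [show (⟨a, 0, v⟩ : HJ κ) = zq a * ⟨0, 0, v * 1⟩ by ext <;> simp, eq_comm, ← mul_inv_eq_iff_eq_mul,
    map_mul, ← conj_mul, e1, e2]

theorem range_le_of_sq {X : Type*} [Group X] {Λ : HJ Unit →* X} {N : Subgroup X} (hN : N.Normal)
    (h : ∀ g, g * g ∈ N) {y₁ y₂ : X} (h1 : y₁ * Λ (zq (δ ())) * y₁⁻¹ = Λ (zq (δ ())) * Λ (sq' ()))
    (h2 : y₂ * Λ (zq (δ ())) * y₂⁻¹ = Λ (eq' ())) : Λ.range ≤ N := by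
  have a : Λ (zq (δ ())) ∈ N := by
    have := h (Λ ⟨0, 1, 1⟩)
    rwa [← map_mul] at this
  have b : Λ (sq' ()) ∈ N := (mul_mem_cancel_left a).mp (h1 ▸ hN.conj_mem _ a _)
  have c : Λ (eq' ()) ∈ N := h2 ▸ hN.conj_mem _ a _
  rintro _ ⟨x, rfl⟩
  have : ∀ x : HJ Unit, ∃ i j l : Fin 2, x = zq (δ ()) ^ (i : ℕ) * eq' () ^ (j : ℕ) * sq' () ^ (l : ℕ) := by
    decide
  obtain ⟨i, j, l, rfl⟩ := this x
  simp only [map_mul, map_pow]
  exact mul_mem (mul_mem (pow_mem a _) (pow_mem c _)) (pow_mem b _)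

theorem JH.exists_L [Finite G] {Λ : HJ κ →* G} {w : G} (H : JH Λ w) (k : κ) {y₁ y₂ : G}
    (k1 : y₁ ∈ C[(HO k).map Λ]) (k2 : y₂ ∈ C[(HO k).map Λ])
    (h1 : y₁ * y₁ * Λ (zq (δ k)) * (y₁ * y₁)⁻¹ = Λ (zq (δ k)) * Λ (sq' k))
    (h2 : y₂ * y₂ * Λ (zq (δ k)) * (y₂ * y₂)⁻¹ = Λ (eq' k)) :
    ∃ L : Subgroup G, L ≤ C[(HO k).map Λ] ∧ (∀ g ∈ C[(HO k).map Λ], g * g ∈ L) ∧
      ∃ (Λ' : HJ Unit →* L) (w' : L), (∀ x, Λ' x = Λ (io k x)) ∧ w' = w ∧ JH Λ' w' ∧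
        ∀ N : Subgroup L, N.index ≠ 2 := by
  set K := C[(HO k).map Λ]
  let P₀ : Subgroup (HJ κ) :=
    { carrier := {x | ∀ j, j ≠ k → x.d j = 0}
      one_mem' := fun _ _ => rfl
      mul_mem' := fun h h' j hj => by simp [h j hj, h' j hj]
      inv_mem' := id }
  have hP : ∀ x ∈ P₀, Λ x ∈ K := by
    rintro x hx _ ⟨y, hy, rfl⟩
    rw [← map_mul, ← map_mul, HJ.comm.mpr]
    ext j
    by_cases h : j = k <;> simp [h, hy.1, hy.2.2, hx j]
  have hw : w ∈ K := by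
    rintro _ ⟨y, hy, rfl⟩
    exact H.comm_w (by simp [hy.1])
  have hO : ∀ x ∈ HO k, x ∈ P₀ := fun x hx j _ => by rw [hx.1]; rfl
  have hC : ∀ g ∈ K, g * Λ (zq (δ k)) * g⁻¹ = Λ (zq (δ k)) → ∃ x ∈ P₀, ∃ j : ℕ, g = Λ x * w ^ j :=
    fun g hg e => by
      have fx : ∀ x ∈ HO k, g * Λ x * g⁻¹ = Λ x := fun x hx => by
        rw [← hg _ ⟨x, hx, rfl⟩, mul_inv_cancel_right]
      obtain ⟨x, j, rfl⟩ := H.cz g fun i => by
        by_cases h : i = k
        exacts [h ▸ e, fx _ ⟨rfl, by simp [Ne.symm h], rfl⟩]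
      refine ⟨x, fun l hl => ?_, j, rfl⟩
      have := fx (sq' l) ⟨rfl, rfl, by simp [Ne.symm hl]⟩
      rw [mul_assoc (Λ x), ← (Commute.pow_right (H.comm_w (x := sq' l) (by simp)) j).eq, mul_inv_rev,
        ← mul_assoc, ← mul_assoc, mul_inv_cancel_right, ← map_inv, ← map_mul, ← map_mul, conj_sq'] at this
      simpa [mul_zq] using congrFun (congrArg HJ.a (H.inj this)) l
  have hp : IsPGroup 2 (P₀.map Λ) := isPGroup_range.to_le (map_le_range _ _)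
  have hS : IsSylowIn 2 (P₀.map Λ) K := by
    by_contra hh
    obtain ⟨n, hn, a, b, c⟩ := GW.exists_mem_normalizer_not_mem_of_isPGroup hp (X := K)
      (by rintro _ ⟨x, hx, rfl⟩; exact hP x hx) hh
    obtain ⟨x, hx, e⟩ := (mem_normalizer_iff.mp a _).mp
      (mem_map_of_mem Λ (show ⟨0, δ k, δ k⟩ ∈ P₀ from fun j hj => by simp [hj]))
    have e1 : n * Λ (zq (δ k)) * n⁻¹ = Λ (zq (x.v * x.d)) := by
      rw [zq, zq, ← HJ.sq, map_mul, e, conj_mul, ← map_mul, HJ.sq, mul_δ_one (by simp)]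
    have e2 : x.v * x.d = δ k := by
      have : x.v * x.d ≠ 0 := fun h => by
        rw [h, zq_zero, map_one, conj_eq_one_iff, ← map_one Λ] at e1
        exact zq_δ_ne k (H.inj e1)
      ext j
      by_cases hj : j = k
      · rw [hj, δ, Pi.single_eq_same]
        refine (z2_cases _).resolve_left fun h => this (funext fun i => ?_)
        by_cases hi : i = k
        exacts [hi ▸ h, by simp [hx i hi]]
      · simp [hx j hj, hj]
    obtain ⟨y, hy, j, rfl⟩ := hC n hn (e2 ▸ e1)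
    have e3 : IsPGroup 2 (zpowers (Λ y * w ^ j) ⊔ P₀.map Λ :) :=
      c.to_sup_of_normal_right' hp (zpowers_le.mpr a)
    obtain ⟨i, hi⟩ := pow_two_pow_of_mem e3 (x := w ^ j) ((mul_mem_cancel_left
      (mem_sup_right (mem_map_of_mem Λ hy))).mp (mem_sup_left (mem_zpowers _)))
    rw [eq_one_of_two_three hi (by rw [← pow_mul, mul_comm, pow_mul, H.w3, one_pow]), mul_one] at b
    exact b (mem_map_of_mem Λ hy)
  let f : HJ κ → Multiplicative ((κ → ZMod 2) × (κ → ZMod 2)) := fun x =>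
    .ofAdd (x.a * (1 + δ k), x.v * (1 + δ k))
  let ϕ : (P₀.map Λ).subgroupOf K →* Multiplicative ((κ → ZMod 2) × (κ → ZMod 2)) :=
    MonoidHom.mk' (fun g => f (Function.invFun Λ g)) (by
      rintro g g'
      obtain ⟨x, hx, e : Λ x = g⟩ := g.2
      obtain ⟨y, hy, e' : Λ y = g'⟩ := g'.2
      simp only [coe_mul, ← e, ← e', ← map_mul, Function.leftInverse_invFun H.inj _, f, ← ofAdd_add]
      congr 1
      ext j
      · by_cases h : j = k <;> simp [h, hx j, z2_add]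
      · simp [add_mul])
  let V := MonoidHom.transfer ϕ
  have sq : ∀ g : K, g * g ∈ V.ker := fun g => by
    rw [MonoidHom.mem_ker, map_mul]
    exact Prod.ext (vadd _) (vadd _)
  have hV : ∀ x (hx : x ∈ HO k), V ⟨Λ x, hP x (hO x hx)⟩ = 1 → x = 1 := fun x hx e => by
    have h0 := hS.not_dvd_relIndex
    obtain ⟨m, hm⟩ : Odd ((P₀.map Λ).subgroupOf K).index := Nat.odd_iff.mpr (by
      rw [relIndex] at h0; omega)
    rw [MonoidHom.transfer_eq_pow ϕ _ fun j g _ => by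
      rw [mul_assoc, (Commute.pow_left (Subtype.ext (g.2 _ ⟨x, hx, rfl⟩)) j).eq, inv_mul_cancel_left]] at e
    have e1 : x ^ ((P₀.map Λ).subgroupOf K).index = x := by
      rw [hm, pow_succ, pow_mul, pow_two, HJ.sq_eq_one.mpr (by simp [hx.1]), one_pow, one_mul]
    change f (Function.invFun Λ (Λ x ^ _)) = 1 at e
    rw [← map_pow, e1, Function.leftInverse_invFun H.inj] at e
    have e2 : ∀ j, (x.a * (1 + δ k)) j = 0 := congrFun (congrArg Prod.fst e)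
    have e3 : ∀ j, (x.v * (1 + δ k)) j = 0 := congrFun (congrArg Prod.snd e)
    ext j
    · by_cases h : j = k
      exacts [h ▸ hx.2.1, by simpa [h] using e2 j]
    · exact congrFun hx.1 j
    · by_cases h : j = k
      exacts [h ▸ hx.2.2, by simpa [h] using e3 j]
  have hio : ∀ x, io k x ∈ P₀ := fun x j hj => by simp [io, hj]
  have hL : ∀ g ∈ K, g * g ∈ V.ker.map K.subtype := fun g hg => ⟨_, sq ⟨g, hg⟩, rfl⟩
  have hD : ∀ x, Λ (io k x) ∈ V.ker.map K.subtype := fun x => ⟨_, range_le_of_sq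
    (Λ := (Λ.comp (io k)).codRestrict K fun x => hP _ (hio x)) inferInstance sq
    (y₁ := ⟨_, mul_mem k1 k1⟩) (y₂ := ⟨_, mul_mem k2 k2⟩)
    (Subtype.ext (by simpa [io_u, io_s] using h1)) (Subtype.ext (by simpa [io_u, io_e] using h2))
    ⟨x, rfl⟩, rfl⟩
  have hw' : w ∈ V.ker.map K.subtype := by
    have := hL _ (mul_mem hw hw)
    rwa [← pow_two, ← pow_two, ← pow_mul, pow_succ, H.w3, one_mul] at this
  have H' : JH ((Λ.comp (io k)).codRestrict _ hD) ⟨w, hw'⟩ := by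
    refine ⟨fun x y e => ?_, Subtype.ext H.w3, fun x => Subtype.ext ?_, fun g hg => ?_⟩
    · have := HJ.ext_iff.mp (H.inj (congrArg Subtype.val e))
      ext j
      exacts [by simpa [io] using congrFun this.1 k, by simpa [io] using congrFun this.2.1 k,
        by simpa [io] using congrFun this.2.2 k]
    · refine (H.wconj _).trans ?_
      rw [show ∑ i, (io k x).d i = ∑ i, x.d i by simp [io, Pi.single_apply]]
      split_ifs <;> rfl
    · obtain ⟨x, hx, j, e⟩ := hC g (map_subtype_le _ g.2) (io_u k ▸ congrArg Subtype.val (hg ()))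
      let x₀ : HJ Unit := ⟨fun _ => x.a k, fun _ => x.d k, fun _ => x.v k⟩
      have h3 : (io k x₀)⁻¹ * x ∈ HO k := ⟨by
        ext i
        by_cases h : i = k <;> simp [io, x₀, h, z2_add, hx i], by
          simp [io, x₀]; linear_combination z2_add (x.a k) + z2_add (x.v k * x.d k),
        by simp [io, x₀, z2_add]⟩
      obtain ⟨a, ha, e'⟩ : Λ ((io k x₀)⁻¹ * x) ∈ V.ker.map K.subtype := by
        rw [map_mul, map_inv, ← mul_inv_cancel_right (Λ x) (w ^ j), ← e]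
        exact mul_mem (inv_mem (hD _)) (mul_mem g.2 (inv_mem (pow_mem hw' _)))
      have h4 := hV _ h3 (by rwa [← MonoidHom.mem_ker, ← Subtype.ext (a2 := ⟨_, _⟩) e'])
      exact ⟨x₀, j, Subtype.ext (by rw [e, ← inv_mul_eq_one.mp h4]; rfl)⟩
  refine ⟨_, map_subtype_le _, hL, _, _, fun _ => rfl, rfl, H', fun N hN => ?_⟩
  have h3 := H'.isSylowIn.not_dvd_relIndex
  rw [relIndex_top_right] at h3
  exact h3 (hN.symm.dvd.trans (index_dvd_of_le (range_le_of_sq (normal_of_index_eq_two hN)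
    (mul_self_mem_of_index_two hN) (y₁ := ⟨_, hL _ k1⟩) (y₂ := ⟨_, hL _ k2⟩)
    (Subtype.ext (by simpa [io_u, io_s] using h1)) (Subtype.ext (by simpa [io_u, io_e] using h2)))))

theorem not168 [Finite G] {L : Subgroup G} (hL : Nat.card L = 168) {u s f y₁ y₂ t : G} (hf : f ∈ L)
    (h1 : y₁ ∈ L) (h2 : y₂ ∈ L) (hs : s ∈ L) (c8 : Nat.card ↥(L ⊓ C1[u]) = 8) (ct : L ⊓ C1[u] ≤ C1[t])
    (a1 : y₁ ∈ C1[t]) (a2 : y₁ * u * y₁⁻¹ = u * s) (a3 : y₁ * s * y₁⁻¹ = u) (a4 : y₂ * f * y₂⁻¹ = u)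
    (a5 : y₂ * t * y₂⁻¹ = t * f) (r1 : u * u = 1) (r2 : u ≠ 1) (r3 : s ≠ 1) (r4 : f * u = u * f)
    (r5 : s * u = u * s) (r6 : f * s * f⁻¹ = s * u) : False := by
  have ft : f ∈ C1[t] := ct ⟨hf, mem_C1.mpr r4⟩
  have st : s ∈ C1[t] := ct ⟨hs, mem_C1.mpr r5⟩
  have n1 := GW.ncard_conj_mul' L t
  have n2 := GW.ncard_conj_mul' (L ⊓ C1[t]) (t * f)
  have b1 : 24 ≤ Nat.card ↥(L ⊓ C1[t]) := by
    obtain ⟨m, hm⟩ := card_dvd_of_le (le_inf inf_le_left ct)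
    obtain ⟨m', hm'⟩ := card_dvd_of_le (inf_le_left : L ⊓ C1[t] ≤ L)
    have : m ≠ 1 := fun e => by
      have := (eq_of_le_of_card_ge (le_inf inf_le_left ct) (by rw [hm, e, mul_one])).ge ⟨h1, a1⟩
      rw [mem_C1.mp this.2, mul_inv_cancel_right, left_eq_mul] at a2
      exact r3 a2
    rw [hL, hm, c8, mul_assoc] at hm'
    rw [hm, c8]
    rcases m with _ | _ | _ | m <;> omega
  have b2 : Nat.card ↥(L ⊓ C1[t] ⊓ C1[t * f]) ≤ 4 := by
    have e : Nat.card ↥(y₂⁻¹ •ᶜ (L ⊓ C1[u])) = 8 := by rw [card_map_conj, c8]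
    have le : L ⊓ C1[t] ⊓ C1[t * f] ≤ y₂⁻¹ •ᶜ (L ⊓ C1[u]) := fun g hg => by
      rw [mem_map_conj, inv_inv]
      refine ⟨L.mul_mem (L.mul_mem h2 hg.1.1) (L.inv_mem h2), mem_C1.mpr ?_⟩
      have := mem_C1.mp hg.2
      rw [← mul_assoc, mem_C1.mp hg.1.2, mul_assoc, mul_assoc, mul_right_inj] at this
      rw [← a4, conj_mul, conj_mul, this]
    obtain ⟨m, hm⟩ := card_dvd_of_le le
    have : m ≠ 1 := fun e' => by
      have := mem_C1.mp ((eq_of_le_of_card_ge le (by rw [hm, e', mul_one])).ge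
        (conj_mem_conj (mem_inf.mpr ⟨hs, mem_C1.mpr r5⟩) y₂⁻¹)).1.2
      have e2 : s * (t * f) = t * f * s := by
        rw [← a5]
        calc _ = y₂ * (y₂⁻¹ * s * y₂⁻¹⁻¹ * t) * y₂⁻¹ := by group
          _ = _ := by rw [this]; group
      rw [← mul_assoc, mem_C1.mp st, mul_assoc, mul_assoc, mul_right_inj] at e2
      rw [← e2, mul_inv_cancel_right, left_eq_mul] at r6
      exact r2 r6
    rw [e] at hm
    rcases m with _ | _ | m
    exacts [by omega, absurd rfl this, by nlinarith]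
  have b3 : insert t {y | ∃ l ∈ L ⊓ C1[t], l * (t * f) * l⁻¹ = y} = {y | ∃ l ∈ L, l * t * l⁻¹ = y} := by
    refine Set.eq_of_subset_of_ncard_le ?_ ?_
    · rintro _ (rfl | ⟨l, hl, rfl⟩)
      · exact ⟨1, one_mem _, by simp⟩
      · exact ⟨l * y₂, mul_mem hl.1 h2, by rw [← a5]; group⟩
    · rw [Set.ncard_insert_of_notMem]
      · nlinarith
      · rintro ⟨l, hl, e⟩
        rw [← conj_mul, mem_C1.mp hl.2, mul_inv_cancel_right, mul_eq_left, conj_eq_one_iff] at e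
        rw [e, mul_one, mul_inv_cancel] at a4
        exact r2 a4.symm
  have b4 : ∀ l ∈ L, l * t * l⁻¹ ∈ C1[t] := fun l hl => by
    rcases b3.ge ⟨l, hl, rfl⟩ with e | ⟨l', hl', e⟩
    · rw [e]; exact GW.self_mem_c1 _
    · exact e ▸ mul_mem (mul_mem hl'.2 (mul_mem (GW.self_mem_c1 _) ft)) (inv_mem hl'.2)
  have b5 : Commute (y₁ * f * y₁⁻¹) f := by
    have := mem_C1.mp (b4 (y₂⁻¹ * y₁ * y₂) (mul_mem (mul_mem (inv_mem h2) h1) h2))
    have e : y₁ * (t * f) * y₁⁻¹ * (t * f) = t * f * (y₁ * (t * f) * y₁⁻¹) := by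
      rw [← a5]
      calc _ = y₂ * (y₂⁻¹ * y₁ * y₂ * t * (y₂⁻¹ * y₁ * y₂)⁻¹ * t) * y₂⁻¹ := by group
        _ = _ := by rw [this]; group
    have c : Commute (y₁ * f * y₁⁻¹) t := mem_C1.mp (mul_mem (mul_mem a1 ft) (inv_mem a1))
    rw [← conj_mul, mem_C1.mp a1, mul_inv_cancel_right, c.symm.symm.mul_mul_mul_comm,
      (show Commute f t from mem_C1.mp ft).mul_mul_mul_comm, mul_right_inj] at e
    exact e
  have b6 : y₁ * f * y₁⁻¹ * u * (y₁ * f * y₁⁻¹)⁻¹ = s := by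
    nth_rw 1 [← a3]
    rw [conj_conj_eq r6, ← conj_mul, a2, a3, ← mul_assoc, r1, one_mul]
  have b7 : f * s * f⁻¹ = s := by
    rw [← b6]
    calc _ = f * (y₁ * f * y₁⁻¹) * u * (f * (y₁ * f * y₁⁻¹))⁻¹ := by group
      _ = y₁ * f * y₁⁻¹ * (f * u * f⁻¹) * (y₁ * f * y₁⁻¹)⁻¹ := by rw [← b5.eq]; group
      _ = _ := by rw [r4, mul_inv_cancel_right]
  rw [b7, left_eq_mul] at r6
  exact r2 r6

end Cfsg.Lib.Alt
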