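import Cfsg.Agent.Lib.Alt.BL
import Cfsg.Agent.Lib.Alt.F1

/-!
Computations in the alternating groups of degree six and seven.
-/

set_option autoImplicit false

namespace Cfsg.Lib.Alt

open Equiv Subgroup Cfsg.Lib.Kondo Cfsg.Lib.FT

/-- the central involution -/
abbrev pU : Perm (Fin 7) := swap 0 1 * swap 2 3
/-- the flip -/
abbrev pE : Perm (Fin 7) := swap 2 3 * swap 4 5
/-- the swap -/
abbrev pS : Perm (Fin 7) := swap 0 2 * swap 1 3
/-- the three-cycle -/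
abbrev pW : Perm (Fin 7) := c3 4 5 6

variable {L : Type*} [Group L] [Finite L] {Λ : HJ Unit →* L} {w : L}

/-- a permutation representation -/
structure PR (Λ : HJ Unit →* L) (w : L) (ψ : L →* Perm (Fin 7)) : Prop where
  inj : Function.Injective ψ
  surj : ∀ g, Perm.sign g = 1 → (w = 1 → g 6 = 6) → ∃ x, ψ x = g
  hu : ψ (Λ (zq (δ ()))) = pU

namespace JH

variable (H : JH Λ w)
include H

theorem norm7 {ψ : L →* Perm (Fin 7)} (P : PR Λ w ψ) :
    (∃ ψ', PR Λ w ψ' ∧ ψ' (Λ (eq' ())) = pE ∧ ψ' (Λ (sq' ())) = pS ∧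
      (w = 1 ∨ ψ' w = pW ∨ ψ' w = pW⁻¹)) ∨
    (w = 1 ∧ (ψ (Λ (sq' ())) = pE ∨ ψ (Λ (sq' ())) = pE * pU)) := by
  obtain ⟨e₀, he⟩ := P.surj pE (by decide) fun _ => by decide
  obtain ⟨s₀, hs⟩ := P.surj pS (by decide) fun _ => by decide
  obtain ⟨x, j, rfl⟩ := H.cz' (g := e₀) (mem_C1.mpr (P.inj (by rw [map_mul, map_mul, he, P.hu]; decide)))
  obtain ⟨x', j', rfl⟩ := H.cz' (g := s₀) (mem_C1.mpr (P.inj (by rw [map_mul, map_mul, hs, P.hu]; decide)))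
  have w3 : ∀ j : ℕ, (w ^ j) ^ 3 = 1 := fun j => by rw [← pow_mul, mul_comm, pow_mul, H.w3, one_pow]
  have cu : Commute (Λ (zq (δ ()))) w := H.comm_w (by decide)
  obtain ⟨a1, a2, a3⟩ : w ^ j * Λ x * (w ^ j)⁻¹ = Λ x * w ^ j ∧
      w ^ j * Λ x' * (w ^ j)⁻¹ = Λ x' * w ^ j' ∧
      (w = 1 ∨ x'.d () = 0 ∧ (ψ w = pW ∨ ψ w = pW⁻¹)) := by
    by_cases hw : w = 1
    · simp [hw]
    obtain ⟨w₀, h0⟩ := P.surj pW (by decide) fun h => absurd h hw
    have h1 : ψ w = pW ∨ ψ w = pW⁻¹ := by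
      rcases H.three_mem (g := w₀) (P.inj (by rw [map_pow, h0, map_one]; decide)) (fun _ => P.inj (by
        rw [map_mul, map_mul, map_inv, h0, P.hu]; decide)) with e | e | e <;> rw [e] at h0
      · exact absurd (h0.symm.trans (map_one ψ)) (by decide)
      · exact Or.inl h0
      · exact Or.inr (by rw [← h0, map_inv, inv_inv])
    have h2 : Λ x' * w = w * Λ x' := by
      have : Λ x' * w ^ j' * w = w * (Λ x' * w ^ j') := P.inj (by
        rw [map_mul, map_mul ψ w, hs]; rcases h1 with e | e <;> rw [e] <;> decide)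
      rwa [mul_assoc, ← pow_succ, pow_succ', ← mul_assoc, ← mul_assoc, mul_left_inj] at this
    have h3 : x'.d () = 0 := (z2_cases _).resolve_right fun e => hw (H.eq_one_of_comm (by simpa using e) h2)
    have h4 : Λ x * w * (Λ x)⁻¹ = w⁻¹ := by
      have : Λ x * w ^ j * w * (Λ x * w ^ j)⁻¹ = w⁻¹ := P.inj (by
        rw [map_mul, map_mul, map_inv, map_inv, he]; rcases h1 with e | e <;> rw [e] <;> decide)
      rw [← this]; group
    have h5 : w ^ j' = 1 := by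
      have : Λ x' * w ^ j' * (Λ x' * w ^ j') = 1 := P.inj (by rw [map_mul, hs, map_one]; decide)
      rw [(Commute.pow_right h2 j').symm.mul_mul_mul_comm, ← map_mul, ← eq_inv_iff_mul_eq_one] at this
      refine eq_one_of_two_three (k := 3) ?_ (w3 j')
      rw [show 2 ^ 3 = 2 * 4 from rfl, pow_mul, pow_two, ← inv_eq_one, ← inv_pow, ← this, ← map_pow,
        HJ.pow_four, map_one]
    refine ⟨?_, by rw [h5, mul_one, ← (Commute.pow_right h2 j).eq, mul_inv_cancel_right],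
      Or.inr ⟨h3, h1⟩⟩
    have h6 : Λ x * (w ^ j)⁻¹ * (Λ x)⁻¹ = w ^ j := by
      rw [← inv_pow, ← conj_pow, ← conj_inv, h4, inv_inv]
    nth_rw 1 [← h6]
    rw [inv_mul_cancel_right, mul_assoc, mul_right_inj, ← mul_inv_rev, inv_eq_iff_mul_eq_one, ← w3 j,
      pow_succ, pow_two]
  have a4 : w ^ j * Λ (zq (δ ())) * (w ^ j)⁻¹ = Λ (zq (δ ())) := by
    rw [← (cu.pow_right j).eq, mul_inv_cancel_right]
  let ψ₁ := ψ.comp (MulAut.conj (w ^ j)).toMonoidHom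
  have i1 : Function.Injective (ψ₁.comp Λ) := (P.inj.comp (MulAut.conj _).injective).comp H.inj
  have b1 : ψ₁.comp Λ x = pE := by rw [← he, ← a1]; rfl
  have b2 : ψ₁.comp Λ x' = pS := by rw [← hs, ← a2]; rfl
  have b3 : ψ₁.comp Λ (zq (δ ())) = pU := by rw [← P.hu, ← a4]; rfl
  have key : ∀ x x' : HJ Unit, x * x = 1 → x' * x' = 1 → x * x' * x⁻¹ = x' * zq (δ ()) →
      (∃ c, c * eq' () * c⁻¹ = x ∧ c * sq' () * c⁻¹ = x') ∨
        (x'.d () = 1 ∧ (x = sq' () ∨ x * zq (δ ()) = sq' ())) := by decide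
  rcases key x x' (i1 (by rw [map_mul, b1, map_one]; decide)) (i1 (by rw [map_mul, b2, map_one]; decide))
    (i1 (by rw [map_mul, map_mul, map_inv, map_mul, b1, b2, b3]; decide)) with ⟨c, rfl, rfl⟩ | ⟨h1, h2⟩
  · let ψ₂ := ψ₁.comp (MulAut.conj (Λ c)).toMonoidHom
    have e : ∀ y, ψ₂ (Λ y) = ψ₁.comp Λ (c * y * c⁻¹) := fun y => by simp [ψ₂]
    refine Or.inl ⟨ψ₂, ⟨(P.inj.comp (MulAut.conj _).injective).comp (MulAut.conj _).injective,
      fun g h1 h2 => ?_, by rw [e, zq_conj, b3]⟩, by rw [e, b1], by rw [e, b2], a3.imp_right fun h => ?_⟩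
    · obtain ⟨y, rfl⟩ := P.surj g h1 h2
      refine ⟨(Λ c)⁻¹ * ((w ^ j)⁻¹ * y * w ^ j) * Λ c, congrArg ψ ?_⟩
      change w ^ j * (Λ c * _ * (Λ c)⁻¹) * (w ^ j)⁻¹ = y
      group
    · have e1 : ψ₁ w = ψ w := congrArg ψ (by
        change w ^ j * w * (w ^ j)⁻¹ = w
        group)
      have e2 : ψ₂ w = ψ₁ (Λ c * w * (Λ c)⁻¹) := rfl
      rw [e2, H.wconj]
      split_ifs
      · exact e1 ▸ h.2
      · rw [map_inv, e1]
        exact h.2.symm.imp (fun e => by rw [e, inv_inv]) fun e => by rw [e]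
  · have hw : w = 1 := a3.resolve_right fun h => by simp [h.1] at h1
    rw [hw, one_pow, mul_one] at he
    exact Or.inr ⟨hw, h2.imp (fun e => by rw [← e, he]) fun e => by rw [← e, map_mul, map_mul, he, P.hu]⟩

theorem exists_pu {n : ℕ} [NeZero n] (h1 : 4 ≤ n) (h2 : n ≤ 7) (ψ : L ≃* alternatingGroup (Fin n))
    {U : Perm (Fin n)} (h3 : U * U = 1) (h4 : U.support.card = 4) (h5 : Perm.sign U = 1) :
    ∃ ψ' : L ≃* alternatingGroup (Fin n), ψ' (Λ (zq (δ ()))) = U := by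
  have a : ψ (Λ (zq (δ ()))) * ψ (Λ (zq (δ ()))) = 1 := by
    rw [← map_mul, ← map_mul, show zq (δ ()) * zq (δ ()) = 1 by decide, map_one, map_one]
  obtain ⟨m, hm⟩ := four_dvd_sc a
  have b : sc (ψ (Λ (zq (δ ())))) ≤ n := (Finset.card_le_univ _).trans (by simp)
  have c : sc (ψ (Λ (zq (δ ())))) ≠ 0 := fun e => absurd
    (H.inj (ψ.injective ((sc_eq_zero.mp e).trans (by rw [map_one, map_one])))) (by decide)
  obtain ⟨g, hg⟩ := exists_conj_sc (t' := ⟨U, h5⟩) a (Subtype.ext h3) (by change _ = U.support.card; omega)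
  exact ⟨ψ.trans (MulAut.conj g), congrArg Subtype.val hg⟩

theorem exists_std (hi : (w = 1 ∧ Nonempty (L ≃* alternatingGroup (Fin 6))) ∨
    (w ≠ 1 ∧ Nonempty (L ≃* alternatingGroup (Fin 7)))) :
    ∃ ψ, PR Λ w ψ ∧ ψ (Λ (eq' ())) = pE ∧ ψ (Λ (sq' ())) = pS ∧ (w = 1 ∨ ψ w = pW ∨ ψ w = pW⁻¹) := by
  rcases hi with ⟨hw, ⟨ψ⟩⟩ | ⟨hw, ⟨ψ⟩⟩
  swap
  · obtain ⟨ψ, h⟩ := H.exists_pu (by decide) le_rfl ψ (U := pU) (by decide) (by decide) (by decide)
    exact (H.norm7 (ψ := (alternatingGroup _).subtype.comp ψ.toMonoidHom)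
      ⟨Subtype.val_injective.comp ψ.injective, fun g h1 _ => ⟨ψ.symm ⟨g, h1⟩, by simp⟩, h⟩).resolve_right
      fun h => hw h.1
  obtain ⟨ψ, h⟩ := H.exists_pu (by decide) (by decide) ψ (U := swap 0 1 * swap 2 3) (by decide)
    (by decide) (by decide)
  let f : Fin 6 ↪ Fin 7 := Fin.castSuccEmb
  have v : ∀ a b c d, ve f (swap a b * swap c d) = swap (f a) (f b) * swap (f c) (f d) := fun a b c d => by
    rw [map_mul, ve_swap, ve_swap]
  have key : ∀ ω : Perm (Fin 6) →* Perm (Fin 6), Function.Injective ω →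
      (∀ g, Perm.sign (ω g) = Perm.sign g) → ω (swap 0 1 * swap 2 3) = swap 0 1 * swap 2 3 →
      PR Λ w ((ve f).comp (ω.comp ((alternatingGroup _).subtype.comp ψ.toMonoidHom))) :=
    fun ω h1 h2 h3 => ⟨(ve_inj f).comp (h1.comp (Subtype.val_injective.comp ψ.injective)),
      fun g a b => by
        obtain ⟨g, rfl⟩ := exists_ve f (h := g) fun y hy => by
          induction y using Fin.lastCases with
          | last => exact b hw
          | cast y => exact absurd rfl (hy y)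
        obtain ⟨g, rfl⟩ := Finite.surjective_of_injective h1 g
        rw [sign_ve, h2] at a
        exact ⟨ψ.symm ⟨g, a⟩, by simp⟩,
      (congrArg (fun g => ve f (ω g)) h).trans (by rw [h3, v]; rfl)⟩
  obtain ⟨ω, o1, o2, -, o3, o4⟩ := exists_outer
  have o5 : ω (swap 0 1 * swap 2 3) = swap 0 1 * swap 2 3 := by
    rw [show (swap 0 1 * swap 2 3 : Perm (Fin 6)) = swap 0 1 * swap 4 5 * (swap 2 3 * swap 4 5) by decide,
      map_mul, o3, o4]
    decide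
  refine (H.norm7 (key (MonoidHom.id _) Function.injective_id (fun _ => rfl) rfl)).elim id fun h1 =>
    (H.norm7 (key ω o1 o2 o5)).resolve_right fun h2 => ?_
  have e : ∀ {g : Perm (Fin 6)}, ve f g = pE ∨ ve f g = pE * pU →
      g = swap 2 3 * swap 4 5 ∨ g = swap 0 1 * swap 4 5 := fun h => h.imp
    (fun e => ve_inj f (e.trans (v 2 3 4 5).symm)) fun e => ve_inj f (e.trans (by rw [v]; decide))
  have e2 := e h2.2
  rcases e h1.2 with e1 | e1 <;> erw [MonoidHom.comp_apply, e1] at e2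
  · rw [o4] at e2
    exact absurd e2 (by decide)
  · rw [o3] at e2
    exact absurd e2 (by decide)

theorem alt_facts (hi : (w = 1 ∧ Nonempty (L ≃* alternatingGroup (Fin 6))) ∨
    (w ≠ 1 ∧ Nonempty (L ≃* alternatingGroup (Fin 7)))) {y₂ : L}
    (h1 : y₂ * Λ (zq (δ ())) * y₂⁻¹ = Λ (eq' ()))
    (h2 : y₂ * Λ (eq' ()) * y₂⁻¹ = Λ (eq' ()) * Λ (zq (δ ()))) :
    ∃ y, y ^ 3 = 1 ∧ y * Λ (zq (δ ())) * y⁻¹ = Λ (sq' ()) ∧ Λ (eq' ()) * y * (Λ (eq' ()))⁻¹ = y⁻¹ ∧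
      (y * Λ (zq (δ ()))) ^ 3 = 1 ∧ (y₂ * y * y₂⁻¹ * Λ (sq' ())) ^ 4 = 1 ∧
      (w ≠ 1 → (w * (y₂ * y * y₂⁻¹)) ^ 2 = 1 ∨ (w⁻¹ * (y₂ * y * y₂⁻¹)) ^ 2 = 1) ∧
      (w = 1 ∨ ∃ h, y = h * h * w * (h * h)⁻¹ ∨ y = h * h * w⁻¹ * (h * h)⁻¹) ∧
      ∀ y', y' ^ 3 = 1 → y' * Λ (zq (δ ())) * y'⁻¹ = Λ (sq' ()) →
        Λ (eq' ()) * y' * (Λ (eq' ()))⁻¹ = y'⁻¹ → (w = 1 ∨ ∃ g, y' = g * w * g⁻¹) →
        y' = y ∨ y' = Λ (zq (δ ())) * y * (Λ (zq (δ ())))⁻¹ := by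
  obtain ⟨ψ, P, he, hs, hw⟩ := H.exists_std hi
  have hu := P.hu
  have cz : ∀ g, g * Λ (zq (δ ())) = Λ (zq (δ ())) * g → ∃ (i j l : Fin 2) (m : Fin 3),
      ψ g = pU ^ (i : ℕ) * pE ^ (j : ℕ) * pS ^ (l : ℕ) * pW ^ (m : ℕ) ∧ (w = 1 → m = 0) := fun g hg => by
    obtain ⟨x, k, rfl⟩ := H.cz' (mem_C1.mpr hg)
    have : ∀ x : HJ Unit, ∃ i j l : Fin 2,
      x = zq (δ ()) ^ (i : ℕ) * eq' () ^ (j : ℕ) * sq' () ^ (l : ℕ) := by decide
    obtain ⟨i, j, l, rfl⟩ := this x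
    obtain ⟨m, h3, h4⟩ : ∃ m : Fin 3, ψ (w ^ k) = pW ^ (m : ℕ) ∧ (w = 1 → m = 0) := by
      by_cases h : w = 1
      · exact ⟨0, by simp [h], fun _ => rfl⟩
      rcases H.pow_cases k with e | e | e <;> rcases hw.resolve_left h with e' | e' <;> rw [e]
      exacts [⟨0, map_one _, fun _ => rfl⟩, ⟨0, map_one _, fun _ => rfl⟩, ⟨1, e', fun e => absurd e h⟩,
        ⟨2, e'.trans (by decide), fun e => absurd e h⟩,
        ⟨2, by rw [map_inv, e']; decide, fun e => absurd e h⟩,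
        ⟨1, by rw [map_inv, e']; decide, fun e => absurd e h⟩]
    exact ⟨i, j, l, m, by simp only [map_mul, map_pow, he, hs, hu, ← h3], h4⟩
  obtain ⟨y, hy⟩ := P.surj (c3 0 2 3) (by decide) fun _ => by decide
  obtain ⟨z, hz⟩ := P.surj (c3 0 4 2 * c3 1 5 3) (by decide) fun _ => by decide
  have a1 : y * Λ (zq (δ ())) * y⁻¹ = Λ (sq' ()) := P.inj (by
    rw [map_mul, map_mul, map_inv, hy, hu, hs]; decide)
  have a2 : z * Λ (zq (δ ())) * z⁻¹ = Λ (eq' ()) := P.inj (by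
    rw [map_mul, map_mul, map_inv, hz, hu, he]; decide)
  have cj : ∀ {a b c d : L}, a * c * a⁻¹ = d → b * c * b⁻¹ = d → a⁻¹ * b * c = c * (a⁻¹ * b) :=
    fun {a b c d} h h' => by
      calc _ = a⁻¹ * (b * c * b⁻¹) * b := by group
        _ = _ := by rw [h', ← h]; group
  obtain ⟨i, j, l, m, e, -⟩ := cz _ (cj a2 h1)
  rw [map_mul, map_inv, inv_mul_eq_iff_eq_mul, hz] at e
  have k1 : ∀ (i j l : Fin 2) (m : Fin 3) (g : Perm (Fin 7)),
      g = c3 0 4 2 * c3 1 5 3 * (pU ^ (i : ℕ) * pE ^ (j : ℕ) * pS ^ (l : ℕ) * pW ^ (m : ℕ)) →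
      g * pE * g⁻¹ = pE * pU → (g * c3 0 2 3 * g⁻¹ * pS) ^ 4 = 1 ∧
        ((pW * (g * c3 0 2 3 * g⁻¹)) ^ 2 = 1 ∨ (pW⁻¹ * (g * c3 0 2 3 * g⁻¹)) ^ 2 = 1) := by
    intro i j l m g hg
    subst hg
    revert i j l m
    decide +kernel
  obtain ⟨b1, b2⟩ := k1 i j l m _ e (by rw [← he, ← hu, ← map_mul, ← map_inv, ← map_mul, h2, map_mul])
  refine ⟨y, P.inj (by rw [map_pow, hy, map_one]; decide), a1,
    P.inj (by simp only [map_mul, map_inv, hy, he]; decide),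
    P.inj (by simp only [map_mul, map_pow, map_one, hy, hu]; decide),
    P.inj (by simpa only [map_mul, map_pow, map_inv, map_one, hy, hs] using b1), fun h => ?_, ?_,
    fun y' c1 c2 c3' c4 => ?_⟩
  · simp only [← P.inj.eq_iff, map_mul, map_pow, map_inv, map_one, hy]
    rcases hw.resolve_left h with e | e <;> rw [e]
    exacts [b2, b2.symm]
  · by_cases h : w = 1
    · exact Or.inl h
    obtain ⟨g, hg⟩ := P.surj (c3 0 1 2 * c3 0 4 5 * c3 2 6 3) (by decide +kernel) fun e => absurd e h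
    refine Or.inr ⟨g, ?_⟩
    simp only [← P.inj.eq_iff, map_mul, map_inv, hy, hg]
    rcases hw.resolve_left h with e | e <;> rw [e] <;> decide +kernel
  · obtain ⟨i, j, l, m, e, e'⟩ := cz _ (cj a1 c2)
    rw [map_mul, map_inv, inv_mul_eq_iff_eq_mul, hy] at e
    have k2 : ∀ (i j l : Fin 2) (m : Fin 3) (g : Perm (Fin 7)),
        g = c3 0 2 3 * (pU ^ (i : ℕ) * pE ^ (j : ℕ) * pS ^ (l : ℕ) * pW ^ (m : ℕ)) →
        g ^ 3 = 1 → pE * g * pE⁻¹ = g⁻¹ → (m = 0 ∨ g.support.card = 3) →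
          g = c3 0 2 3 ∨ g = pU * c3 0 2 3 * pU⁻¹ := by
      intro i j l m g hg
      subst hg
      revert i j l m
      decide +kernel
    simp only [← P.inj.eq_iff, map_mul, map_inv, hy, hu]
    refine k2 i j l m _ e (by rw [← map_pow, c1, map_one])
      (by rw [← he, ← map_mul, ← map_inv, ← map_mul, c3', map_inv]) ?_
    by_cases h : w = 1
    · exact Or.inl (e' h)
    obtain ⟨g, rfl⟩ := c4.resolve_left h
    right
    rw [map_mul, map_mul, map_inv, Perm.card_support_conj]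
    rcases hw.resolve_left h with e | e <;> rw [e] <;> decide

end JH

end Cfsg.Lib.Alt
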