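import Cfsg.Agent.Lib.Alt.D3
import Cfsg.Agent.Lib.Alt.D4

/-!
The central case: construction of the alternating subgroup.
-/

set_option autoImplicit false

namespace Cfsg.Lib.Alt

open Equiv Subgroup Cfsg.Lib.Kondo Cfsg.Lib.FT

variable {κ E : Type} [DecidableEq κ] [DecidableEq E] [Fintype κ] [Fintype E] {G : Type*} [Group G]

omit [Fintype κ] in
theorem comm_add [Finite κ] {f : (κ → ZMod 2) → G} (hf : ∀ a b, f (a + b) = f a * f b) {g : G}
    {m : κ → ZMod 2} (hg : ∀ i, m i = 1 → Commute (f (δ i)) g) : Commute (f m) g := by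
  have h0 : f 0 = 1 := by simpa using hf 0 0
  suffices ∀ a, Commute (f (m * a)) g by simpa using this 1
  intro a
  induction a using Pi.single_induction with
  | zero => simp [h0]
  | add a b ha hb => rw [mul_add, hf]; exact ha.mul_left hb
  | single i c =>
    rcases z2_cases c with rfl | rfl
    · simp [h0]
    · rcases mul_δ m i with ⟨-, h⟩ | ⟨h1, h⟩ <;> rw [h]
      · simp [h0]
      · exact hg i h1

namespace Mod

variable {I : κ → ZMod 2} {z : G} {φ : Perm (Om κ E) → G} [Subsingleton E] [Finite G]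

omit [Finite G] in
theorem w_ne (M : Mod I z φ) (h : Nonempty E) : φ (w3 κ E) ≠ 1 := fun e => by
  rcases w3_cases (κ := κ) (E := E) with ⟨h', -⟩ | ⟨x, e1⟩
  · exact h'.elim h.some
  · have := Equiv.congr_fun (M.inj _ (w3_mem I) _ (one_mem _) (e.trans M.one.symm)) t0
    simp [e1, c3, swap_apply_def] at this

theorem central' (M : Mod 1 z φ) (sn : SN fun v => φ (bb v)) (ct : ∀ k, CT (Λ := M.lam) (sq' k))
    {k l₀ : κ} (hl₀ : k ≠ l₀) : ∃ Ψ : alternatingGroup (Om κ E) →* G,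
      ∀ v, Ev v → ∀ g : alternatingGroup (Om κ E), (g : Perm (Om κ E)) = bb v → Ψ g = φ (bb v) := by
  have H := M.jh
  have cm : ∀ {x y : HJ κ}, y.v * x.d = x.v * y.d → Commute (M.lam x) (M.lam y) := fun h =>
    Commute.map (HJ.comm.mpr h) _
  have eu : φ (bb (δ (some (k, 0)) + δ (some (k, 1)))) = M.lam (zq (δ k)) := by rw [M.lam_bb, vec_δ]
  have ee : ∀ j, φ (bb (δ (some (j, 1)) + δ none)) = M.lam (eq' j) := fun j => by rw [M.lam_bb, vec_δ']
  have ef : φ (bb (δ (some (k, 0)) + δ none)) = M.lam (eq' k) * M.lam (zq (δ k)) := by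
    rw [← map_mul, mul_zq, zero_add, M.lam_bb, vec_δ'']
  have uu : M.lam (zq (δ k)) * M.lam (zq (δ k)) = 1 := by rw [← map_mul, ← zq_add, vadd, zq_zero, map_one]
  have kJ : ∀ x : HJ κ, (∀ j, j ≠ k → x.d j = 0) → M.lam x ∈ C[(HO k).map M.lam] := by
    rintro x hx _ ⟨y, hy, rfl⟩
    refine cm ?_
    ext j
    by_cases h : j = k <;> simp [h, hy.1, hy.2.2, hx j]
  have nJ : ∀ x : HJ κ, ∀ g ∈ C[(HO k).map M.lam], M.lam x * g * (M.lam x)⁻¹ ∈ C[(HO k).map M.lam] := by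
    rintro x g hg _ ⟨y, hy, rfl⟩
    have := hg _ ⟨x⁻¹ * y * x⁻¹⁻¹, ⟨by rw [HJ.conj]; exact hy.1, by
      rw [HJ.conj]; simp [hy.1, hy.2.1, hy.2.2], by rw [HJ.conj]; exact hy.2.2⟩, rfl⟩
    simp only [map_mul, map_inv, inv_inv] at this
    calc _ = M.lam x * ((M.lam x)⁻¹ * M.lam y * M.lam x * g) * (M.lam x)⁻¹ := by group
      _ = _ := by rw [this]; group
  obtain ⟨d', a1, a2⟩ := M.exists_dd sn ct k
  have k2 : M.lam (sq' k) * d' ∈ C[(HO k).map M.lam] := mul_mem (kJ _ fun _ _ => rfl)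
    (mem_K (fun j hj => M.lam_bb _ _ ▸ a1.fix (ev_vec _ _) (by simp [hj.symm])) fun j hj => (a2 j hj).1)
  have a3 := ((M.acts_sq' k).mul a1).mul ((M.acts_sq' k).mul a1)
  set σ : Perm (PI κ) := swap (some (k, 0)) (some (k, 1)) * swap (some (k, 0)) none *
    (swap (some (k, 0)) (some (k, 1)) * swap (some (k, 0)) none) with hσ
  obtain ⟨s1, s2, s3, s4⟩ : σ none = some (k, 0) ∧ σ (some (k, 0)) = some (k, 1) ∧
      σ (some (k, 1)) = none ∧ σ (some (l₀, 1)) = some (l₀, 1) := by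
    simp [hσ, swap_apply_def, hl₀.symm]
  set y₂ := M.lam (sq' k) * d' * (M.lam (sq' k) * d')
  have b1 : y₂ * M.lam (zq (δ k)) * y₂⁻¹ = M.lam (eq' k) := by rw [← eu, a3.δδ, s2, s3, ee]
  have b2 : y₂ * M.lam (eq' k) * y₂⁻¹ = M.lam (eq' k) * M.lam (zq (δ k)) := by
    rw [← ef, ← ee, a3.δδ, s3, s1, add_comm]
  have es : M.lam (eq' k) * M.lam (sq' k) * (M.lam (eq' k))⁻¹ = M.lam (sq' k) * M.lam (zq (δ k)) := by
    rw [← map_inv, ← map_mul, ← map_mul, eq'_conj, mul_δ_one (by simp), map_mul]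
  have su : Commute (M.lam (sq' k)) (M.lam (zq (δ k))) := cm (by simp)
  have eu' : Commute (M.lam (eq' k)) (M.lam (zq (δ k))) := cm (by simp)
  have dd : ∀ l, k ≠ l → ∃ y₁ ∈ C[(HO k).map M.lam],
      y₁ * y₁ * M.lam (zq (δ k)) * (y₁ * y₁)⁻¹ = M.lam (zq (δ k)) * M.lam (sq' k) ∧
      y₁ * y₁ * M.lam (sq' k) * (y₁ * y₁)⁻¹ = M.lam (zq (δ k)) ∧ Commute (y₁ * y₁) (M.lam (eq' l)) :=
    fun l hl => by
    obtain ⟨_, -, h⟩ := M.exists_dd sn ct l
    obtain ⟨-, d, h1, h2, h3, h4⟩ := h k hl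
    have c1 : M.lam (eq' k) * d * M.lam (zq (δ k)) * (M.lam (eq' k) * d)⁻¹ = M.lam (sq' k) := by
      rw [show ∀ x, M.lam (eq' k) * d * x * (M.lam (eq' k) * d)⁻¹ = M.lam (eq' k) * (d * x * d⁻¹) *
        (M.lam (eq' k))⁻¹ by intro; group, h1, ← conj_mul, es, eu'.eq, mul_inv_cancel_right, su.eq,
        ← mul_assoc, uu, one_mul]
    have c2 : M.lam (eq' k) * d * M.lam (sq' k) * (M.lam (eq' k) * d)⁻¹ =
        M.lam (sq' k) * M.lam (zq (δ k)) := by
      rw [show ∀ x, M.lam (eq' k) * d * x * (M.lam (eq' k) * d)⁻¹ = M.lam (eq' k) * (d * x * d⁻¹) *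
        (M.lam (eq' k))⁻¹ by intro; group, h2, es]
    have c3 : Commute (M.lam (eq' k) * d) (M.lam (eq' l)) :=
      (cm (by simp)).mul_left (mul_inv_eq_iff_eq_mul.mp h4)
    refine ⟨M.lam (eq' k) * d, mul_mem (kJ _ fun j hj => by simp [hj]) (mem_K h3 fun j _ => h2 j), ?_, ?_,
      c3.mul_left c3⟩ <;> generalize M.lam (eq' k) * d = g at c1 c2 ⊢ <;>
      rw [show ∀ x, g * g * x * (g * g)⁻¹ = g * (g * x * g⁻¹) * g⁻¹ by intro; group]
    · rw [c1, c2, su.eq]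
    · rw [c2, ← conj_mul, c1, c2, mul_assoc, ← su.eq, ← mul_assoc, M.sq'_sq, one_mul]
  obtain ⟨y₁, k1, c1, c2, c3⟩ := dd l₀ hl₀
  obtain ⟨L, l1, l2, Λ', w', l3, l4, H', hG'⟩ := H.exists_L k k1 k2 c1 b1
  have lu : (Λ' (zq (δ ())) : G) = M.lam (zq (δ k)) := by rw [l3, io_u]
  have le : (Λ' (eq' ()) : G) = M.lam (eq' k) := by rw [l3, io_e]
  have ls : (Λ' (sq' ()) : G) = M.lam (sq' k) := by rw [l3, io_s]
  have ct' : ∀ l, k ≠ l → ∀ x, Commute (M.lam (eq' l)) (Λ' x) := fun l hl x => by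
    rw [l3]
    refine cm ?_
    ext j
    by_cases h : j = k <;> simp [io, h, hl]
  have hi : (w' = 1 ∧ Nonempty (L ≃* alternatingGroup (Fin 6))) ∨
      (w' ≠ 1 ∧ Nonempty (L ≃* alternatingGroup (Fin 7))) := by
    by_cases hw : w' = 1
    swap
    · exact Or.inr ⟨hw, H'.base_three hG' hw⟩
    refine Or.inl ⟨hw, (H'.base_one hG' hw).resolve_right fun h => ?_⟩
    have e : L ⊓ C1[M.lam (zq (δ k))] = (L.subtype.comp Λ').range := by
      refine le_antisymm (fun g hg => ?_) ?_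
      · obtain ⟨x, j, e⟩ := H'.cz' (g := ⟨g, hg.1⟩) (FT.mem_C1.mpr (Subtype.ext (by
          rw [coe_mul, coe_mul, lu]; exact FT.mem_C1.mp hg.2)))
        rw [hw, one_pow, mul_one] at e
        exact ⟨x, (congrArg Subtype.val e).symm⟩
      · rintro _ ⟨x, rfl⟩
        exact ⟨(Λ' x).2, FT.mem_C1.mpr (by
          rw [← lu]; exact congrArg Subtype.val (FT.mem_C1.mp (JH.range_le (Λ := Λ') ⟨x, rfl⟩)))⟩
    refine not168 h (u := M.lam (zq (δ k))) (s := M.lam (sq' k))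
      (f := M.lam (eq' k) * M.lam (zq (δ k))) (t := M.lam (eq' l₀)) (mul_mem (le ▸ (Λ' _).2) (lu ▸ (Λ' _).2))
      (l2 _ k1) (l2 _ k2) (ls ▸ (Λ' _).2) ?_ ?_ (FT.mem_C1.mpr c3) c1 c2 ?_ ?_ uu
      (fun e => zq_δ_ne k (H.inj (e.trans (map_one _).symm))) (fun e => ?_)
      (eu'.mul_left (Commute.refl _)) su ?_
    · rw [e, ← Nat.card_congr (MonoidHom.ofInjective (f := L.subtype.comp Λ') (L.subtype_injective.comp H'.inj)).toEquiv,
        Nat.card_eq_fintype_card]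
      rfl
    · rw [e]
      rintro _ ⟨x, rfl⟩
      exact FT.mem_C1.mpr (ct' l₀ hl₀ x).symm
    · rw [← conj_mul, b1, b2, mul_assoc, ← eu'.eq, ← mul_assoc, ← map_mul,
        HJ.sq_eq_one.mpr (by simp), map_one, one_mul]
    · rw [← ef, ← ee, a3.δδ, s4, s1, ← M.bs.add _ _ (ev_δ _ _) (ev_δ _ _), add_add_add_comm, vadd, add_zero]
    · exact δ_ne k (congrArg HJ.v (H.inj (e.trans (map_one _).symm)))
    · rw [mul_assoc (M.lam (eq' k)), ← su.eq, mul_inv_rev, ← mul_assoc, ← mul_assoc,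
        mul_inv_cancel_right, es]
  obtain ⟨y, f1, f2, f3, f4, f5, f6, f7, f8⟩ := H'.alt_facts hi (y₂ := ⟨y₂, l2 _ k2⟩)
    (Subtype.ext (by simpa [lu, le] using b1)) (Subtype.ext (by simpa [lu, le] using b2))
  have f1' : (y : G) ^ 3 = 1 := congrArg Subtype.val f1
  have f2' : y * M.lam (zq (δ k)) * (y : G)⁻¹ = M.lam (sq' k) := by
    simpa [lu, ls] using congrArg Subtype.val f2
  have cy : ∀ l, k ≠ l → Commute (M.lam (eq' l)) y := fun l hl => by
    have cj : ∀ {a b c : L}, (∃ x, Λ' x = c) → a * b * a⁻¹ = c → ∀ {t a' : G}, t = M.lam (eq' l) →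
        a' = t * a * t⁻¹ → a' * (t * b * t⁻¹) * a'⁻¹ = c := by
      rintro a b _ ⟨x, rfl⟩ h _ _ rfl rfl
      rw [conj_conj_eq (congrArg Subtype.val h), (ct' l hl x).eq, mul_inv_cancel_right]
    have fx : ∀ x, M.lam (eq' l) * Λ' x * (M.lam (eq' l))⁻¹ = Λ' x := fun x => by
      rw [(ct' l hl x).eq, mul_inv_cancel_right]
    have m1 := nJ (eq' l) _ (l1 y.2)
    have m2 : M.lam (eq' l) * y * (M.lam (eq' l))⁻¹ ∈ L := by
      have := l2 _ (mul_mem m1 m1)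
      rwa [← pow_two, ← pow_two, ← pow_mul, conj_pow, pow_succ, f1', one_mul] at this
    rcases f8 ⟨_, m2⟩ (Subtype.ext (by simp [f1'])) (Subtype.ext (by
        simpa [fx] using cj ⟨_, rfl⟩ f2 rfl rfl)) (Subtype.ext (by
          have := conj_conj_eq (g := M.lam (eq' l)) (congrArg Subtype.val f3)
          rw [fx] at this
          simpa [mul_assoc] using this)) (f7.imp_right fun ⟨h, e⟩ => by
        have m3 := l2 _ (nJ (eq' l) _ (l1 h.2))
        have m4 : M.lam (eq' l) * w' * (M.lam (eq' l))⁻¹ = (w' : G)⁻¹ := by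
          rw [l4, H.wconj]; simp
        have m5 : Λ' (eq' ()) * w' * (Λ' (eq' ()))⁻¹ = w'⁻¹ := by rw [H'.wconj]; simp
        rcases e with e | e
        · refine ⟨⟨_, m3⟩ * Λ' (eq' ()), Subtype.ext ?_⟩
          rw [show ∀ a b c : L, a * b * c * (a * b)⁻¹ = a * (b * c * b⁻¹) * a⁻¹ by intros; group, m5]
          simp only [e, coe_mul, coe_inv, ← m4]
          group
        · refine ⟨⟨_, m3⟩, Subtype.ext ?_⟩
          have m6 : M.lam (eq' l) * (w' : G)⁻¹ * (M.lam (eq' l))⁻¹ = w' := by rw [← conj_inv, m4, inv_inv]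
          simp only [e, coe_mul, coe_inv]
          conv_rhs => rw [← m6]
          group) with e | e
    · exact mul_inv_eq_iff_eq_mul.mp (congrArg Subtype.val e)
    · exfalso
      obtain ⟨y₃, -, g1, -, g3⟩ := dd l hl
      generalize y₃ * y₃ = Y at g1 g3
      have e1 : M.lam (eq' l) * y * (M.lam (eq' l))⁻¹ =
          M.lam (zq (δ k)) * y * (M.lam (zq (δ k)))⁻¹ := by simpa [lu] using congrArg Subtype.val e
      have e2 : (y : G) * M.lam (eq' l) * (y : G)⁻¹ = M.lam (eq' l) * (M.lam (zq (δ k)) * M.lam (sq' k)) := by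
        calc _ = y * M.lam (zq (δ k)) * (y : G)⁻¹ * ((M.lam (zq (δ k)))⁻¹ * (M.lam (zq (δ k)) * y *
              (M.lam (zq (δ k)))⁻¹) * M.lam (eq' l) * (y : G)⁻¹) := by group
          _ = M.lam (sq' k) * ((M.lam (zq (δ k)))⁻¹ * M.lam (eq' l)) := by rw [← e1, f2']; group
          _ = _ := by
            simp only [← map_inv, ← map_mul]
            congr 1
            ext j <;> by_cases h : j = k <;> simp [h, hl]
      have e3 : Y⁻¹ * y * M.lam (eq' l) * (Y⁻¹ * y)⁻¹ =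
          M.lam (eq' l) * M.lam (zq (δ k)) := by
        calc _ = Y⁻¹ * (y * M.lam (eq' l) * (y : G)⁻¹) * Y := by group
          _ = Y⁻¹ * (M.lam (eq' l) * Y) * M.lam (zq (δ k)) := by rw [e2, ← g1]; group
          _ = _ := by rw [← g3.eq]; group
      rw [← eu, ← ee, ← M.bs.add _ _ (ev_δ _ _) (ev_δ _ _)] at e3
      have := M.nf sn (ev_δ _ _) ((ev_δ _ _).add (ev_δ _ _)) e3
      rw [← add_assoc, wt_add_δ (i := some (k, 1)) (by simp [hl]),
        wt_add_δ (i := some (k, 0)) (by simp [hl])] at this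
      omega
  have xc : ∀ v : PI κ → ZMod 2, Ev v → v (some (k, 1)) = 0 → v (some (k, 0)) = 0 →
      Commute (φ (bb v)) y := fun v hv h1 h2 => by
    obtain ⟨a, d, rfl⟩ := hv.exists_vec
    have ha : a k = 0 := by simpa using h2
    rw [← M.lam_bb, show (⟨a, d, 0⟩ : HJ κ) = zq a * ⟨0, d, 0⟩ by ext <;> simp, map_mul]
    refine Commute.mul_left (l1 y.2 _ ⟨_, ⟨rfl, ha, rfl⟩, rfl⟩) (comm_add (f := fun d => M.lam ⟨0, d, 0⟩)
      (fun a b => by rw [← map_mul]; congr 1; ext <;> simp) fun i hi => cy i ?_)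
    rintro rfl
    simp [ha, hi] at h1
  have xr : XR (fun v => φ (bb v)) (some (k, 1)) (some (k, 0)) y := by
    refine ⟨f1', fun v hv h1 h2 => mul_inv_eq_iff_eq_mul.mpr (xc v hv h1 h2), fun v hv h1 h2 => ?_, ?_⟩
    · have h3 := hv.add (ev_δ (some (k, 1)) none)
      rw [show v = v + (δ (some (k, 1)) + δ none) + (δ (some (k, 1)) + δ none) by
        rw [add_assoc, vadd, add_zero], M.bs.add _ _ h3 (ev_δ _ _), ee,
        show ∀ a b c : G, a * b * c * (a * b)⁻¹ = a * (b * c * b⁻¹) * a⁻¹ by intros; group, ← le,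
        show Λ' (eq' ()) * y * (Λ' (eq' ()) : G)⁻¹ = (y : G)⁻¹ from congrArg Subtype.val f3,
        (xc _ h3 (by simp [h1, z2_add]) (by simp [h2])).inv_right.eq, mul_inv_cancel_right]
    · rw [add_comm, eu, ← lu]
      exact congrArg Subtype.val f4
  have xr' := xr.conj a3
  rw [s2, s3] at xr'
  have ip : ∀ j, IsPi (fun v => φ (bb v)) (some (j, 0)) (some (j, 1)) (M.lam (sq' j)) := fun j => by
    obtain ⟨d, h, -⟩ := ct j
    obtain ⟨g, i, e⟩ := H.centre (H.mx 1) h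
    exact ⟨M.acts_sq' j, M.sq'_sq j, g, some (i, 0), some (i, 1), by simp, by rw [e, M.lam_bb, vec_δ]⟩
  refine M.exists_hom (p := some (k, 1)) (q := some (k, 0)) (k := k)
    ⟨M.bd sn hl₀ ⟨_, _, _, by simp, xr⟩, by simp, by simp, by simp, xr', (ip k).symm,
      ls ▸ congrArg Subtype.val f5, _, _, _, by simp, by simp, by simp, by simp, by simp [hl₀.symm], ip l₀,
      l1 (mul_mem (mul_mem (l2 _ k2) y.2) (inv_mem (l2 _ k2))) _ ⟨_, ⟨rfl, rfl, by simp [hl₀]⟩, rfl⟩⟩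
    fun h => ?_
  rw [← l4]
  exact (f6 fun e => M.w_ne h (l4 ▸ congrArg Subtype.val e)).imp (congrArg Subtype.val)
    (congrArg Subtype.val)

theorem exists_hom' (M : Mod I z φ) (hG : ∀ N : Subgroup G, N.index ≠ 2) {i₀ : κ} (hI : I i₀ = 1)
    (hn : 2 ≤ Fintype.card κ) : ∃ (φ' : Perm (Om κ E) → G) (Ψ : alternatingGroup (Om κ E) →* G),
      Mod I z φ' ∧ (SN fun v => φ' (bb v)) ∧
      ∀ v, Ev v → ∀ g : alternatingGroup (Om κ E), (g : Perm (Om κ E)) = bb v → Ψ g = φ' (bb v) := by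
  obtain ⟨φ', M', sn⟩ := M.exists_sn hI hG
  by_cases h : ∃ k, I k = 0
  · obtain ⟨k, hk⟩ := h
    obtain ⟨Ψ, h⟩ := M'.noncentral sn hk hI
    exact ⟨φ', Ψ, M', sn, h⟩
  obtain rfl : I = 1 := funext fun k => (z2_cases _).resolve_left fun e => h ⟨k, e⟩
  obtain ⟨k, l, hkl⟩ := Fintype.one_lt_card_iff.mp hn
  obtain ⟨φ'', M'', h1, h2⟩ := M'.exists_ct_all hG hkl
  obtain ⟨Ψ, h⟩ := M''.central' (by simpa only [h1] using sn) h2 hkl
  exact ⟨φ', Ψ, M', sn, by simpa only [h1] using h⟩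

end Mod

end Cfsg.Lib.Alt
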