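import Cfsg.Agent.Lib.Alt.F1
import Cfsg.Agent.Lib.Alt.BL

/-!
An alternating subgroup which controls fusion of its involutions: first steps.
-/

set_option autoImplicit false

namespace Cfsg.Lib.Alt

open Equiv Subgroup Cfsg.Lib.Kondo Cfsg.Lib.FT

section General

variable {Ω : Type} [Fintype Ω] [DecidableEq Ω] {G : Type*} [Group G] {Ψ : alternatingGroup Ω →* G}

/-- control of fusion of involutions -/
structure FH (Ψ : alternatingGroup Ω →* G) : Prop where
  inj : Function.Injective Ψ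
  fus : ∀ t t' g, t * t = 1 → g * Ψ t * g⁻¹ = Ψ t' → sc t = sc t'

/-- the centralisers of the involutions moving `k` points are contained in the image -/
def Gd (Ψ : alternatingGroup Ω →* G) (k : ℕ) : Prop :=
  ∀ t, t * t = 1 → sc t = k → C1[Ψ t] ≤ Ψ.range

theorem gd_of {t : alternatingGroup Ω} (h : t * t = 1) (h1 : C1[Ψ t] ≤ Ψ.range) : Gd Ψ (sc t) :=
  fun t' h2 h3 x hx => by
    obtain ⟨g, rfl⟩ := exists_conj_sc h h2 h3.symm
    rw [map_mul, map_mul, map_inv, GW.c1_conj, mem_map_conj] at hx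
    have := h1 hx
    have hg : Ψ g ∈ Ψ.range := ⟨g, rfl⟩
    rwa [mul_mem_cancel_right hg, mul_mem_cancel_left (inv_mem hg)] at this

namespace FH

variable (F : FH Ψ)
include F

theorem sq {t t' : alternatingGroup Ω} {g : G} (h : t * t = 1) (e : g * Ψ t * g⁻¹ = Ψ t') :
    t' * t' = 1 := F.inj (by rw [map_mul, ← e, conj_mul, ← map_mul, h]; simp)

theorem comm {t t' : alternatingGroup Ω} (h : Commute (Ψ t) (Ψ t')) : Commute t t' :=
  F.inj (by rw [map_mul, map_mul, h.eq])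

theorem mem {t : alternatingGroup Ω} (h : t * t = 1) (hg : Gd Ψ (sc t)) {c : G}
    (hc : c * Ψ t * c⁻¹ ∈ Ψ.range) : c ∈ Ψ.range := by
  obtain ⟨t', e⟩ := hc
  obtain ⟨g, rfl⟩ := exists_conj_sc h (F.sq h e.symm) (F.fus _ _ _ h e.symm)
  have : (Ψ g)⁻¹ * c ∈ C1[Ψ t] := by
    rw [mem_C1, ← mul_inv_eq_iff_eq_mul, show (Ψ g)⁻¹ * c * Ψ t * ((Ψ g)⁻¹ * c)⁻¹ =
      (Ψ g)⁻¹ * (c * Ψ t * c⁻¹) * Ψ g by group, ← e]
    simp [mul_assoc]
  exact (mul_mem_cancel_left (inv_mem (show Ψ g ∈ Ψ.range from ⟨g, rfl⟩))).mp (hg t h rfl this)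

theorem uw {t : alternatingGroup Ω} (h : t * t = 1) (hg : Gd Ψ (sc t)) (w : G) :
    UW Ψ.range w (Ψ t) := fun _ _ hc => F.mem h hg hc

theorem mem' {t w : alternatingGroup Ω} (h : t * w * (t * w) = 1) (hg : Gd Ψ (sc (t * w))) {c : G}
    (hw : Commute c (Ψ w)) (hc : c * Ψ t * c⁻¹ ∈ Ψ.range) : c ∈ Ψ.range :=
  F.mem h hg (by
    rw [map_mul, ← conj_mul, hw.eq, mul_inv_cancel_right]; exact mul_mem hc ⟨w, rfl⟩)

variable [Finite G]

theorem surj_of_gd (h : ∀ k, k ≠ 0 → Gd Ψ k) {e f : alternatingGroup Ω} (he : e * e = 1)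
    (hf : f * f = 1) (h1 : sc e ≠ 0) (h2 : sc f ≠ 0) (h3 : sc e ≠ sc f) (c : G) : c ∈ Ψ.range := by
  obtain ⟨_, ⟨u, rfl⟩, a1, -, a2, -, a3, -⟩ := dihedral' (X := Ψ.range) (w := 1) (e := Ψ e) (f := Ψ f)
    (c := c) (one_mul _) (by rw [← map_mul, he, map_one]) (by rw [← map_mul, hf, map_one])
    (Commute.one_right _) (Commute.one_right _) (Commute.one_right _) (one_mem _) ⟨e, rfl⟩ ⟨f, rfl⟩
    (F.uw he (h _ h1) _) (F.uw hf (h _ h2) _) fun k _ => by
      rw [mul_one, and_self]; exact fun e' => h3 (F.fus _ _ _ he e')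
  exact F.mem (F.inj (by rw [map_mul, map_one, a3.elim id id]))
    (h _ fun e => a2 (by rw [sc_eq_zero.mp e, map_one])) a1

theorem gd_step {w y f : alternatingGroup Ω} (hw : w * w = 1) (hy : y * y = 1) (hf : f * f = 1)
    (yw : Commute y w) (fw : Commute f w) (h1 : sc y = 4) (h2 : sc f = 4) (h3 : sc (y * w) = sc w)
    (h4 : sc (f * w) + 4 = sc w) (h5 : (y : Perm Ω).support ⊆ (w : Perm Ω).support) (h8 : 8 ≤ sc w)
    (h : ∀ k, k ≠ 0 → k < sc w → Gd Ψ k) : Gd Ψ (sc w) := by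
  refine gd_of hw fun c hc => ?_
  have cw : Commute c (Ψ w) := mem_C1.mp hc
  have hw' : (w : Perm Ω) * w = 1 := congrArg Subtype.val hw
  have yw2 : y * w * (y * w) = 1 := by rw [yw.symm.mul_mul_mul_comm, hy, hw, one_mul]
  have fw2 : f * w * (f * w) = 1 := by rw [fw.symm.mul_mul_mul_comm, hf, hw, one_mul]
  have cj : ∀ {k : G} {a b : alternatingGroup Ω}, Commute k (Ψ w) → k * Ψ a * k⁻¹ = Ψ b →
      k * Ψ (a * w) * k⁻¹ = Ψ (b * w) := fun hk e => by
    rw [map_mul, ← conj_mul, e, hk.eq, mul_inv_cancel_right, map_mul]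
  have sub : ∀ {k : G} {t : alternatingGroup Ω}, Commute k (Ψ w) → k * Ψ f * k⁻¹ = Ψ t →
      Sub (t : Perm Ω) w ∧ sc t = 4 := fun {k t} hk e => by
    have e1 := F.fus _ _ _ hf e
    have e2 := F.fus _ _ _ fw2 (cj hk e)
    exact ⟨sub_of_card (congrArg Subtype.val (F.sq hf e))
      (show sc (t * w) + sc t ≤ sc w by omega), by omega⟩
  have gd : ∀ {t : alternatingGroup Ω}, t ≠ 1 → sc t < sc w → Gd Ψ (sc t) :=
    fun h0 h1 => h _ (mt sc_eq_zero.mp h0) h1
  obtain ⟨_, ⟨u, rfl⟩, a1, a2, a3, a4, a5, a6⟩ := dihedral' (X := Ψ.range) (w := Ψ w) (e := Ψ y)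
    (f := Ψ f) (c := c) (by rw [← map_mul, hw, map_one]) (by rw [← map_mul, hy, map_one])
    (by rw [← map_mul, hf, map_one]) (yw.map Ψ) (fw.map Ψ) cw ⟨w, rfl⟩ ⟨y, rfl⟩ ⟨f, rfl⟩
    (F.uw hy (h _ (by omega) (by omega)) _) (F.uw hf (h _ (by omega) (by omega)) _) fun k hk =>
      ⟨fun e => by have := F.fus _ _ _ yw2 (cj hk e); omega, fun e => by
        have := F.fus _ _ _ yw2 (cj hk (e.trans (map_mul Ψ _ _).symm))
        rw [mul_assoc, hw, mul_one] at this
        omega⟩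
  have n1 : u ≠ 1 := fun e => a3 (by rw [e, map_one])
  rcases a6 with ⟨k, hk, e⟩ | ⟨k, hk, e⟩
  · obtain ⟨s1, s2⟩ := sub hk (e.symm.trans (map_mul Ψ _ _).symm)
    have e1 : u = y * (y * u) := by rw [← mul_assoc, hy, one_mul]
    have n2 : ((y * u :) : Perm Ω) ≠ 1 := fun e => by
      rw [sc, e] at s2
      simp at s2
    have uu : u * u = 1 := F.inj (by
      rw [map_mul, map_one]
      refine a5.resolve_right fun e' => ?_
      have e2 := card_comm_le s1 (yw.map (alternatingGroup Ω).subtype) (s1.sq hw')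
      have e3 : u * u = w := F.inj (by rw [map_mul, e'])
      have e4 : sc (y * (y * u) * (y * (y * u))) ≤ sc y := e2
      rw [← e1, e3] at e4
      omega)
    rcases card_lt_of_comm hw' s1 h5 (show sc y + sc (y * u) ≤ sc w by omega) n2 with e2 | e2
    · exact F.mem uu (gd n1 (e1 ▸ e2)) a1
    · refine F.mem' (w := w) (by rw [(F.comm a2).symm.mul_mul_mul_comm, uu, hw, one_mul])
        (gd (fun e => a4 ?_) (e1 ▸ e2)) cw a1
      rw [eq_inv_of_mul_eq_one_left e, inv_eq_of_mul_eq_one_left hw]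
  · obtain ⟨u', e'⟩ := a1
    rw [← e'] at e
    have s1 := (sub (Commute.one_left _) (by simp : 1 * Ψ f * 1⁻¹ = Ψ f)).1.mul hw'
      (sub hk (e.symm.trans (map_mul Ψ _ _).symm)).1
    rw [← coe_mul, ← mul_assoc, hf, one_mul] at s1
    have e2 : c⁻¹ * Ψ u' * c⁻¹⁻¹ = Ψ u := by rw [e']; group
    refine (inv_mem_iff (H := Ψ.range)).mp (F.mem (t := u') (Subtype.ext (s1.sq hw')) (gd (fun e => a3 ?_)
      (s1.lt fun e => a4 ?_)) (e2 ▸ ⟨u, rfl⟩))
    · rw [← e2, e]; simp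
    · rw [← e2, Subtype.ext e, cw.inv_left.eq, mul_inv_cancel_right]

end FH

end General

variable {κ E : Type} [DecidableEq κ] [DecidableEq E] [Fintype κ] [Fintype E] {G : Type*} [Group G]
  [Finite G] {Ψ : alternatingGroup (Om κ E) →* G} [Subsingleton E]

omit [Subsingleton E] in
theorem jA_sq {x : HJ κ} (h : x.d = 0) : jA E x * jA E x = 1 := by
  rw [← map_mul, HJ.sq_eq_one.mpr (by rw [h, mul_zero]), map_one]

omit [Subsingleton E] in
theorem jA_comm {x y : HJ κ} (h : x.d = 0) (h' : y.d = 0) : Commute (jA E x) (jA E y) :=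
  Commute.map (HJ.comm.mpr (by rw [h, h', mul_zero, mul_zero])) _

omit [Subsingleton E] in
theorem sc_sq' (i : κ) : sc (jA E (sq' i)) = 4 := by
  have := wt_δ i
  rw [sc_jA]
  simp only [wt, Pi.zero_apply, zero_ne_one, false_or] at this ⊢
  rw [this]

namespace FH

variable (F : FH Ψ)
include F

theorem gd_all (h : Gd Ψ 4) (k : ℕ) (hk : k ≠ 0) : Gd Ψ k := by
  induction k using Nat.strong_induction_on with
  | _ k ih =>
  intro t ht hk'
  obtain ⟨a, ha⟩ := exists_zq ht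
  by_cases h1 : wt a = 1
  · exact h t ht (by omega)
  obtain ⟨i, hi⟩ : ∃ i, a i = 1 := by
    obtain ⟨i, hi⟩ := Finset.card_pos.mp (show 0 < wt a by omega)
    exact ⟨i, (Finset.mem_filter.mp hi).2⟩
  have e := sc_zq (E := E) a
  refine F.gd_step (w := jA E (zq a)) (y := jA E (sq' i)) (f := jA E (zq (δ i))) (jA_sq rfl) (jA_sq rfl)
    (jA_sq rfl) (jA_comm rfl rfl) (jA_comm rfl rfl) (sc_sq' i) (by rw [sc_zq, wt_δ]) ?_ ?_ ?_
    (by omega) (fun k' h0 h1 => ih k' (by omega) h0) t ht (by omega)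
  · rw [← map_mul, mul_zq, zero_add, sc_jA, e, wt]
    congr 2
    ext j
    by_cases h : j = i <;> simp [h, hi]
  · rw [← map_mul, ← zq_add, sc_zq, e, ← mul_add_one, ← wt_add_δ (i := i) (by simp [hi, z2_add]),
      add_right_comm, vadd, zero_add]
  · rw [coe_jA, coe_jA, support_jA, support_jA]
    refine Finset.image_subset_image (Finset.product_subset_product_left
      (Finset.product_subset_product_left fun j => ?_))
    by_cases h : j = i <;> simp [h, hi]

theorem surj_of_four (h : Gd Ψ 4) (hn : 2 ≤ Fintype.card κ) (c : G) : c ∈ Ψ.range := by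
  obtain ⟨a, ha, -⟩ := exists_wt (s := (Finset.univ : Finset κ)) (k := 1) (by simp; omega)
  obtain ⟨b, hb, -⟩ := exists_wt (s := (Finset.univ : Finset κ)) (k := 2) hn
  exact F.surj_of_gd (F.gd_all h) (e := jA E (zq a)) (f := jA E (zq b)) (jA_sq rfl) (jA_sq rfl)
    (by rw [sc_zq]; omega) (by rw [sc_zq]; omega) (by rw [sc_zq, sc_zq]; omega) c

theorem surj_one (h : Gd Ψ 4) (hn : Fintype.card κ = 1) (c : G) : c ∈ Ψ.range := by
  obtain ⟨e⟩ : Nonempty (κ ≃ Unit) := Fintype.card_eq.mp (by simpa using hn)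
  have h1 : ∀ i, C1[Ψ (jA E (zq (δ i)))] ≤ Ψ.range := fun i => h _ (jA_sq rfl) (by rw [sc_zq, wt_δ])
  let w : alternatingGroup (Om κ E) := ⟨w3 κ E, (w3_mem 0).1⟩
  have H : JH (Ψ.comp (jA E)) (Ψ w) := by
    refine ⟨F.inj.comp fun x y h => jt_inj (congrArg Subtype.val h), ?_, fun x => ?_, fun g hg => ?_⟩
    · rw [← map_pow, show w ^ 3 = 1 from Subtype.ext w3_cube, map_one]
    · rw [MonoidHom.comp_apply, ← map_inv, ← map_mul, ← map_mul, ← map_inv Ψ w, ← apply_ite Ψ]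
      congr 1
      refine Subtype.ext ((conj_w3 (shP_none _)).trans ?_)
      rw [vec_none]
      split_ifs <;> rfl
    · obtain ⟨h, rfl⟩ := h1 (e.symm ()) (mem_C1.mpr (mul_inv_eq_iff_eq_mul.mp (hg _)))
      obtain ⟨x, k, e⟩ := cz_model h.2 fun i => congrArg Subtype.val (F.inj (a₁ := h * jA E _ * h⁻¹)
        (a₂ := jA E _) (by rw [map_mul, map_mul, map_inv]; exact hg i))
      exact ⟨x, k, by rw [MonoidHom.comp_apply, ← map_pow, ← map_mul]; exact congrArg Ψ (Subtype.ext e)⟩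
  have H' := H.reix e
  have hc : 5 ≤ Fintype.card (Om κ E) := by rw [card_Om]; omega
  have hG : ∀ N : Subgroup G, N.index ≠ 2 := fun N hN => by
    have := normal_of_index_eq_two hN
    have := alternatingGroup.isSimpleGroup (Nat.card_eq_fintype_card (α := Om κ E) ▸ hc)
    rcases (Normal.comap ‹N.Normal› Ψ).eq_bot_or_eq_top with e' | e'
    · have h2 := mul_self_mem_of_index_two hN (Ψ (jA E ⟨0, 1, 1⟩))
      rw [← map_mul, ← mem_comap, e', ← map_mul, mem_bot, ← map_one (jA E)] at h2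
      have := congrFun (congrArg HJ.a (jt_inj (congrArg Subtype.val h2))) (e.symm ())
      simp at this
    · have h2 := H'.isSylowIn.not_dvd_relIndex
      rw [relIndex_top_right] at h2
      refine h2 (hN.symm.dvd.trans (index_dvd_of_le ?_))
      rintro _ ⟨x, rfl⟩
      exact e'.ge (mem_top (jA E _))
  have h2 : Nat.card Ψ.range = (6 + Fintype.card E).factorial / 2 := by
    have : Nontrivial (Om κ E) := Fintype.one_lt_card_iff_nontrivial.mp (by omega)
    rw [← Nat.card_congr (MonoidHom.ofInjective F.inj).toEquiv, nat_card_alternatingGroup,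
      Nat.card_eq_fintype_card, card_Om, hn]
  have h3 := card_subgroup_dvd_card Ψ.range
  refine (eq_top_of_card_eq Ψ.range ?_).ge (mem_top c)
  rcases w3_cases (κ := κ) (E := E) with ⟨hE, e1⟩ | ⟨x, e1⟩
  · rw [Fintype.card_eq_zero] at h2
    rcases H'.base_one hG (by rw [show w = 1 from Subtype.ext e1, map_one]) with ⟨⟨e2⟩⟩ | e2
    · rw [h2, Nat.card_congr e2.toEquiv, BSW.card_a6]; rfl
    · rw [h2, e2] at h3
      exact absurd h3 (by decide)
  · obtain ⟨e2⟩ := H'.base_three hG fun e2 => by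
      have := congrArg (fun g : alternatingGroup (Om κ E) => (g : Perm (Om κ E)) t0)
        (F.inj (e2.trans (map_one Ψ).symm))
      simp [w, e1, c3, swap_apply_def] at this
    rw [h2, Nat.card_congr e2.toEquiv, GW.card_a7,
      Fintype.card_eq_one_iff.mpr ⟨x, fun _ => Subsingleton.elim _ _⟩]; rfl

end FH

end Cfsg.Lib.Alt
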