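import Cfsg.Agent.Lib.Alt.F2

/-!
An alternating subgroup which controls fusion of its involutions: the induction.
-/

set_option autoImplicit false

namespace Cfsg.Lib.Alt

open Equiv Subgroup Cfsg.Lib.Kondo Cfsg.Lib.FT

universe u

section Emb

variable {α Ω : Type} [Fintype α] [DecidableEq α] [Fintype Ω] [DecidableEq Ω]

/-- extension of even permutations -/
noncomputable def veA (f : α ↪ Ω) : alternatingGroup α →* alternatingGroup Ω :=
  ((ve f).comp (alternatingGroup α).subtype).codRestrict _ fun g => (sign_ve f _).trans g.2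

theorem sc_mul_veA (f : α ↪ Ω) {x : alternatingGroup Ω} (h : ∀ a, (x : Perm Ω) (f a) = f a)
    (r : alternatingGroup α) : sc (x * veA f r) = sc x + sc r := by
  have : Perm.Disjoint (x : Perm Ω) (ve f r) := fun y => by
    by_cases hy : ∃ a, f a = y
    · obtain ⟨a, rfl⟩ := hy
      exact Or.inl (h a)
    · exact Or.inr (ve_out f _ fun a e => hy ⟨a, e⟩)
  refine this.card_support_mul.trans ?_
  rw [support_ve, Finset.card_map]; rfl

end Emb

variable {κ E : Type} [DecidableEq κ] [DecidableEq E] [Fintype κ] [Fintype E]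

/-- the four-group of a block -/
def v4 (E : Type) [DecidableEq E] [Fintype E] (i : κ) (a b : ZMod 2) : alternatingGroup (Om κ E) :=
  jA E ⟨a • δ i, 0, b • δ i⟩

theorem v4_mul (i : κ) (a b a' b' : ZMod 2) : v4 E i a b * v4 E i a' b' = v4 E i (a + a') (b + b') := by
  rw [v4, v4, ← map_mul]; congr 1; ext j <;> simp [add_mul]

theorem v4_zero (i : κ) : v4 E i 0 0 = 1 := by
  rw [← map_one (jA E), v4, zero_smul]; rfl

theorem v4_sq (i : κ) (a b : ZMod 2) : v4 E i a b * v4 E i a b = 1 := by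
  rw [v4_mul, z2_add, z2_add, v4_zero]

theorem v4_comm (i : κ) (a b a' b' : ZMod 2) : Commute (v4 E i a b) (v4 E i a' b') :=
  jA_comm rfl rfl

theorem sc_v4 (i : κ) (a b : ZMod 2) : sc (v4 E i a b) = if a = 0 ∧ b = 0 then 0 else 4 := by
  split_ifs with h
  · rw [h.1, h.2, v4_zero, sc_eq_zero]
  · rw [v4, sc_jA, ← mul_one 4, ← Finset.card_singleton i]
    congr 2
    ext j
    have : a = 1 ∨ b = 1 := by revert a b; decide
    by_cases hj : j = i <;> simp [hj, this]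

theorem v4_apply (i j : κ) (a b u y : ZMod 2) : (v4 E i a b : Perm (Om κ E)) (.inl (some (j, u), y)) =
    if j = i then .inl (some (j, u + b), y + a) else .inl (some (j, u), y) := by
  by_cases h : j = i <;> simp [v4, coe_jA, jt_apply, h]

theorem v4_bb (i : κ) : (v4 E i 1 0 : Perm (Om κ E)) = bb (vec (δ i) 0) := by
  rw [← jt_bb, v4, one_smul, zero_smul]; rfl

omit [DecidableEq κ] [DecidableEq E] [Fintype κ] [Fintype E] in
/-- the points outside a block -/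
def fo (E : Type) (i : κ) : Om {j // j ≠ i} E ↪ Om κ E :=
  ⟨Sum.map (fun x => (x.1.map fun p => (p.1.1, p.2), x.2)) id, by
    rintro (⟨_ | ⟨j, u⟩, y⟩ | e) (⟨_ | ⟨j', u'⟩, y'⟩ | e') h <;> simp_all [Subtype.ext_iff]⟩

omit [DecidableEq E] [Fintype κ] [Fintype E] in
theorem fo_cases (i : κ) (x : Om κ E) : (∃ u y, x = .inl (some (i, u), y)) ∨ ∃ a, fo E i a = x := by
  rcases x with ⟨_ | ⟨j, u⟩, y⟩ | e
  · exact Or.inr ⟨.inl (none, y), rfl⟩
  · by_cases h : j = i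
    · exact Or.inl ⟨u, y, h ▸ rfl⟩
    · exact Or.inr ⟨.inl (some (⟨j, h⟩, u), y), rfl⟩
  · exact Or.inr ⟨.inr e, rfl⟩

theorem v4_fo (i : κ) (a b : ZMod 2) (x : Om {j // j ≠ i} E) :
    (v4 E i a b : Perm (Om κ E)) (fo E i x) = fo E i x := by
  rcases x with ⟨_ | ⟨j, u⟩, y⟩ | e
  · change Sum.inl (none, y + ∑ _j : κ, (0 : ZMod 2)) = _
    rw [Finset.sum_const_zero, add_zero]; rfl
  · exact (v4_apply i j a b u y).trans (if_neg j.2)
  · rfl

theorem sc_v4_mul (i : κ) (a b : ZMod 2) (r : alternatingGroup (Om {j // j ≠ i} E)) :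
    sc (v4 E i a b * veA (fo E i) r) = (if a = 0 ∧ b = 0 then 0 else 4) + sc r := by
  rw [sc_mul_veA _ (v4_fo i a b), sc_v4]

theorem v4_veA (i : κ) (a b : ZMod 2) (r : alternatingGroup (Om {j // j ≠ i} E)) :
    Commute (v4 E i a b) (veA (fo E i) r) := Subtype.ext (comm_ve _ (v4_fo i a b) _)

theorem comm_z {i : κ} {h : alternatingGroup (Om κ E)} (h1 : Commute h (v4 E i 1 0)) (u : ZMod 2) :
    ∃ u' c, ∀ y, (h : Perm (Om κ E)) (.inl (some (i, u), y)) = .inl (some (i, u'), y + c) := by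
  obtain ⟨q, c, h1, h2⟩ := comm_bb (E := E) (h := h) (p := some (i, u)) (v := vec (δ i) 0)
    (by rw [← v4_bb, mul_inv_eq_iff_eq_mul]; exact congrArg Subtype.val h1) (by simp)
  rcases q with _ | ⟨j, u'⟩
  · simp at h1
  · obtain rfl : j = i := by
      by_contra hh
      simp [hh] at h1
    exact ⟨u', c, h2⟩

theorem cent_v4 {i : κ} {h : alternatingGroup (Om κ E)} (h1 : Commute h (v4 E i 1 0))
    (h2 : Commute h (v4 E i 0 1)) : ∃ a b r, h = v4 E i a b * veA (fo E i) r := by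
  obtain ⟨b, a, e⟩ := comm_z h1 0
  have e' : ∀ u y, (h : Perm (Om κ E)) (.inl (some (i, u), y)) = .inl (some (i, u + b), y + a) := by
    intro u y
    rcases z2_cases u with rfl | rfl
    · rw [e, zero_add]
    · have := Equiv.congr_fun (congrArg Subtype.val h2) (.inl (some (i, 0), y))
      simpa [v4_apply, e, add_comm] using this
  obtain ⟨r, hr⟩ := exists_ve (fo E i) (h := (v4 E i a b * h :)) fun x hx => by
    rcases fo_cases i x with ⟨u, y, rfl⟩ | ⟨x, rfl⟩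
    · simp [e', v4_apply, add_assoc, z2_add]
    · exact absurd rfl (hx x)
  refine ⟨a, b, ⟨r, (sign_ve (fo E i) r).symm.trans (hr ▸ (v4 E i a b * h).2)⟩, ?_⟩
  refine (one_mul h).symm.trans ?_
  rw [← v4_sq i a b, mul_assoc]
  exact congrArg _ (Subtype.ext hr)

variable {G : Type u} [Group G] [Finite G] {Ψ : alternatingGroup (Om κ E) →* G} [Subsingleton E]

namespace FH

variable (F : FH Ψ) {i : κ} (hn : 2 ≤ Fintype.card κ)
  (hK : ∀ k, Commute k (Ψ (v4 E i 1 0)) → Commute k (Ψ (v4 E i 0 1)) → k ∈ Ψ.range)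
include F hn hK

omit [Finite G] [Subsingleton E] in
theorem eq_v4 {k : G} {t : alternatingGroup (Om κ E)} (hk : Commute k (Ψ (v4 E i 1 0)))
    (e : k * Ψ (v4 E i 0 1) * k⁻¹ = Ψ t) : ∃ c, t = v4 E i c 1 := by
  have t2 := F.sq (v4_sq i 0 1) e
  have t4 : sc t = 4 := (F.fus _ _ _ (v4_sq i 0 1) e).symm.trans (by simp [sc_v4])
  have tz : Commute t (v4 E i 1 0) :=
    F.comm (e ▸ (hk.mul_left ((v4_comm i 0 1 1 0).map Ψ)).mul_left hk.inv_left)
  have t2' : ∀ x, (t : Perm (Om κ E)) ((t : Perm (Om κ E)) x) = x :=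
    Equiv.congr_fun (congrArg Subtype.val t2)
  obtain ⟨u, c, h⟩ := comm_z tz 0
  rcases z2_cases u with rfl | rfl
  swap
  · refine ⟨c, Subtype.ext (by_contra fun hne => ?_)⟩
    have h1 : Sub (v4 E i c 1 : Perm (Om κ E)) t := fun x => by
      rcases fo_cases i x with ⟨u, y, rfl⟩ | ⟨x, rfl⟩
      · right
        rcases z2_cases u with rfl | rfl
        · simp [v4_apply, h]
        · have := t2' (.inl (some (i, 0), y + c))
          rw [h, add_assoc, z2_add, add_zero] at this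
          simp [v4_apply, this, z2_add]
      · exact Or.inl (v4_fo i c 1 x)
    have h2 : sc (v4 E i c 1) < sc t := h1.lt (Ne.symm hne)
    simp [sc_v4, t4] at h2
  exfalso
  obtain ⟨x, hx, y, hy, hxy⟩ := Finset.one_lt_card.mp (show 1 < ((v4 E i 1 0 : Perm (Om κ E)).support ∪
      (t : Perm (Om κ E)).support)ᶜ.card by
    have h1 := Finset.card_union_le (v4 E i 1 0 : Perm (Om κ E)).support (t : Perm (Om κ E)).support
    have h2 : sc (v4 E i 1 0) = 4 := by simp [sc_v4]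
    rw [Finset.card_compl, card_Om]
    unfold sc at h2 t4
    omega)
  simp only [Finset.mem_compl, Finset.mem_union, Perm.mem_support, not_or, not_not] at hx hy
  have n : ∀ {x : Om κ E}, (v4 E i 1 0 : Perm (Om κ E)) x = x → ∀ u y, .inl (some (i, u), y) ≠ x := by
    rintro _ h u y rfl
    simp [v4_apply] at h
  have s4 : ∀ u, (bb (δ (some (i, u))) * swap x y : Perm (Om κ E)).support.card = 4 := fun u => by
    rw [bb_δ]
    exact sc_swap_swap (by simp) (n hx.1 _ _) (n hx.1 _ _) (n hy.1 _ _) (n hy.1 _ _) hxy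
  have cs : ∀ {g : Perm (Om κ E)}, g x = x → g y = y → Commute g (swap x y) := fun h1 h2 => by
    rw [Commute, SemiconjBy, mul_swap_eq_swap_mul, h1, h2]
  let t₁ : alternatingGroup (Om κ E) := ⟨bb (δ (some (i, 0))) * swap x y, by
    simp [Perm.mem_alternatingGroup, bb_δ, hxy]⟩
  have cb : Commute (bb (δ (some (i, 0))) : Perm (Om κ E)) (swap x y) := by
    rw [bb_δ]
    exact cs (swap_apply_of_ne_of_ne (n hx.1 _ _).symm (n hx.1 _ _).symm)
      (swap_apply_of_ne_of_ne (n hy.1 _ _).symm (n hy.1 _ _).symm)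
  have a1 : t₁ * t₁ = 1 := Subtype.ext (by
    change _ * _ * (_ * _) = (1 : Perm (Om κ E))
    rw [cb.symm.mul_mul_mul_comm, bb_sq, swap_mul_self, one_mul])
  have a2 : Commute t₁ (v4 E i 1 0) := Subtype.ext (Commute.mul_left (by
    rw [v4_bb, Commute, SemiconjBy, ← bb_add, ← bb_add, add_comm]) (cs hx.1 hy.1).symm)
  have a3 : Commute t₁ t := Subtype.ext (Commute.mul_left (by
    rw [bb_δ, Commute, SemiconjBy, eq_comm, mul_swap_eq_swap_mul, h, h]
    rcases z2_cases c with rfl | rfl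
    · simp
    · rw [zero_add, z2_add, swap_comm]) (cs hx.2 hy.2).symm)
  have a4 : sc (t₁ * v4 E i 1 0) = 4 := by
    rw [a2.eq, ← s4 1]
    change (_ * (_ * _) : Perm _).support.card = _
    rw [v4_bb, ← mul_assoc, ← bb_add, vec_δ, add_right_comm, vadd, zero_add]
  obtain ⟨g, hg⟩ := hK (k⁻¹ * Ψ t₁ * k) ((hk.inv_left.mul_left (a2.map Ψ)).mul_left hk) (by
    have := (a3.map Ψ).eq
    rw [← e] at this
    rw [Commute, SemiconjBy]
    calc _ = k⁻¹ * (Ψ t₁ * (k * Ψ (v4 E i 0 1) * k⁻¹)) * k := by group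
      _ = _ := by rw [this]; group)
  have e1 : k⁻¹ * Ψ t₁ * k⁻¹⁻¹ = Ψ g := by rw [hg, inv_inv]
  have e2 : k⁻¹ * Ψ (t₁ * v4 E i 1 0) * k⁻¹⁻¹ = Ψ (g * v4 E i 1 0) := by
    rw [map_mul, ← conj_mul, e1, hk.inv_left.eq, mul_inv_cancel_right, map_mul]
  obtain ⟨a, b, r, rfl⟩ := cent_v4 (h := g) (i := i)
    (F.comm (hg ▸ (hk.inv_left.mul_left (a2.map Ψ)).mul_left hk)) (F.comm (by
      have := (a3.map Ψ).eq
      rw [← e] at this
      rw [hg, Commute, SemiconjBy]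
      calc _ = k⁻¹ * (Ψ t₁ * (k * Ψ (v4 E i 0 1) * k⁻¹)) * k := by group
        _ = _ := by rw [this]; group))
  have b1 := F.fus _ _ _ a1 e1
  have b2 := F.fus _ _ _ (by rw [a2.symm.mul_mul_mul_comm, a1, v4_sq, one_mul]) e2
  rw [mul_assoc, ← (v4_veA i 1 0 r).eq, ← mul_assoc, v4_mul, a4, sc_v4_mul] at b2
  rw [show sc t₁ = 4 from s4 0, sc_v4_mul] at b1
  obtain ⟨rfl, h0⟩ : b = 1 ∧ sc r = 0 := by
    rcases z2_cases a with rfl | rfl <;> rcases z2_cases b with rfl | rfl <;>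
      simp [z2_add] at b1 b2 ⊢ <;> omega
  rw [sc_eq_zero.mp h0, map_one, mul_one] at hg
  have e3 : t₁ = t * v4 E i a 0 := F.inj (by
    have : Commute k (Ψ (v4 E i a 0)) := by
      rcases z2_cases a with rfl | rfl
      exacts [by rw [v4_zero, map_one]; exact Commute.one_right _, hk]
    rw [map_mul, ← e, ← mul_inv_cancel_right (Ψ (v4 E i a 0)) k, ← this.eq, conj_mul, ← map_mul, v4_mul,
      zero_add, add_zero, hg]
    group)
  have e4 := congrArg (fun g : alternatingGroup (Om κ E) => (g : Perm (Om κ E)) x) e3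
  have e5 : (v4 E i a 0 : Perm (Om κ E)) x = x := by
    rcases z2_cases a with rfl | rfl
    exacts [by rw [v4_zero]; rfl, hx.1]
  simp only [t₁, Perm.mul_apply, swap_apply_left, coe_mul, e5, hx.2, bb_δ,
    swap_apply_of_ne_of_ne (n hy.1 _ _).symm (n hy.1 _ _).symm] at e4
  exact hxy e4.symm

omit [Finite G] [Subsingleton E] in
theorem uw_s : UW Ψ.range (Ψ (v4 E i 1 0)) (Ψ (v4 E i 0 1)) := by
  rintro k hk ⟨t, e⟩
  obtain ⟨c, rfl⟩ := F.eq_v4 hn hK hk e.symm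
  let g := jA E ⟨0, c • δ i, 0⟩
  have h1 : Commute g (v4 E i 1 0) := Commute.map (HJ.comm.mpr (by simp)) _
  have h2 : g * v4 E i 0 1 * g⁻¹ = v4 E i c 1 := by
    rw [v4, ← map_inv, ← map_mul, ← map_mul, HJ.conj]; congr 1
    ext j <;> by_cases h : j = i <;> simp [h]
  refine (mul_mem_cancel_left (inv_mem (show Ψ g ∈ Ψ.range from ⟨g, rfl⟩))).mp
    (hK _ ((h1.map Ψ).inv_left.mul_left hk) ?_)
  rw [Commute, SemiconjBy, ← mul_inv_eq_iff_eq_mul, show (Ψ g)⁻¹ * k * Ψ (v4 E i 0 1) * ((Ψ g)⁻¹ * k)⁻¹ =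
    (Ψ g)⁻¹ * (k * Ψ (v4 E i 0 1) * k⁻¹) * Ψ g by group, ← e, ← h2]
  simp [mul_assoc]

omit [Subsingleton E] in
theorem gd_four {a : κ → ZMod 2} (ha : a i = 0) (hg : Gd Ψ (4 * wt a + 4)) : Gd Ψ 4 := by
  rw [show 4 = sc (v4 E i 1 0) by simp [sc_v4]]
  refine gd_of (v4_sq i 1 0) fun c hc => ?_
  have cw : Commute c (Ψ (v4 E i 1 0)) := mem_C1.mp hc
  have cj : ∀ {k : G} {a b : alternatingGroup (Om κ E)}, Commute k (Ψ (v4 E i 1 0)) →
      k * Ψ a * k⁻¹ = Ψ b → k * Ψ (a * v4 E i 1 0) * k⁻¹ = Ψ (b * v4 E i 1 0) := fun hk e => by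
    rw [map_mul, ← conj_mul, e, hk.eq, mul_inv_cancel_right, map_mul]
  have key : ∀ x y : ZMod 2, x = 1 ∨ y = 1 →
      c * Ψ (jA E ⟨x • a, 0, y • a⟩ * v4 E i 0 1) * c⁻¹ ∈ Ψ.range := fun x y hxy => by
    have n : ∀ (d c' : ZMod 2), jA E ⟨x • a, 0, y • a⟩ * v4 E i d 0 ≠ v4 E i c' 1 := fun d c' e => by
      rw [v4, ← map_mul] at e
      have := congrFun (congrArg HJ.v (jt_inj (congrArg Subtype.val e))) i
      simp [ha] at this
    have cm : ∀ d d' : ZMod 2, Commute (jA E ⟨x • a, 0, y • a⟩) (v4 E i d d') := fun _ _ => jA_comm rfl rfl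
    have sq : jA E ⟨x • a, 0, y • a⟩ * jA E ⟨x • a, 0, y • a⟩ = 1 := jA_sq rfl
    obtain ⟨_, ⟨u, rfl⟩, a1, a2, a3, a4, -, a6⟩ := dihedral' (X := Ψ.range) (w := Ψ (v4 E i 1 0))
      (e := Ψ (jA E ⟨x • a, 0, y • a⟩)) (f := Ψ (v4 E i 0 1)) (c := c)
      (by rw [← map_mul, v4_sq, map_one]) (by rw [← map_mul, sq, map_one])
      (by rw [← map_mul, v4_sq, map_one]) ((cm 1 0).map Ψ) ((v4_comm i 0 1 1 0).map Ψ) cw ⟨_, rfl⟩
      ⟨_, rfl⟩ ⟨_, rfl⟩ (fun k hk => F.mem' (by rw [(cm 1 0).symm.mul_mul_mul_comm, sq, v4_sq, one_mul])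
        (by
          convert hg
          rw [v4, ← map_mul, ← mul_add_one, ← wt_add_δ ha]
          refine (congrArg (fun x => sc (jA E x)) (?_ : _ = ⟨x • a + δ i, 0, y • a⟩)).trans ?_
          · ext j <;> simp
          · rw [sc_jA, wt]
            congr 2
            ext j
            by_cases h : j = i
            · simp [h, ha]
            · rcases z2_cases (a j) with h' | h' <;> simp [h, h', hxy]) hk) (F.uw_s hn hK) fun k hk =>
      ⟨fun e => by
        obtain ⟨c', e'⟩ := F.eq_v4 hn hK (k := k⁻¹) (t := jA E ⟨x • a, 0, y • a⟩) hk.inv_left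
          (by rw [← e]; group)
        exact n 0 c' (by rw [v4_zero, mul_one, e']), fun e => by
        have := cj hk (e.trans (map_mul Ψ _ _).symm)
        rw [mul_assoc (v4 E i 0 1), v4_sq, mul_one] at this
        obtain ⟨c', e'⟩ := F.eq_v4 hn hK (k := k⁻¹) (t := jA E ⟨x • a, 0, y • a⟩ * v4 E i 1 0)
          hk.inv_left (by rw [← this]; group)
        exact n 1 c' e'⟩
    rcases a6 with ⟨k, hk, e⟩ | ⟨k, hk, e⟩
    · obtain ⟨c', e'⟩ := F.eq_v4 hn hK hk (e.symm.trans (map_mul Ψ _ _).symm)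
      have e1 : jA E ⟨x • a, 0, y • a⟩ * v4 E i 0 1 = u * v4 E i c' 0 := by
        rw [← one_mul u, ← sq, mul_assoc, mul_assoc, ← mul_assoc _ u, e', v4_mul, z2_add, add_zero]
      rw [e1]
      rcases z2_cases c' with rfl | rfl
      · rwa [v4_zero, mul_one]
      · rw [map_mul, ← conj_mul, cw.eq, mul_inv_cancel_right]
        exact mul_mem a1 ⟨_, rfl⟩
    · obtain ⟨u', e'⟩ := a1
      rw [← e'] at e
      obtain ⟨c', e1⟩ := F.eq_v4 hn hK hk (e.symm.trans (map_mul Ψ _ _).symm)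
      have e2 : u' = v4 E i c' 0 := by
        rw [← one_mul u', ← v4_sq i 0 1, mul_assoc, e1, v4_mul, z2_add, zero_add]
      have e3 : Ψ u = c⁻¹ * Ψ u' * c := by rw [e']; group
      rcases z2_cases c' with rfl | rfl
      · exact absurd (by simp [e3, e2, v4_zero]) a3
      · exact absurd (by rw [e3, e2, cw.inv_left.eq, inv_mul_cancel_right]) a4
  refine F.uw_s hn hK c cw ?_
  convert mul_mem (mul_mem (key 1 0 (by simp)) (key 0 1 (by simp))) (key 1 1 (by simp)) using 1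
  simp only [conj_mul, ← map_mul, v4]
  congr 4
  ext j <;> simp
  all_goals by_cases h : j = i <;> simp [h, ha, z2_add]

end FH

theorem FH.surj (n : ℕ) : ∀ {κ : Type} [DecidableEq κ] [Fintype κ], Fintype.card κ = n + 1 →
    ∀ {G : Type u} [Group G] [Finite G] {Ψ : alternatingGroup (Om κ E) →* G}, FH Ψ →
      ∀ k, k ≤ n → Gd Ψ (4 * k + 4) → ∀ c, c ∈ Ψ.range := by
  induction n with
  | zero =>
    intro κ _ _ hn G _ _ Ψ F k hk hg
    obtain rfl : k = 0 := by omega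
    exact F.surj_one hg hn
  | succ n ih =>
  intro κ _ _ hn G _ _ Ψ F k hk hg
  refine F.surj_of_four ?_ (by omega)
  rcases k with _ | k
  · exact hg
  obtain ⟨i⟩ : Nonempty κ := Fintype.card_pos_iff.mp (by omega)
  have hn' : Fintype.card {j // j ≠ i} = n + 1 := by simp [hn]
  obtain ⟨a, ha, ha'⟩ := exists_wt (s := (Finset.univ.erase i : Finset κ)) (k := k + 1) (by
    simp [hn]; omega)
  refine F.gd_four (i := i) (by omega) (fun c h1 h2 => ?_) (ha' i (by simp)) (ha ▸ hg)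
  let V : Subgroup G :=
    { carrier := {g | ∃ a b, Ψ (v4 E i a b) = g}
      one_mem' := ⟨0, 0, by rw [v4_zero, map_one]⟩
      mul_mem' := by
        rintro _ _ ⟨a, b, rfl⟩ ⟨a', b', rfl⟩
        exact ⟨_, _, by rw [← map_mul, v4_mul]⟩
      inv_mem' := by
        rintro _ ⟨a, b, rfl⟩
        exact ⟨a, b, by rw [← map_inv, inv_eq_of_mul_eq_one_left (v4_sq i a b)]⟩ }
  have hV : ∀ {g}, g ∈ C[V] → ∀ a b, Commute g (Ψ (v4 E i a b)) := fun hg a b => (hg _ ⟨a, b, rfl⟩).symm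
  have : (V.subgroupOf C[V]).Normal := ⟨fun x hx g => by
    rw [mem_subgroupOf, coe_mul, coe_mul, ← g.2 (x : G) hx, coe_inv, mul_inv_cancel_right]; exact hx⟩
  let Θ : alternatingGroup (Om {j // j ≠ i} E) →* C[V] := (Ψ.comp (veA (fo E i))).codRestrict _ fun r => by
    rintro _ ⟨a, b, rfl⟩
    exact (v4_veA i a b r).map Ψ
  let π := QuotientGroup.mk' (V.subgroupOf C[V])
  have lift : ∀ (g : C[V]) t t', π g * (π.comp Θ) t * (π g)⁻¹ = (π.comp Θ) t' → ∃ a b,
      g * Ψ (v4 E i a b * veA (fo E i) t) * (g : G)⁻¹ = Ψ (veA (fo E i) t') := fun g t t' e => by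
    obtain ⟨x, ⟨a, b, hx⟩, e'⟩ := (QuotientGroup.mk'_eq_mk' _).mp
      (show π (g * Θ t * g⁻¹) = π (Θ t') by rw [map_mul, map_mul, map_inv]; exact e)
    refine ⟨a, b, Eq.trans ?_ (congrArg Subtype.val e')⟩
    rw [(v4_veA i a b t).eq, map_mul, ← conj_mul, (hV g.2 a b).eq, mul_inv_cancel_right, hx]; rfl
  have sq : ∀ a b t, t * t = 1 → v4 E i a b * veA (fo E i) t * (v4 E i a b * veA (fo E i) t) = 1 :=
    fun a b t ht => by rw [(v4_veA i a b t).symm.mul_mul_mul_comm, v4_sq, ← map_mul, ht, map_one, one_mul]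
  have sc0 : ∀ t, sc (veA (fo E i) t) = sc t := fun t => by simpa [v4_zero] using sc_v4_mul i 0 0 t
  have F' : FH (π.comp Θ) := by
    refine ⟨(injective_iff_map_eq_one _).mpr fun t ht => ?_, fun t t' g ht e => ?_⟩
    · obtain ⟨a, b, e⟩ := lift 1 t 1 (by simp [ht])
      have := sc_v4_mul i a b t
      rw [F.inj (a₁ := v4 E i a b * veA (fo E i) t) (a₂ := 1) (by simpa using e),
        sc_eq_zero.mpr rfl] at this
      exact sc_eq_zero.mp (by omega)
    · obtain ⟨g, rfl⟩ := QuotientGroup.mk'_surjective _ g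
      obtain ⟨a, b, e'⟩ := lift g t t' e
      have b1 := F.fus _ _ _ (sq a b t ht) e'
      have b2 := F.fus (veA (fo E i) t) (v4 E i a b * veA (fo E i) t') g
        (by rw [← map_mul, ht, map_one]) (by
          rw [map_mul, ← e', ← mul_inv_cancel_right (Ψ (v4 E i a b)) g, ← (hV g.2 a b).eq, conj_mul,
            ← map_mul, ← mul_assoc, v4_sq, one_mul])
      rw [sc_v4_mul, sc0] at b1 b2
      omega
  have mem : ∀ g : C[V], (g : G) ∈ Ψ.range → π g ∈ (π.comp Θ).range := by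
    rintro ⟨_, hg⟩ ⟨h, rfl⟩
    obtain ⟨a, b, r, rfl⟩ := cent_v4 (F.comm (hV hg 1 0)) (F.comm (hV hg 0 1))
    refine ⟨r, (QuotientGroup.mk'_eq_mk' _).mpr ⟨⟨Ψ (v4 E i a b), ?_⟩, ⟨a, b, rfl⟩, Subtype.ext ?_⟩⟩
    · rintro _ ⟨a', b', rfl⟩
      exact (v4_comm i a' b' a b).map Ψ
    · exact (map_mul Ψ _ _).symm.trans (congrArg Ψ (v4_veA i a b r).eq.symm)
  have hc : c ∈ C[V] := by
    rintro _ ⟨a, b, rfl⟩
    have : ∀ a b : ZMod 2, (a = 0 ∧ b = 0) ∨ (a = 1 ∧ b = 0) ∨ (a = 0 ∧ b = 1) ∨ (a = 1 + 0 ∧ b = 0 + 1) := by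
      decide
    rcases this a b with ⟨rfl, rfl⟩ | ⟨rfl, rfl⟩ | ⟨rfl, rfl⟩ | ⟨rfl, rfl⟩
    · simp [v4_zero]
    exacts [h1.symm, h2.symm, by rw [← v4_mul, map_mul]; exact (h1.mul_right h2).symm]
  obtain ⟨r, hr⟩ := ih hn' F' k (by omega) (fun t ht h4 g hg' => by
    obtain ⟨g, rfl⟩ := QuotientGroup.mk'_surjective _ g
    obtain ⟨a, b, e⟩ := lift g t t (mul_inv_eq_iff_eq_mul.mpr (mem_C1.mp hg'))
    have b1 := F.fus _ _ _ (sq a b t ht) e
    rw [sc_v4_mul, sc0] at b1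
    obtain ⟨rfl, rfl⟩ : a = 0 ∧ b = 0 := by
      by_contra hh
      rw [if_neg hh] at b1
      omega
    rw [v4_zero, one_mul, mul_inv_eq_iff_eq_mul] at e
    refine mem g (hg _ (sq 1 0 t ht) (by rw [sc_v4_mul, h4]; simp; ring) (mem_C1.mpr ?_))
    rw [map_mul]
    exact (hV g.2 1 0).mul_right e) (π ⟨c, hc⟩)
  obtain ⟨x, ⟨a, b, hx⟩, e⟩ := (QuotientGroup.mk'_eq_mk' _).mp hr
  exact ⟨veA (fo E i) r * v4 E i a b, by rw [map_mul, hx]; exact congrArg Subtype.val e⟩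

end Cfsg.Lib.Alt
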