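import Cfsg.Agent.Lib.Alt.J1
import Cfsg.Agent.Lib.InvChar.SylTools
import Cfsg.Agent.Lib.Transfer.Thompson
import Cfsg.Agent.Lib.FT.GW.Dih

/-!
Weak closure of `J = D₈ ^ κ`.
-/

set_option autoImplicit false

namespace Cfsg.Lib.Alt

open Equiv Subgroup Cfsg.Lib.Kondo Cfsg.Lib.FT

variable {κ : Type} [Fintype κ] [DecidableEq κ] {G : Type*} [Group G]

/-- the hypothesis on the embedding of `J` -/
structure JH (Λ : HJ κ →* G) (w : G) : Prop where
  inj : Function.Injective Λ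
  w3 : w ^ 3 = 1
  wconj : ∀ x, Λ x * w * (Λ x)⁻¹ = if ∑ i, x.d i = 0 then w else w⁻¹
  cz : ∀ g, (∀ i, g * Λ (zq (δ i)) * g⁻¹ = Λ (zq (δ i))) → ∃ x, ∃ k : ℕ, g = Λ x * w ^ k

/-- elementary abelian of order `4 ^ n` -/
structure Mx (κ : Type) [Fintype κ] (F : Subgroup G) : Prop where
  sq : ∀ x ∈ F, x * x = 1
  card : Nat.card F = 4 ^ Fintype.card κ

theorem eq_one_of_two_three {x : G} {k : ℕ} (h2 : x ^ 2 ^ k = 1) (h3 : x ^ 3 = 1) : x = 1 := by
  rw [← orderOf_eq_one_iff]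
  exact Nat.eq_one_of_dvd_coprimes (Nat.Coprime.pow_left k (by norm_num))
    (orderOf_dvd_of_pow_eq_one h2) (orderOf_dvd_of_pow_eq_one h3)

theorem pow_two_pow_of_mem {P : Subgroup G} (hP : IsPGroup 2 P) {x : G} (hx : x ∈ P) :
    ∃ k, x ^ 2 ^ k = 1 := by
  obtain ⟨k, hk⟩ := hP ⟨x, hx⟩
  exact ⟨k, congrArg Subtype.val hk⟩

namespace Mx

variable {F : Subgroup G} (h : Mx κ F)
include h

omit [DecidableEq κ] in
theorem comm {x y : G} (hx : x ∈ F) (hy : y ∈ F) : x * y = y * x := comm_of_sq h.sq hx hy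

omit [DecidableEq κ] in
theorem isPGroup : IsPGroup 2 F := fun b => ⟨1, Subtype.ext (by simpa [pow_two] using h.sq b b.2)⟩

omit [DecidableEq κ] in
theorem conj (g : G) : Mx κ (g •ᶜ F) :=
  ⟨by rintro _ ⟨x, hx, rfl⟩; rw [← map_mul, h.sq x hx, map_one], by rw [card_conj, h.card]⟩

omit [DecidableEq κ] in
theorem le_C : F ≤ C[F] := fun _ hx _ hy => h.comm hy hx

end Mx

namespace JH

variable {Λ : HJ κ →* G} {w : G} (H : JH Λ w)
include H

omit H [Fintype κ] [DecidableEq κ] in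
theorem isPGroup_range : IsPGroup 2 Λ.range := by
  rw [MonoidHom.range_eq_map]; exact (HJ.isPGroup.to_subgroup ⊤).map Λ

theorem zq_inj {a b : κ → ZMod 2} (h : Λ (zq a) = Λ (zq b)) : a = b := congrArg HJ.a (H.inj h)

theorem mx (β : κ → ZMod 2) : Mx κ ((HB β).map Λ) :=
  ⟨by rintro _ ⟨x, hx, rfl⟩; rw [← map_mul, HB_sq hx, map_one],
    by rw [card_map_of_injective H.inj, card_HB]⟩

theorem mem_range {P : Subgroup G} (hP : IsPGroup 2 P) (hJ : Λ.range ≤ P) {g : G} (hg : g ∈ P)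
    (h : ∀ i, g * Λ (zq (δ i)) * g⁻¹ = Λ (zq (δ i))) : g ∈ Λ.range := by
  obtain ⟨x, k, rfl⟩ := H.cz g h
  obtain ⟨m, hm⟩ := pow_two_pow_of_mem hP (mul_mem (inv_mem (hJ ⟨x, rfl⟩)) hg)
  rw [inv_mul_cancel_left] at hm
  rw [eq_one_of_two_three hm (by rw [← pow_mul, mul_comm, pow_mul, H.w3, one_pow]), mul_one]
  exact ⟨x, rfl⟩

/-- an element acting on `J` as a transvection -/
theorem centre_eq {y : HJ κ} {c : G} (h1 : ∀ x, y * x * y⁻¹ = x ∨ Λ (y * x * y⁻¹) = Λ x * c)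
    (h2 : ∃ x, y * x * y⁻¹ ≠ x) : ∃ j, c = Λ (zq (δ j)) ∧ (y.d j = 1 ∨ y.v j = 1) := by
  have hne : y.d ≠ 0 ∨ y.v ≠ 0 := by
    by_contra hh
    push Not at hh
    obtain ⟨x, hx⟩ := h2
    exact hx (by rw [HJ.conj]; simp [hh.1, hh.2])
  rcases hne with h | h
  · obtain ⟨j, hj⟩ := Function.ne_iff.mp h
    have hj : y.d j = 1 := (z2_cases _).resolve_left hj
    refine ⟨j, ?_, Or.inl hj⟩
    rcases h1 (sq' j) with h1 | h1 <;> rw [conj_sq', mul_δ_one hj] at h1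
    · exact absurd (mul_eq_left.mp h1) (zq_δ_ne j)
    · rw [map_mul, mul_right_inj] at h1
      exact h1.symm
  · obtain ⟨j, hj⟩ := Function.ne_iff.mp h
    have hj : y.v j = 1 := (z2_cases _).resolve_left hj
    refine ⟨j, ?_, Or.inr hj⟩
    rcases h1 (eq' j) with h1 | h1 <;> rw [conj_eq', mul_δ_one hj] at h1
    · exact absurd (mul_eq_left.mp h1) (zq_δ_ne j)
    · rw [map_mul, mul_right_inj] at h1
      exact h1.symm

/-- conjugating a transvection of `J` -/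
theorem centre_conj {g : G} (hg : g ∈ N[Λ.range]) {u y : HJ κ} {i : κ}
    (h1 : ∀ x, u * x * u⁻¹ = x ∨ u * x * u⁻¹ = x * zq (δ i)) (h2 : ∃ x, u * x * u⁻¹ ≠ x)
    (e : Λ y = g * Λ u * g⁻¹) :
    ∃ j, g * Λ (zq (δ i)) * g⁻¹ = Λ (zq (δ j)) ∧ (y.d j = 1 ∨ y.v j = 1) := by
  refine H.centre_eq (fun x => ?_) ?_
  · obtain ⟨x', e1⟩ := conj_mem_of_mem_normalizer' hg ⟨x, rfl⟩
    have e' : Λ x = g * Λ x' * g⁻¹ := by rw [e1]; group
    have : Λ (y * x * y⁻¹) = g * Λ (u * x' * u⁻¹) * g⁻¹ := by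
      simp only [map_mul, map_inv, e, e']; group
    refine (h1 x').imp (fun h => H.inj ?_) fun h => ?_
    · rw [this, h, e']
    · rw [this, h, map_mul, e', conj_mul]
  · obtain ⟨x, hx⟩ := h2
    obtain ⟨x', e1⟩ := conj_mem_of_mem_normalizer hg ⟨x, rfl⟩
    refine ⟨x', fun h => hx (H.inj ?_)⟩
    have := congrArg Λ h
    simp only [map_mul, map_inv, e, e1] at this ⊢
    calc _ = g⁻¹ * (g * Λ u * g⁻¹ * (g * Λ x * g⁻¹) * (g * Λ u * g⁻¹)⁻¹) * g := by group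
      _ = _ := by rw [this]; group

omit H [Fintype κ] in
theorem sq'_ne (i : κ) : ∃ x : HJ κ, sq' i * x * (sq' i)⁻¹ ≠ x :=
  ⟨eq' i, by rw [sq'_conj, mul_δ_one (by simp)]; simpa using zq_δ_ne i⟩

omit H [Fintype κ] in
theorem eq'_ne (i : κ) : ∃ x : HJ κ, eq' i * x * (eq' i)⁻¹ ≠ x :=
  ⟨sq' i, by rw [eq'_conj, mul_δ_one (by simp)]; simpa using zq_δ_ne i⟩

theorem zz_conj {g : G} (hg : g ∈ N[Λ.range]) :
    ∃ π : Perm κ, ∀ a, g * Λ (zq a) * g⁻¹ = Λ (zq (a ∘ ⇑π⁻¹)) := by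
  have h0 : ∀ i, ∃ j, g * Λ (zq (δ i)) * g⁻¹ = Λ (zq (δ j)) := fun i => by
    obtain ⟨y, e⟩ := conj_mem_of_mem_normalizer hg ⟨sq' i, rfl⟩
    exact (H.centre_conj hg (sq'_tv i) (sq'_ne i) e).imp fun _ h => h.1
  choose π hπ using h0
  have hi : Function.Injective π := fun i j e => by
    have h1 := hπ i
    rw [e, ← hπ j, mul_left_inj, mul_right_inj] at h1
    exact δ_inj (congrArg HJ.a (H.inj h1))
  refine ⟨Equiv.ofBijective π (Finite.injective_iff_bijective.mp hi), fun a => ?_⟩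
  induction a using Pi.single_induction with
  | zero => simp [show zq (0 ∘ _) = (1 : HJ κ) from rfl, zq_zero]
  | add a b ha hb => rw [zq_add, map_mul, ← conj_mul, ha, hb, ← map_mul, ← zq_add]; rfl
  | single i m =>
    rcases z2_cases m with rfl | rfl
    · simp [show zq (0 ∘ _) = (1 : HJ κ) from rfl, zq_zero]
    · rw [δ_comp]; exact hπ i

variable [Finite G]

theorem le_range {T F : Subgroup G} (hT : IsPGroup 2 T) (hJ : Λ.range ≤ T) (hN : T ≤ N[Λ.range])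
    (hF : Mx κ F) (hFT : F ≤ T) : F ≤ Λ.range := by
  classical
  choose π hπ using fun g : F => H.zz_conj (hN (hFT g.2))
  have hπ' : ∀ (g : F) i, (g : G) * Λ (zq (δ i)) * (g : G)⁻¹ = Λ (zq (δ (π g i))) := fun g i => by
    rw [hπ, δ_comp]
  let ρ : F →* Perm κ := MonoidHom.mk' π fun g h => Equiv.ext fun i => by
    refine δ_inj (H.zq_inj ?_)
    rw [Perm.mul_apply, ← hπ', ← hπ', ← hπ', coe_mul]; group
  have hk : ∀ g : ρ.ker, ∃ y, Λ y = (g : F) := fun g =>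
    H.mem_range hT hJ (hFT (g : F).2) fun i => by rw [hπ', show π g = 1 from g.2]; rfl
  choose y hy using hk
  have hsq : ∀ g, (y g).v * (y g).d = 0 := fun g =>
    HJ.sq_eq_one.mp (H.inj (by rw [map_mul, hy, hF.sq _ (g : F).2, map_one]))
  obtain ⟨β, hβ⟩ := exists_le_HB (K := F.comap Λ) fun x hx =>
    H.inj (by rw [map_mul, hF.sq _ hx, map_one])
  have hβ' : ∀ g, y g ∈ HB β := fun g => hβ (by rw [mem_comap, hy]; exact (g : F).2)
  let Fx := {a : κ → ZMod 2 // ∀ x ∈ ρ.range, ∀ i, a (x i) = a i}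
  have h1 := card_mul_fix_le ρ.range (by
    rintro _ ⟨g, rfl⟩ _ ⟨h, rfl⟩
    rw [← map_mul, ← map_mul, show g * h = h * g from Subtype.ext (hF.comm g.2 h.2)])
  let u : ρ.ker → κ → ZMod 2 := fun g => (y g).d + (y g).v
  have hu : ∀ g, ∀ x ∈ ρ.range, ∀ i, u g (x i) = u g i := fun g => by
    have key : ∀ (h : F) i, u g i = 1 → u g (π h i) = 1 := fun h i hi => by
      have e0 : ∃ x, y g * x * (y g)⁻¹ = x * zq (δ i) := by
        rcases z2_cases ((y g).d i) with e | e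
        · exact ⟨eq' i, by rw [conj_eq', mul_δ_one (by simpa [u, e] using hi)]⟩
        · exact ⟨sq' i, by rw [conj_sq', mul_δ_one e]⟩
      obtain ⟨x, e0⟩ := e0
      obtain ⟨x', e1⟩ := conj_mem_of_mem_normalizer (hN (hFT h.2)) ⟨x, rfl⟩
      have e2 : y g * x' * (y g)⁻¹ = x' * zq (δ (π h i)) := H.inj (by
        have := congrArg Λ e0
        simp only [map_mul, map_inv, hy, e1, ← hπ'] at this ⊢
        rw [conj_mul, ← this, ← mul_assoc, ← mul_assoc, mul_assoc _ (h : G)⁻¹,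
          ← mul_inv_rev, hF.comm (g : F).2 h.2]
        conv_rhs => rw [mul_assoc, mul_assoc, mul_assoc, ← mul_inv_rev, ← mul_assoc, ← mul_assoc])
      rw [HJ.conj, mul_zq] at e2
      have e3 := congrFun (congrArg HJ.a e2) (π h i)
      have e4 := congrFun (hsq g) (π h i)
      simp only [Pi.add_apply, Pi.mul_apply, Pi.single_eq_same, Pi.zero_apply, u, add_assoc,
        add_right_inj] at e3 e4 ⊢
      revert e3 e4
      generalize (y g).d (π h i) = a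
      generalize (y g).v (π h i) = b
      generalize x'.d (π h i) = c
      generalize x'.v (π h i) = d
      revert a b c d; decide
    rintro _ ⟨h, rfl⟩ i
    rcases z2_cases (u g i) with e | e
    · rw [e]
      refine (z2_cases _).resolve_right fun e' => ?_
      have := key h⁻¹ _ e'
      rw [show π h⁻¹ = (ρ h)⁻¹ from map_inv ρ h] at this
      simp [e] at this
    · rw [e]; exact key h i e
  have hdv : ∀ g g', u g = u g' → (y g).d = (y g').d ∧ (y g).v = (y g').v := fun g g' e => by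
    rw [funext_iff, funext_iff, ← forall_and]
    intro i
    have e1 := congrFun e i
    have e2 := mem_HB.mp (hβ' g) i
    have e3 := mem_HB.mp (hβ' g') i
    rcases z2_cases (β i) with h | h <;> simp_all [u]
  let s : (κ → ZMod 2) → ρ.ker := fun c => Classical.epsilon fun g => u g = c
  have hs : ∀ g, u (s (u g)) = u g := fun g => Classical.epsilon_spec (p := fun g' => u g' = u g) ⟨g, rfl⟩
  let f : ρ.ker → Fx × Fx := fun g => (⟨u g, hu g⟩, ⟨(y g).a + (y (s (u g))).a, by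
    rintro _ ⟨h, rfl⟩ i
    have e : Λ (zq ((y g).a + (y (s (u g))).a)) = (g : F) * (s (u g) : F) := by
      rw [← hy, ← hy, ← map_mul]
      congr 1
      obtain ⟨e1, e2⟩ := hdv _ _ (hs g)
      ext i <;> simp [e1, e2, z2_add, hsq g]
    have e1 := hπ h ((y g).a + (y (s (u g))).a)
    rw [e, hF.comm h.2 (mul_mem (g : F).2 (s (u g) : F).2), mul_inv_cancel_right, ← e] at e1
    simpa [ρ] using congrFun (congrArg HJ.a (H.inj e1)) (π h i)⟩)
  have hf : Function.Injective f := fun g g' e => by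
    have e1 : u g = u g' := congrArg (fun p => p.1.1) e
    have e2 : (y g).a + (y (s (u g))).a = (y g').a + (y (s (u g'))).a := congrArg (fun p => p.2.1) e
    rw [e1, add_left_inj] at e2
    refine Subtype.ext (Subtype.ext ?_)
    rw [← hy, ← hy, HJ.ext e2 (hdv _ _ e1).1 (hdv _ _ e1).2]
  have h2 := Nat.card_le_card_of_injective f hf
  have h3 := ρ.ker.card_mul_index
  rw [index_ker, hF.card] at h3
  rw [Nat.card_prod] at h2
  have h4 : 2 ^ Fintype.card κ ≤ Nat.card Fx := by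
    have h5 : 2 ^ Fintype.card κ * 2 ^ Fintype.card κ ≤ Nat.card Fx * 2 ^ Fintype.card κ := by
      rw [← mul_pow, show 2 * 2 = 4 from rfl, ← h3]
      calc _ ≤ Nat.card Fx * Nat.card Fx * Nat.card ρ.range := Nat.mul_le_mul_right _ h2
        _ = Nat.card Fx * (Nat.card ρ.range * Nat.card Fx) := by ring
        _ ≤ _ := Nat.mul_le_mul_left _ h1
    exact Nat.le_of_mul_le_mul_right h5 (by positivity)
  have h5 : Nat.card ρ.range ≤ 1 := by
    have := (Nat.mul_le_mul_left (Nat.card ρ.range) h4).trans h1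
    exact Nat.le_of_mul_le_mul_right (by rwa [one_mul]) (show 0 < 2 ^ Fintype.card κ by positivity)
  intro g hg
  have h6 : ρ ⟨g, hg⟩ = 1 := (ρ.range.eq_bot_of_card_le h5).le ⟨_, rfl⟩
  exact ⟨y ⟨_, h6⟩, hy _⟩

omit H [Fintype κ] [DecidableEq κ] [Finite G] in
theorem mem_N_of {g : G} [Finite G] (h0 : g •ᶜ (HB 0).map Λ ≤ Λ.range)
    (h1 : g •ᶜ (HB 1).map Λ ≤ Λ.range) : g ∈ N[Λ.range] := by
  refine mem_normalizer_fintype ?_
  rintro _ ⟨x, rfl⟩
  have e : x = ⟨x.a + x.v * x.d, x.d, 0⟩ * ⟨0, 0, x.v⟩ := by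
    ext i <;> simp [add_assoc, z2_add]
  rw [e, map_mul, ← conj_mul]
  exact mul_mem (h0 (conj_mem_conj (mem_map_of_mem Λ (mem_HB_zero.mpr rfl)) g))
    (h1 (conj_mem_conj (mem_map_of_mem Λ (mem_HB_one.mpr rfl)) g))

theorem le_N {T : Subgroup G} (hT : IsPGroup 2 T) (hJ : Λ.range ≤ T) : T ≤ N[Λ.range] := by
  by_contra hne
  obtain ⟨n, hn, h1, h2, -⟩ := GW.exists_mem_normalizer_not_mem_of_isPGroup (T := T ⊓ N[Λ.range])
    (X := T) (hT.to_le inf_le_left) inf_le_left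
    fun h => hne ((h.maximal T hT le_rfl inf_le_left).le.trans inf_le_right)
  have hJ' : Λ.range ≤ T ⊓ N[Λ.range] := le_inf hJ le_normalizer
  have key : ∀ β, n •ᶜ (HB β).map Λ ≤ Λ.range := fun β =>
    H.le_range (hT.to_le inf_le_left) hJ' inf_le_right ((H.mx β).conj n)
      (map_conj_le_of_mem_normalizer ((map_le_range _ _).trans hJ') h1)
  exact h2 ⟨hn, mem_N_of (key 0) (key 1)⟩

theorem le_range' {T F : Subgroup G} (hT : IsPGroup 2 T) (hJ : Λ.range ≤ T) (hF : Mx κ F)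
    (hFT : F ≤ T) : F ≤ Λ.range := H.le_range hT hJ (H.le_N hT hJ) hF hFT

theorem eq_HB {F : Subgroup G} (hF : Mx κ F) (h : F ≤ Λ.range) : ∃ β, F = (HB β).map Λ := by
  obtain ⟨β, hβ⟩ := exists_le_HB (K := F.comap Λ) fun x hx =>
    H.inj (by rw [map_mul, hF.sq _ hx, map_one])
  refine ⟨β, eq_of_le_of_card_ge ?_ (by rw [hF.card, (H.mx β).card])⟩
  rw [← map_comap_eq_self h]; exact map_mono hβ

theorem wk {T : Subgroup G} (hT : IsPGroup 2 T) (hJ : Λ.range ≤ T) (g : G)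
    (h : g •ᶜ Λ.range ≤ T) : g ∈ N[Λ.range] :=
  mem_N_of (H.le_range' hT hJ ((H.mx 0).conj g) ((map_mono (map_le_range _ _)).trans h))
    (H.le_range' hT hJ ((H.mx 1).conj g) ((map_mono (map_le_range _ _)).trans h))

theorem wc {Y : Subgroup G} (h1 : Λ.range ≤ Y) {g : G} (h2 : g •ᶜ Λ.range ≤ Y) :
    ∃ c ∈ Y, c * g ∈ N[Λ.range] := by
  obtain ⟨T, hT, hJ⟩ := exists_isSylowIn_ge (isPGroup_range (Λ := Λ)) le_top
  exact IC.wc_conj hT isPGroup_range (H.wk hT.isPGroup hJ) h1 h2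

theorem wt_eq {a b : κ → ZMod 2} {g : G} (hg : g * Λ (zq a) * g⁻¹ = Λ (zq b)) : wt a = wt b := by
  have h1 : ∀ a, Λ.range ≤ C1[Λ (zq a)] := by
    rintro a _ ⟨x, rfl⟩
    rw [mem_C1, ← map_mul, zq_comm a x, map_mul]
  obtain ⟨c, hc, h2⟩ := H.wc (h1 b) (g := g)
    (by rw [← hg, ← conj_centralizer_singleton]; exact map_mono (h1 a))
  obtain ⟨π, hπ⟩ := H.zz_conj h2
  have h3 := hπ a
  rw [mul_inv_rev, show c * g * Λ (zq a) * (g⁻¹ * c⁻¹) = c * (g * Λ (zq a) * g⁻¹) * c⁻¹ by group,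
    hg, mem_C1.mp hc, mul_inv_cancel_right] at h3
  rw [show b = _ from congrArg HJ.a (H.inj h3), wt_comp]

omit H [Fintype κ] [DecidableEq κ] in
theorem range_le_N (β : κ → ZMod 2) : Λ.range ≤ N[(HB β).map Λ] := by
  rintro _ ⟨x, rfl⟩
  refine mem_normalizer_fintype ?_
  rintro _ ⟨y, hy, rfl⟩
  exact ⟨_, HB_conj x hy, by simp⟩

theorem conj_HB {β β' : κ → ZMod 2} {g : G} (e : g •ᶜ (HB β).map Λ = (HB β').map Λ) :
    ∃ h ∈ N[Λ.range], h⁻¹ * g ∈ N[(HB β).map Λ] := by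
  obtain ⟨c, hc, h2⟩ := H.wc (range_le_N β') (g := g)
    (by rw [← e, normalizer_map_conj]; exact map_mono (range_le_N β))
  refine ⟨_, h2, conj_eq_iff_mem_normalizer.mp ?_⟩
  rw [← conj_conj, e, mul_inv_rev, ← conj_conj, conj_eq_iff_mem_normalizer.mpr (inv_mem hc), ← e,
    conj_conj, inv_mul_cancel, map_conj_one]

/-- Thompson transfer -/
theorem thompson (hG : ∀ N : Subgroup G, N.index ≠ 2) {z : G} (hN : N[Λ.range] ≤ C1[z])
    (χ : G → ZMod 2) (hχ : ∀ x ∈ C1[z], ∀ y ∈ C1[z], χ (x * y) = χ x + χ y) {β : κ → ZMod 2}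
    {x : HJ κ} (hx : x ∈ HB β) (h1 : χ (Λ x) = 1) : ¬ N[(HB β).map Λ] ≤ C1[z] := by
  intro hB
  obtain ⟨T, hT, hJ⟩ := exists_isSylowIn_ge (isPGroup_range (Λ := Λ)) le_top
  have hTz := (H.le_N hT.isPGroup hJ).trans hN
  obtain ⟨P, rfl⟩ := hT.exists_sylow_top
  have h0 : χ 1 = 0 := by simpa using hχ 1 (one_mem _) 1 (one_mem _)
  have hi : ∀ x ∈ C1[z], χ x⁻¹ = χ x := fun x hx => by
    have := hχ x hx x⁻¹ (inv_mem hx)
    rw [mul_inv_cancel, h0] at this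
    linear_combination this.symm - z2_add (χ x)
  let M : Subgroup G :=
    { carrier := {g | g ∈ (P : Subgroup G) ∧ χ g = 0}
      one_mem' := ⟨one_mem _, h0⟩
      mul_mem' := fun {a b} ha hb => ⟨mul_mem ha.1 hb.1, by
        rw [hχ a (hTz ha.1) b (hTz hb.1), ha.2, hb.2, add_zero]⟩
      inv_mem' := fun {a} ha => ⟨inv_mem ha.1, by rw [hi a (hTz ha.1), ha.2]⟩ }
  have hxP := hJ ⟨x, rfl⟩
  obtain ⟨g, hg, h3⟩ := thompson_transfer_extremal P (M := M) (fun _ h => h.1) (by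
      rw [relIndex_eq_two_iff_exists_notMem_and]
      refine ⟨Λ x, hxP, fun h => by simpa [h1] using h.2, fun b hb => ?_⟩
      rcases z2_cases (χ b) with h | h
      · exact Or.inr ⟨hb, h⟩
      · exact Or.inl ⟨mul_mem hb hxP, by rw [hχ b (hTz hb) _ (hTz hxP), h, h1]; rfl⟩)
    (t := Λ x) (by rw [pow_two, ← map_mul, HB_sq hx, map_one])
    (by rw [pResidual_two_eq_top_iff.mpr hG]; exact mem_top _)
  obtain ⟨k, e1, h4⟩ := IC.exists_conj_into h3 (isConj_iff.mpr ⟨g, rfl⟩) (H.mx β).isPGroup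
    fun y hy => mem_C1.mpr ((H.mx β).comm hy (mem_map_of_mem Λ hx))
  obtain ⟨β', e⟩ := H.eq_HB ((H.mx β).conj k) (H.le_range' hT.isPGroup hJ ((H.mx β).conj k) (by
    rintro _ ⟨y, hy, rfl⟩
    exact h4 y hy))
  obtain ⟨h, hh, h5⟩ := H.conj_HB e
  have hk : k ∈ C1[z] := by simpa using mul_mem (hN hh) (hB h5)
  have := hg.2
  rw [← e1, hχ _ (mul_mem hk (hTz hxP)) _ (inv_mem hk), hχ _ hk _ (hTz hxP), hi _ hk, h1] at this
  revert this
  generalize χ k = a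
  revert a; decide

end JH

end Cfsg.Lib.Alt
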