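import Cfsg.Agent.Lib.Alt.J2

/-!
Transvections induced on the elementary abelian subgroups of maximal rank.
-/

set_option autoImplicit false

namespace Cfsg.Lib.Alt

open Equiv Subgroup Cfsg.Lib.Kondo Cfsg.Lib.FT

variable {κ : Type} [Fintype κ] [DecidableEq κ] {G : Type*} [Group G]

/-- `u` acts on `F` as a nontrivial transvection with centre `c` -/
structure TV (F : Subgroup G) (u c : G) : Prop where
  mem : c ∈ F
  fix : u * c * u⁻¹ = c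
  act : ∀ b ∈ F, u * b * u⁻¹ = b ∨ u * b * u⁻¹ = b * c
  ne : ∃ b ∈ F, u * b * u⁻¹ ≠ b

theorem conj_conj_eq {g u b b' : G} (h : u * b * u⁻¹ = b') :
    g * u * g⁻¹ * (g * b * g⁻¹) * (g * u * g⁻¹)⁻¹ = g * b' * g⁻¹ := by rw [← h]; group

theorem TV.map {F : Subgroup G} {u c : G} (h : TV F u c) (g : G) :
    TV (g •ᶜ F) (g * u * g⁻¹) (g * c * g⁻¹) := by
  refine ⟨conj_mem_conj h.mem g, conj_conj_eq h.fix, ?_, ?_⟩
  · rintro _ ⟨b, hb, rfl⟩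
    exact (h.act b hb).imp conj_conj_eq fun e => (conj_conj_eq e).trans (conj_mul ..).symm
  · obtain ⟨b, hb, e⟩ := h.ne
    refine ⟨_, conj_mem_conj hb g, fun e' => e ?_⟩
    rw [conj_conj_eq rfl] at e'
    simpa using e'

theorem TV.conj {F : Subgroup G} {u c g : G} (h : TV F u c) (hg : g ∈ N[F]) :
    TV F (g * u * g⁻¹) (g * c * g⁻¹) := by
  simpa only [conj_eq_iff_mem_normalizer.mpr hg] using h.map g

theorem TV.mem_N [Finite G] {F : Subgroup G} {u c : G} (h : TV F u c) : u ∈ N[F] :=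
  mem_normalizer_fintype fun b hb => by
    rcases h.act b hb with e | e <;> rw [e]
    · exact hb
    · exact mul_mem hb h.mem

theorem TV.moved {F : Subgroup G} {u c b : G} (h : TV F u c) (hb : b ∈ F) (e : u * b * u⁻¹ ≠ b) :
    u * b * u⁻¹ = b * c := (h.act b hb).resolve_left e

theorem TV.ne_one {F : Subgroup G} {u c : G} (h : TV F u c) : c ≠ 1 := by
  rintro rfl
  obtain ⟨b, hb, e⟩ := h.ne
  exact e (by simpa using h.act b hb)

theorem conj_eq_of_C {F : Subgroup G} {u u' b : G} (h : u⁻¹ * u' ∈ C[F]) (hb : b ∈ F) :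
    u' * b * u'⁻¹ = u * b * u⁻¹ := by
  calc _ = u * (u⁻¹ * u' * b) * u'⁻¹ := by group
    _ = _ := by rw [← h b hb]; group

theorem TV.of_C {F : Subgroup G} {u u' c : G} (h : TV F u c) (e : u⁻¹ * u' ∈ C[F]) : TV F u' c :=
  ⟨h.mem, by rw [conj_eq_of_C e h.mem, h.fix], fun b hb => by
    rw [conj_eq_of_C e hb]; exact h.act b hb,
    h.ne.imp fun b hb => ⟨hb.1, by rw [conj_eq_of_C e hb.1]; exact hb.2⟩⟩

/-- the transvections with a given centre -/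
def Ec (F : Subgroup G) (c : G) (hc : c ∈ F) (h2 : c * c = 1) : Subgroup G where
  carrier := {g | g * c * g⁻¹ = c ∧ ∀ b ∈ F, g * b * g⁻¹ = b ∨ g * b * g⁻¹ = b * c}
  one_mem' := by simp
  mul_mem' := by
    rintro g h ⟨h1, h3⟩ ⟨h4, h5⟩
    have e : ∀ b, g * h * b * (g * h)⁻¹ = g * (h * b * h⁻¹) * g⁻¹ := fun b => by group
    refine ⟨by rw [e, h4, h1], fun b hb => ?_⟩
    rw [e]
    rcases h5 b hb with e1 | e1 <;> rw [e1]
    · exact h3 b hb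
    · rw [← conj_mul, h1]
      rcases h3 b hb with e2 | e2 <;> rw [e2]
      · exact Or.inr rfl
      · exact Or.inl (by rw [mul_assoc, h2, mul_one])
  inv_mem' := by
    rintro g ⟨h1, h3⟩
    have e : ∀ {b b'}, g * b * g⁻¹ = b' → g⁻¹ * b' * g⁻¹⁻¹ = b := by rintro b _ rfl; group
    refine ⟨e h1, fun b hb => (h3 b hb).imp e fun e1 => e ?_⟩
    rw [← conj_mul, h1, e1, mul_assoc, h2, mul_one]

/-- `X` induces a `2`-group on `F` -/
def Ind2 (F X : Subgroup G) : Prop := X ≤ N[F] ∧ ∀ x ∈ X, ∃ k, x ^ 2 ^ k ∈ C[F]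

theorem Ind2.mono {F X Y : Subgroup G} (h : Ind2 F X) (hY : Y ≤ X) : Ind2 F Y :=
  ⟨hY.trans h.1, fun x hx => h.2 x (hY hx)⟩

theorem Ind2.of_isPGroup {F X : Subgroup G} (h : IsPGroup 2 X) (hN : X ≤ N[F]) : Ind2 F X :=
  ⟨hN, fun _ hx => (pow_two_pow_of_mem h hx).imp fun _ e => by rw [e]; exact one_mem _⟩

theorem pow_mul_mem {E : Subgroup G} {x g : G} (hx : x ∈ N[E]) (hg : g ∈ E) (m : ℕ) :
    (x ^ m)⁻¹ * (x * g) ^ m ∈ E := by
  induction m with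
  | zero => simp
  | succ m ih =>
    rw [show (x ^ (m + 1))⁻¹ * (x * g) ^ (m + 1) = x⁻¹ * ((x ^ m)⁻¹ * (x * g) ^ m) * x * g by
      rw [pow_succ, pow_succ]; group]
    exact mul_mem (conj_mem_of_mem_normalizer' hx ih) hg

theorem Ind2.exists_sup [Finite G] {F X : Subgroup G} (hF : ∀ x ∈ F, x * x = 1) (h : Ind2 F X)
    {c : G} (hc : c ∈ F) (hX : ∀ x ∈ X, x * c * x⁻¹ = c) :
    ∃ Y, Ind2 F Y ∧ X ≤ Y ∧ Y ≤ C1[c] ∧ ∀ u, TV F u c → u ∈ Y := by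
  have h1 : X ≤ N[Ec F c hc (hF c hc)] := fun x hx => mem_normalizer_fintype fun g hg => by
    refine ⟨(hX x hx ▸ conj_conj_eq hg.1 :), fun b hb => ?_⟩
    have := (hg.2 _ (conj_mem_of_mem_normalizer' (h.1 hx) hb)).imp (conj_conj_eq (g := x))
      (conj_conj_eq (g := x))
    rwa [← conj_mul (c := c), hX x hx, show x * (x⁻¹ * b * x) * x⁻¹ = b by group] at this
  refine ⟨X ⊔ Ec F c hc (hF c hc), ⟨sup_le h.1 fun g hg => mem_normalizer_fintype fun b hb => ?_,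
    fun y hy => ?_⟩, le_sup_left, sup_le (fun x hx => mem_C1.mpr (mul_inv_eq_iff_eq_mul.mp (hX x hx)))
      fun x hx => mem_C1.mpr (mul_inv_eq_iff_eq_mul.mp hx.1), fun u hu => mem_sup_right ⟨hu.fix, hu.act⟩⟩
  · rcases hg.2 b hb with e | e <;> rw [e]
    exacts [hb, mul_mem hb hc]
  · obtain ⟨x, hx, g, hg, rfl⟩ := (mem_sup_of_le_normalizer_right h1).mp hy
    obtain ⟨k, hk⟩ := h.2 x hx
    have h2 : (x * g) ^ 2 ^ k ∈ Ec F c hc (hF c hc) := by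
      have := mul_mem (show x ^ 2 ^ k ∈ Ec F c hc (hF c hc) from
        ⟨by rw [← hk c hc, mul_inv_cancel_right], fun b hb =>
          Or.inl (by rw [← hk b hb, mul_inv_cancel_right])⟩) (pow_mul_mem (h1 hx) hg (2 ^ k))
      rwa [mul_inv_cancel_left] at this
    refine ⟨k + 1, fun b hb => ?_⟩
    rw [pow_succ, pow_mul, pow_two]
    generalize (x * g) ^ 2 ^ k = t at h2
    rw [eq_comm, ← mul_inv_eq_iff_eq_mul, show t * t * b * (t * t)⁻¹ = t * (t * b * t⁻¹) * t⁻¹ by group]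
    rcases h2.2 b hb with e | e
    · rw [e, e]
    · rw [e, ← conj_mul, e, h2.1, mul_assoc, hF c hc, mul_one]

theorem Ind2.exists_isPGroup [Finite G] {F X R : Subgroup G} (hF : Mx κ F) (h : Ind2 F X)
    (hR : IsPGroup 2 R) (hRX : R ≤ X) : ∃ P : Subgroup G, IsPGroup 2 P ∧ P ≤ X ⊔ C[F] ∧ F ≤ P ∧
      R ≤ P ∧ ∀ u ∈ X, ∃ p ∈ P, u⁻¹ * p ∈ C[F] := by
  have hN : X ≤ N[C[F]] := h.1.trans (normalizer_le_normalizer_centralizer F)
  obtain ⟨P, hP, hle⟩ := exists_isSylowIn_ge (K := X ⊔ C[F])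
    (hF.isPGroup.to_sup_of_normal_left' hR (hRX.trans h.1))
    (sup_le (hF.le_C.trans le_sup_right) (hRX.trans le_sup_left))
  refine ⟨P, hP.isPGroup, hP.le, le_sup_left.trans hle, le_sup_right.trans hle, fun u hu => ?_⟩
  obtain ⟨S, rfl⟩ := hP.exists_sylow
  have : (C[F].subgroupOf (X ⊔ C[F])).Normal :=
    (normal_subgroupOf_iff_le_normalizer le_sup_right).mpr (sup_le hN le_normalizer)
  have h1 := ((IsSylowIn.of_sylow_top S).map (QuotientGroup.mk' (C[F].subgroupOf (X ⊔ C[F])))).maximal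
    _ (by
      rintro ⟨_, ⟨y, hy⟩, -, rfl⟩
      obtain ⟨x, hx, g, hg, rfl⟩ := (mem_sup_of_le_normalizer_right hN).mp hy
      obtain ⟨k, hk⟩ := h.2 x hx
      refine ⟨k, Subtype.ext ?_⟩
      change (QuotientGroup.mk' _ _) ^ 2 ^ k = 1
      rw [← map_pow, QuotientGroup.mk'_apply, QuotientGroup.eq_one_iff, mem_subgroupOf]
      simpa using mul_mem hk (pow_mul_mem (hN hx) hg (2 ^ k))) le_rfl (map_mono le_top)
  obtain ⟨p, hp, e⟩ := h1.le ⟨⟨u, mem_sup_left hu⟩, mem_top _, rfl⟩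
  exact ⟨p, ⟨p, hp, rfl⟩, mem_subgroupOf.mp (QuotientGroup.eq.mp e.symm)⟩

namespace JH

variable [Finite G] {Λ : HJ κ →* G} {w : G} (H : JH Λ w)
include H

theorem tv_range {T : Subgroup G} (hT : IsPGroup 2 T) (hJ : Λ.range ≤ T) {β : κ → ZMod 2} {u c : G}
    (hu : u ∈ T) (h : TV ((HB β).map Λ) u c) : ∃ i, c = Λ (zq (δ i)) ∧
      ∃ y, (y = eq' i ∨ y = sq' i) ∧ u⁻¹ * Λ y ∈ (HB β).map Λ := by
  have hN := H.le_N hT hJ hu
  obtain ⟨x, rfl⟩ : u ∈ Λ.range := H.mem_range hT hJ hu fun i => by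
    by_contra hne
    have e0 := h.moved (mem_map_of_mem Λ (zq_mem (δ i) β)) hne
    obtain ⟨π, hπ⟩ := H.zz_conj hN
    have e1 : c = Λ (zq (δ i + δ (π i))) := by
      rw [zq_add, map_mul, ← δ_comp, ← hπ, e0, ← mul_assoc, ← map_mul, HB_sq (zq_mem _ β), map_one,
        one_mul]
    have key : ∀ y ∈ HB β, (∀ x, y * x * y⁻¹ = x ∨ y * x * y⁻¹ = x * zq (δ i)) →
        (∃ x, y * x * y⁻¹ ≠ x) → (∀ j, y.d j = 1 ∨ y.v j = 1 → j = i) → False := fun y hy h1 h2 h3 => by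
      have : ∃ a, Λ (y * zq a) = u * Λ y * u⁻¹ := by
        rcases h.act _ (mem_map_of_mem Λ hy) with e | e
        · exact ⟨0, by rw [e, zq_zero, mul_one]⟩
        · exact ⟨_, by rw [e, e1, map_mul]⟩
      obtain ⟨a, e⟩ := this
      obtain ⟨j, e2, e3⟩ := H.centre_conj hN h1 h2 e
      rw [h3 j (by simpa using e3)] at e2
      exact hne e2
    have hs : ∀ j, δ i j = 1 → j = i := fun j hj => by
      by_contra hh
      simp [hh] at hj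
    rcases z2_cases (β i) with e | e
    · exact key _ (eq'_mem e) (eq'_tv i) (eq'_ne i) (by simpa using hs)
    · exact key _ (sq'_mem e) (sq'_tv i) (sq'_ne i) (by simpa using hs)
  let t : κ → ZMod 2 := fun j => if β j = 1 then x.d j else x.v j
  have key : ∀ j, t j = 1 → c = Λ (zq (δ j)) := fun j hj => by
    have : ∃ y ∈ HB β, x * y * x⁻¹ = y * zq (δ j) := by
      rcases z2_cases (β j) with e | e
      · exact ⟨_, eq'_mem e, by rw [conj_eq', mul_δ_one (by simpa [t, e] using hj)]⟩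
      · exact ⟨_, sq'_mem e, by rw [conj_sq', mul_δ_one (by simpa [t, e] using hj)]⟩
    obtain ⟨y, hy, e⟩ := this
    rcases h.act _ (mem_map_of_mem Λ hy) with e1 | e1 <;> rw [← map_inv, ← map_mul, ← map_mul, e] at e1
    · exact absurd (mul_eq_left.mp (H.inj e1)) (zq_δ_ne j)
    · rw [map_mul, mul_right_inj] at e1
      exact e1.symm
  obtain ⟨i, hi⟩ : ∃ i, t i = 1 := by
    by_contra hh
    obtain ⟨_, ⟨b, hb, rfl⟩, e⟩ := h.ne
    refine e ?_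
    rw [← map_mul, HB_comm (β := β) (mem_HB.mpr fun j => ?_) hb, map_mul, mul_inv_cancel_right]
    have := (z2_cases (t j)).resolve_right fun e => hh ⟨j, e⟩
    rcases z2_cases (β j) with e | e <;> simpa [t, e] using this
  have h0 : ∀ j, j ≠ i → t j = 0 := fun j hj => (z2_cases _).resolve_right fun e =>
    hj (δ_inj (H.zq_inj ((key j e).symm.trans (key i hi))))
  refine ⟨i, key i hi, if β i = 1 then eq' i else sq' i, by split_ifs <;> simp, ?_⟩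
  rw [← map_inv, ← map_mul]
  refine mem_map_of_mem Λ (mem_HB.mpr fun j => ?_)
  by_cases hj : j = i
  · subst hj
    rcases z2_cases (β j) with e | e <;> simp_all [t, z2_add]
  · have := h0 j hj
    clear h0 key
    rcases z2_cases (β j) with e | e <;> split_ifs <;> simp_all [t]

/-- the key lemma -/
theorem key {M F X R : Subgroup G} (hM : Λ.range ≤ M) (hF : Mx κ F) (hC : C[F] ≤ M) (hXM : X ≤ M)
    (h : Ind2 F X) (hR : IsPGroup 2 R) (hRX : R ≤ X) :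
    ∃ g ∈ M, (∀ F', Mx κ F' → F' ≤ F ⊔ R → g •ᶜ F' ≤ Λ.range) ∧ ∀ u ∈ X, ∀ c, TV F u c →
      ∃ i, g * c * g⁻¹ = Λ (zq (δ i)) ∧
        ∃ y, (y = eq' i ∨ y = sq' i) ∧ u⁻¹ * (g⁻¹ * Λ y * g) ∈ C[F] := by
  obtain ⟨P, hP, h1, h2, h3, h4⟩ := h.exists_isPGroup hF hR hRX
  obtain ⟨T, hT, hJ⟩ := exists_isSylowIn_ge (isPGroup_range (Λ := Λ)) hM
  obtain ⟨g, hg, h5⟩ := hT.exists_conj_le hP (h1.trans (sup_le hXM hC))
  have h6 : ∀ F', Mx κ F' → F' ≤ F ⊔ R → g •ᶜ F' ≤ Λ.range := fun F' hF' h6 =>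
    H.le_range' hT.isPGroup hJ (hF'.conj g) ((map_mono (h6.trans (sup_le h2 h3))).trans h5)
  refine ⟨g, hg, h6, fun u hu c hc => ?_⟩
  obtain ⟨β, e⟩ := H.eq_HB (hF.conj g) (h6 F hF le_sup_left)
  obtain ⟨p, hp, h7⟩ := h4 u hu
  obtain ⟨i, e1, y, hy, e2⟩ := H.tv_range hT.isPGroup hJ (h5 (conj_mem_conj hp g))
    (e ▸ (hc.of_C h7).map g)
  refine ⟨i, e1, y, hy, ?_⟩
  rw [← e, mem_map_conj] at e2
  convert mul_mem h7 (hF.le_C e2) using 1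
  group

omit H in
theorem ind2_zpowers {F : Subgroup G} (hF : Mx κ F) {u c : G} (h : TV F u c) : Ind2 F (zpowers u) := by
  obtain ⟨Y, h1, -, -, h2⟩ := (Ind2.of_isPGroup (F := F) (X := ⊥) IsPGroup.of_bot bot_le).exists_sup
    hF.sq h.mem (by simp)
  exact h1.mono (zpowers_le.mpr (h2 u h))

theorem centre_C1 {F : Subgroup G} (hF : Mx κ F) {u c z : G} (h : TV F u c) (hz : z ∈ F)
    (hJ : Λ.range ≤ C1[z]) (hu : u * z * u⁻¹ = z) : ∃ g ∈ C1[z], ∃ i, c = g * Λ (zq (δ i)) * g⁻¹ := by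
  obtain ⟨g, hg, -, h1⟩ := H.key hJ hF (fun x hx => mem_C1.mpr (hx z hz).symm)
    (zpowers_le.mpr (mem_C1.mpr (mul_inv_eq_iff_eq_mul.mp hu))) (ind2_zpowers hF h) IsPGroup.of_bot bot_le
  obtain ⟨i, e, -⟩ := h1 u (mem_zpowers u) c h
  exact ⟨g⁻¹, inv_mem hg, i, by rw [← e]; group⟩

theorem centre {F : Subgroup G} (hF : Mx κ F) {u c : G} (h : TV F u c) :
    ∃ g i, g * c * g⁻¹ = Λ (zq (δ i)) := by
  obtain ⟨g, -, i, e⟩ := H.centre_C1 hF h (one_mem F) (fun x _ => mem_C1.mpr (by simp)) (by simp)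
  exact ⟨g⁻¹, i, by rw [e]; group⟩

/-- symmetry -/
theorem symm {F : Subgroup G} (hF : Mx κ F) {u c u' c' : G} (h : TV F u c) (h' : TV F u' c')
    (e : u * c' * u⁻¹ = c') : u' * c * u'⁻¹ = c := by
  obtain ⟨Y, h1, h2, -, h3⟩ := (ind2_zpowers hF h).exists_sup hF.sq h'.mem fun x hx =>
    mul_inv_eq_iff_eq_mul.mpr (mem_C1.mp (zpowers_le.mpr (mem_C1.mpr (mul_inv_eq_iff_eq_mul.mp e)) hx))
  obtain ⟨g, -, -, h4⟩ := H.key le_top hF le_top le_top h1 IsPGroup.of_bot bot_le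
  obtain ⟨i, e1, -⟩ := h4 u (h2 (mem_zpowers u)) c h
  obtain ⟨j, -, y, -, e2⟩ := h4 u' (h3 u' h') c' h'
  rw [← conj_eq_of_C e2 h.mem, show c = g⁻¹ * Λ (zq (δ i)) * g⁻¹⁻¹ by rw [← e1]; group,
    show g⁻¹ * Λ y * g = g⁻¹ * Λ y * g⁻¹⁻¹ by group, conj_conj_eq rfl, ← map_inv, ← map_mul,
    ← map_mul, zq_conj]

/-- there is no `D₄` configuration -/
theorem three {F : Subgroup G} (hF : Mx κ F) {d c u₁ c₁ u₂ c₂ u₃ c₃ : G} (h : TV F d c)
    (h1 : TV F u₁ c₁) (h2 : TV F u₂ c₂) (h3 : TV F u₃ c₃) (e12 : u₁ * c₂ * u₁⁻¹ = c₂)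
    (e13 : u₁ * c₃ * u₁⁻¹ = c₃) (e23 : u₂ * c₃ * u₂⁻¹ = c₃) (n12 : c₁ ≠ c₂) (n13 : c₁ ≠ c₃)
    (n23 : c₂ ≠ c₃) (m1 : u₁ * c * u₁⁻¹ ≠ c) (m2 : u₂ * c * u₂⁻¹ ≠ c) (m3 : u₃ * c * u₃⁻¹ ≠ c) :
    False := by
  have f : ∀ {u c : G}, u * c * u⁻¹ = c → u ∈ C1[c] := fun e =>
    mem_C1.mpr (mul_inv_eq_iff_eq_mul.mp e)
  have f' : ∀ {u c : G}, u ∈ C1[c] → u * c * u⁻¹ = c := fun e =>
    mul_inv_eq_iff_eq_mul.mpr (mem_C1.mp e)
  obtain ⟨Y, a1, a2, -, a3⟩ := (ind2_zpowers hF h1).exists_sup hF.sq h2.mem fun x hx =>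
    f' (zpowers_le.mpr (f e12) hx)
  obtain ⟨Y', b1, b2, -, b3⟩ := (a1.mono (Y := Y ⊓ C1[c₃]) inf_le_left).exists_sup hF.sq h3.mem
    fun x hx => f' hx.2
  obtain ⟨g, -, -, h4⟩ := H.key le_top hF le_top le_top b1 IsPGroup.of_bot bot_le
  obtain ⟨i₁, e1, -⟩ := h4 u₁ (b2 ⟨a2 (mem_zpowers _), f e13⟩) _ h1
  obtain ⟨i₂, e2, -⟩ := h4 u₂ (b2 ⟨a3 _ h2, f e23⟩) _ h2
  obtain ⟨i₃, e3, -⟩ := h4 u₃ (b3 _ h3) _ h3
  have n : ∀ {c c' i j}, c ≠ c' → g * c * g⁻¹ = Λ (zq (δ i)) → g * c' * g⁻¹ = Λ (zq (δ j)) →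
      i ≠ j := by
    rintro c c' i j n e e' rfl
    exact n (by simpa using e.trans e'.symm)
  obtain ⟨k, i, e4⟩ := H.centre hF h
  have mv : ∀ {u c'}, TV F u c' → u * c * u⁻¹ ≠ c → d * c' * d⁻¹ = c' * c := fun hu m =>
    h.moved hu.mem fun e => m (H.symm hF h hu e)
  have e5 : (d * (u₁ * (u₂ * u₃))) * c * (d * (u₁ * (u₂ * u₃)))⁻¹ = c₁ * c₂ * c₃ := by
    calc _ = d * (u₁ * (u₂ * (u₃ * c * u₃⁻¹) * u₂⁻¹) * u₁⁻¹) * d⁻¹ := by group
      _ = _ := by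
        rw [h3.moved h.mem m3, ← conj_mul (b := u₂), h2.moved h.mem m2, e23, ← conj_mul (b := u₁),
          ← conj_mul (b := u₁), h1.moved h.mem m1, e12, e13, ← conj_mul (b := d), ← conj_mul (b := d),
          ← conj_mul (b := d), h.fix, mv h1 m1, mv h2 m2, mv h3 m3, hF.comm h1.mem h.mem,
          ← mul_assoc c c, hF.sq c h.mem, one_mul, hF.comm h3.mem h.mem, mul_assoc, mul_assoc,
          ← mul_assoc c c, hF.sq c h.mem, one_mul, mul_assoc]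
  have := H.wt_eq (a := δ i) (b := δ i₁ + δ i₂ + δ i₃) (g := g * (d * (u₁ * (u₂ * u₃))) * k⁻¹) (by
    rw [zq_add, zq_add, map_mul, map_mul, ← e1, ← e2, ← e3, conj_mul, conj_mul, ← e5, ← e4]; group)
  rw [wt_add_δ (by simp [(n n13 e1 e3).symm, (n n23 e2 e3).symm]),
    wt_add_δ (by simp [(n n12 e1 e2).symm]), wt_δ, wt_δ] at this
  omega

/-- switching the elementary abelian subgroup -/
theorem switch {β : κ → ZMod 2} {d c : G} (h : TV ((HB β).map Λ) d c) {F' : Subgroup G}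
    (hF' : Mx κ F') (hle : F' ≤ Λ.range) (hc : c ∈ F') {b : G} (hb : b ∈ (HB β).map Λ)
    (hb' : b ∈ F') (hm : d * b * d⁻¹ ≠ b) : ∃ d₀, d⁻¹ * d₀ ∈ C[(HB β).map Λ] ∧ TV F' d₀ c := by
  have hR : IsPGroup 2 (Λ.range ⊓ C1[c] : Subgroup G) := isPGroup_range.to_le inf_le_left
  obtain ⟨Y, a1, a2, -, a3⟩ := (Ind2.of_isPGroup hR (inf_le_left.trans (range_le_N β))).exists_sup
    (H.mx β).sq h.mem fun x hx => mul_inv_eq_iff_eq_mul.mpr (mem_C1.mp hx.2)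
  obtain ⟨g, -, h1, h2⟩ := H.key le_top (H.mx β) le_top le_top a1 hR a2
  obtain ⟨i, e1, y, hy, e2⟩ := h2 d (a3 d h) c h
  have h3 := h1 F' hF' (le_sup_of_le_right fun x hx => ⟨hle hx, mem_C1.mpr (hF'.comm hx hc)⟩)
  refine ⟨_, e2, hc, by rw [conj_eq_of_C e2 h.mem, h.fix], fun x hx => ?_,
    b, hb', by rwa [conj_eq_of_C e2 hb]⟩
  obtain ⟨x', e3⟩ := h3 (conj_mem_conj hx g)
  have : y * x' * y⁻¹ = x' ∨ y * x' * y⁻¹ = x' * zq (δ i) := by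
    rcases hy with rfl | rfl
    exacts [eq'_tv i x', sq'_tv i x']
  have e4 : g⁻¹ * Λ y * g * x * (g⁻¹ * Λ y * g)⁻¹ = g⁻¹ * Λ (y * x' * y⁻¹) * g := by
    rw [map_mul, map_mul, map_inv, e3]; group
  rw [e4]
  refine this.imp (fun e => ?_) fun e => ?_
  · rw [e, e3]; group
  · rw [e, map_mul, e3, ← e1]; group

omit [Finite G] in
theorem tv_eq' {β : κ → ZMod 2} {i : κ} (h : β i = 1) :
    TV ((HB β).map Λ) (Λ (eq' i)) (Λ (zq (δ i))) := by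
  refine ⟨mem_map_of_mem Λ (zq_mem _ _), by rw [← map_inv, ← map_mul, ← map_mul, zq_conj], ?_,
    _, mem_map_of_mem Λ (sq'_mem h), fun e => ?_⟩
  · rintro _ ⟨x, -, rfl⟩
    simp only [← map_inv, ← map_mul]
    exact (eq'_tv i x).imp (congrArg Λ) (congrArg Λ)
  · rw [← map_inv, ← map_mul, ← map_mul, eq'_conj, mul_δ_one (by simp)] at e
    exact zq_δ_ne i (mul_eq_left.mp (H.inj e))

end JH

end Cfsg.Lib.Alt
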