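import Mathlib

/-!
Permutation tools and Carmichael's presentation of the alternating groups.
-/

set_option autoImplicit false

namespace Cfsg.Lib.Alt

open Equiv Subgroup

section Emb

variable {α Ω : Type*} (f : α ↪ Ω)

/-- extension of permutations along an embedding -/
noncomputable abbrev ve : Perm α →* Perm Ω := Perm.viaEmbeddingHom f

theorem ve_apply (g : Perm α) (x : α) : ve f g (f x) = f (g x) := Perm.viaEmbedding_apply g f x

theorem ve_out (g : Perm α) {y : Ω} (hy : ∀ x, f x ≠ y) : ve f g y = y :=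
  Perm.viaEmbedding_apply_of_notMem g f y fun ⟨x, e⟩ => hy x e

theorem ve_inj : Function.Injective (ve f) := Perm.viaEmbeddingHom_injective f

theorem eq_ve {g : Perm α} {h : Perm Ω} (h1 : ∀ x, h (f x) = f (g x))
    (h2 : ∀ y, (∀ x, f x ≠ y) → h y = y) : h = ve f g := Equiv.ext fun y => by
  by_cases hy : ∃ x, f x = y
  · obtain ⟨x, rfl⟩ := hy
    rw [h1, ve_apply]
  · push Not at hy
    rw [h2 y hy, ve_out f g hy]

theorem ve_swap [DecidableEq α] [DecidableEq Ω] (a b : α) : ve f (swap a b) = swap (f a) (f b) :=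
  (eq_ve f (fun x => (f.injective.swap_apply a b x))
    fun _ hy => swap_apply_of_ne_of_ne (hy a).symm (hy b).symm).symm

theorem sign_ve [Fintype α] [Fintype Ω] [DecidableEq α] [DecidableEq Ω] (g : Perm α) :
    Perm.sign (ve f g) = Perm.sign g := by
  induction g using Perm.swap_induction_on with
  | one => simp
  | swap_mul g a b hab ih =>
    rw [map_mul, map_mul, map_mul, ih, ve_swap, Perm.sign_swap hab, Perm.sign_swap (f.injective.ne hab)]

theorem support_ve [Fintype α] [Fintype Ω] [DecidableEq α] [DecidableEq Ω] (g : Perm α) :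
    (ve f g).support = g.support.map f := by
  ext y
  by_cases hy : ∃ x, f x = y
  · obtain ⟨x, rfl⟩ := hy
    simp [ve_apply]
  · push Not at hy
    simp [ve_out f g hy, hy]

theorem exists_restrict [Finite α] {h : Perm Ω} (h1 : ∀ x, ∃ x', h (f x) = f x') :
    ∃ g : Perm α, ∀ x, h (f x) = f (g x) := by
  choose g hg using h1
  have hi : Function.Injective g := fun x y e => f.injective (h.injective (by rw [hg, hg, e]))
  exact ⟨Equiv.ofBijective g (Finite.injective_iff_bijective.mp hi), hg⟩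

theorem exists_ve [Finite α] {h : Perm Ω} (h2 : ∀ y, (∀ x, f x ≠ y) → h y = y) : ∃ g, h = ve f g := by
  obtain ⟨g, hg⟩ := exists_restrict f (h := h) fun x => by
    by_contra hh
    push Not at hh
    exact hh x (h.injective (h2 _ fun x' e => hh x' e.symm))
  exact ⟨g, eq_ve f hg h2⟩

theorem conj_ve {h : Perm Ω} {k : Perm α} (h1 : ∀ x, h (f x) = f (k x)) (g : Perm α) :
    h * ve f g * h⁻¹ = ve f (k * g * k⁻¹) := by
  have h2 : ∀ x, h⁻¹ (f x) = f (k⁻¹ x) := fun x => by
    rw [Perm.inv_eq_iff_eq, h1]; simp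
  refine eq_ve f (fun x => by simp only [Perm.mul_apply, h2, ve_apply, h1]) fun y hy => ?_
  rw [Perm.mul_apply, Perm.mul_apply, ve_out f g fun x e => hy (k x) (by rw [← h1, e]; simp)]
  simp

theorem comm_ve {h : Perm Ω} (h1 : ∀ x, h (f x) = f x) (g : Perm α) : h * ve f g = ve f g * h := by
  rw [← mul_inv_eq_iff_eq_mul, conj_ve f (k := 1) h1]; simp

end Emb

variable {Ω : Type*} [DecidableEq Ω]

theorem eq_one_of_two [Fintype Ω] {r : Perm Ω} (hs : Perm.sign r = 1) (p q : Ω)
    (h : ∀ x, x ≠ p → x ≠ q → r x = x) : r = 1 := by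
  have h1 : r.support.card ≤ 2 := (Finset.card_le_card (t := {p, q}) fun x hx => by
    by_contra hh
    simp only [Finset.mem_insert, Finset.mem_singleton, not_or] at hh
    exact Perm.mem_support.mp hx (h x hh.1 hh.2)).trans Finset.card_le_two
  rcases h1.eq_or_lt with e | e
  · rw [(Perm.card_support_eq_two.mp e).sign_eq] at hs
    exact absurd hs (by decide)
  · exact Perm.card_support_le_one.mp (by omega)

/-- the three-cycles of Carmichael's presentation -/
def c3 (a b c : Ω) : Perm Ω := swap a b * swap a c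

theorem conj_c3 (g : Perm Ω) (a b c : Ω) : g * c3 a b c * g⁻¹ = c3 (g a) (g b) (g c) := by
  rw [c3, c3, swap_apply_apply, swap_apply_apply]; group

theorem ve_c3 {α : Type*} [DecidableEq α] (f : α ↪ Ω) (a b c : α) :
    ve f (c3 a b c) = c3 (f a) (f b) (f c) := by rw [c3, map_mul, ve_swap, ve_swap, c3]

theorem sign_c3 [Fintype Ω] {a b c : Ω} (h1 : a ≠ b) (h2 : a ≠ c) : Perm.sign (c3 a b c) = 1 := by
  simp [c3, h1, h2]

/-- an embedding from a list of distinct points -/
def embOf {n : ℕ} (p : Fin n → Ω) (h : Function.Injective p) : Fin n ↪ Ω := ⟨p, h⟩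

omit [DecidableEq Ω] in
theorem inj3 {a b c : Ω} (h1 : a ≠ b) (h2 : a ≠ c) (h3 : b ≠ c) : Function.Injective ![a, b, c] := by
  intro i j e
  fin_cases i <;> fin_cases j <;> simp_all [eq_comm]

omit [DecidableEq Ω] in
theorem inj4 {a b c d : Ω} (h1 : a ≠ b) (h2 : a ≠ c) (h3 : b ≠ c) (h4 : a ≠ d) (h5 : b ≠ d)
    (h6 : c ≠ d) : Function.Injective ![a, b, c, d] := by
  intro i j e
  fin_cases i <;> fin_cases j <;> simp_all [eq_comm]

theorem c3_cube {a b c : Ω} (h1 : a ≠ b) (h2 : a ≠ c) (h3 : b ≠ c) : c3 a b c ^ 3 = 1 := by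
  have := congrArg (ve (embOf _ (inj3 h1 h2 h3))) (show c3 (0 : Fin 3) 1 2 ^ 3 = 1 by decide)
  rwa [map_pow, ve_c3, (ve _).map_one] at this

theorem c3_swap {a b c : Ω} (h1 : a ≠ b) (h2 : a ≠ c) (h3 : b ≠ c) : c3 b a c = (c3 a b c)⁻¹ := by
  have := congrArg (ve (embOf _ (inj3 h1 h2 h3))) (show c3 (1 : Fin 3) 0 2 = (c3 0 1 2)⁻¹ by decide)
  rwa [map_inv, ve_c3, ve_c3] at this

theorem c3_sq {a b c d : Ω} (h1 : a ≠ b) (h2 : a ≠ c) (h3 : b ≠ c) (h4 : a ≠ d) (h5 : b ≠ d)
    (h6 : c ≠ d) : (c3 a b c * c3 a b d) ^ 2 = 1 := by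
  have := congrArg (ve (embOf _ (inj4 h1 h2 h3 h4 h5 h6)))
    (show (c3 (0 : Fin 4) 1 2 * c3 0 1 3) ^ 2 = 1 by decide)
  rwa [map_pow, map_mul, ve_c3, ve_c3, (ve _).map_one] at this

theorem c3_word {a b c d : Ω} (h1 : a ≠ b) (h2 : a ≠ c) (h3 : b ≠ c) (h4 : a ≠ d) (h5 : b ≠ d)
    (h6 : c ≠ d) : (c3 a b c)⁻¹ * c3 a b d * (c3 a b c)⁻¹ = swap a b * swap c d := by
  have := congrArg (ve (embOf _ (inj4 h1 h2 h3 h4 h5 h6)))
    (show (c3 (0 : Fin 4) 1 2)⁻¹ * c3 0 1 3 * (c3 0 1 2)⁻¹ = swap 0 1 * swap 2 3 by decide)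
  rwa [map_mul, map_mul, map_mul, map_inv, ve_c3, ve_c3, ve_swap, ve_swap] at this

theorem mem_closure_c3 [Fintype Ω] {a b : Ω} (hab : a ≠ b) {K : Subgroup (Perm Ω)}
    (hK : K ≤ alternatingGroup Ω) (h : ∀ c, c ≠ a → c ≠ b → c3 a b c ∈ K) :
    alternatingGroup Ω ≤ K := by
  suffices hh : ∀ K : Subgroup (Perm Ω), K = closure {g | ∃ c, c ≠ a ∧ c ≠ b ∧ g = c3 a b c} →
      ∀ g, g ∈ K ∨ g * swap a b ∈ K by
    intro g hg
    have hle : closure {g | ∃ c, c ≠ a ∧ c ≠ b ∧ g = c3 a b c} ≤ K :=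
      (closure_le _).mpr (by rintro _ ⟨c, h1, h2, rfl⟩; exact h c h1 h2)
    refine hle ((hh _ rfl g).resolve_right fun e => ?_)
    have := Perm.mem_alternatingGroup.mp (hK (hle e))
    rw [map_mul, Perm.mem_alternatingGroup.mp hg, Perm.sign_swap hab] at this
    exact absurd this (by decide)
  clear h hK K
  intro K hK
  have h0 : ∀ c, c ≠ a → c ≠ b → c3 a b c ∈ K := fun c h1 h2 => hK ▸ subset_closure ⟨c, h1, h2, rfl⟩
  have h1 : ∀ g ∈ K, swap a b * g * swap a b ∈ K := fun g hg => by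
    rw [hK] at hg
    induction hg using closure_induction with
    | mem g hg =>
      obtain ⟨c, h1, h2, rfl⟩ := hg
      have := conj_c3 (swap a b) a b c
      rw [swap_inv, swap_apply_left, swap_apply_right, swap_apply_of_ne_of_ne h1 h2,
        c3_swap hab h1.symm h2.symm] at this
      exact this ▸ inv_mem (h0 c h1 h2)
    | one => simp
    | mul x y _ _ hx hy => simpa [mul_assoc] using mul_mem hx hy
    | inv x _ hx => simpa [mul_assoc] using inv_mem hx
  let P : Perm Ω → Prop := fun g => g ∈ K ∨ g * swap a b ∈ K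
  have h2 : ∀ x y, P x → P y → P (x * y) := fun x y hx hy => by
    rcases hx with hx | hx <;> rcases hy with hy | hy
    · exact Or.inl (mul_mem hx hy)
    · exact Or.inr (by simpa [mul_assoc] using mul_mem hx hy)
    · exact Or.inr (by simpa [mul_assoc] using mul_mem hx (h1 _ hy))
    · exact Or.inl (by simpa [mul_assoc] using mul_mem hx (h1 _ hy))
  have h3 : ∀ c, P (swap a c) := fun c => by
    by_cases e : c = a
    · exact Or.inl (by rw [e, swap_self]; exact one_mem K)
    by_cases e' : c = b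
    · exact Or.inr (by simp [e'])
    · exact Or.inr (by simpa [c3] using inv_mem (h0 c e e'))
  intro g
  induction g using Perm.swap_induction_on with
  | one => exact Or.inl (one_mem K)
  | swap_mul g p q hpq ih =>
    refine h2 _ _ ?_ ih
    by_cases e : p = a
    · exact e ▸ h3 q
    by_cases e' : q = a
    · rw [swap_comm]; exact e' ▸ h3 p
    · have := swap_apply_apply (swap a p) a q
      rw [swap_apply_left, swap_apply_of_ne_of_ne e' hpq.symm, swap_inv] at this
      exact this ▸ h2 _ _ (h2 _ _ (h3 p) (h3 q)) (h3 p)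

theorem carmichael_card {Γ ι : Type*} [Group Γ] [Finite Γ] [DecidableEq ι] (y : ι → Γ) (S : Finset ι)
    (h3 : ∀ i ∈ S, y i ^ 3 = 1) (h2 : ∀ i ∈ S, ∀ j ∈ S, i ≠ j → (y i * y j) ^ 2 = 1) :
    Nat.card (closure (y '' S)) * 2 ≤ (S.card + 2).factorial := by
  induction S using Finset.induction_on with
  | empty => simp
  | insert o S ho ih =>
  have ih := ih (fun i hi => h3 i (Finset.mem_insert_of_mem hi))
    fun i hi j hj => h2 i (Finset.mem_insert_of_mem hi) j (Finset.mem_insert_of_mem hj)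
  set U := closure (y '' S) with hU
  have hy : ∀ i ∈ S, y i ∈ U := fun i hi => subset_closure ⟨i, hi, rfl⟩
  have r3 : ∀ i ∈ insert o S, y i * y i = (y i)⁻¹ := fun i hi =>
    eq_inv_of_mul_eq_one_left (by rw [← pow_three', h3 i hi])
  have r2 : ∀ i ∈ insert o S, ∀ j ∈ insert o S, i ≠ j → y i * y j = (y j)⁻¹ * (y i)⁻¹ :=
    fun i hi j hj e => by rw [← mul_inv_rev]; exact eq_inv_of_mul_eq_one_left (by
      rw [← pow_two, h2 i hi j hj e])
  have hoS := Finset.mem_insert_self o S
  let rep : Option (Option (Option S)) → Γ := fun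
    | none => 1
    | some none => y o
    | some (some none) => (y o)⁻¹
    | some (some (some i)) => y o * (y i)⁻¹
  have key : ∀ j ∈ insert o S, ∀ r, ∃ u ∈ U, ∃ r', rep r * y j = u * rep r' := by
    have a : ∀ j ∈ S, (y o)⁻¹ * y j = y j * (y o * (y j)⁻¹) := fun j hj => by
      have hj' := Finset.mem_insert_of_mem (b := o) hj
      rw [← mul_assoc, r2 j hj' o hoS (by rintro rfl; exact ho hj), mul_assoc, ← mul_inv_rev, r3 j hj',
        inv_inv]
    have b : ∀ j ∈ S, y o * y j = (y j)⁻¹ * (y o)⁻¹ := fun j hj =>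
      r2 o hoS j (Finset.mem_insert_of_mem hj) (by rintro rfl; exact ho hj)
    intro j hj r
    rcases Finset.mem_insert.mp hj with rfl | hj'
    · rcases r with _ | _ | _ | i
      · exact ⟨1, one_mem _, some none, by simp [rep]⟩
      · exact ⟨1, one_mem _, some (some none), by simp [rep, r3 j hj]⟩
      · exact ⟨1, one_mem _, none, by simp [rep]⟩
      · refine ⟨y i * y i, mul_mem (hy i i.2) (hy i i.2), some (some (some i)), ?_⟩
        have c := r2 i (Finset.mem_insert_of_mem i.2) j hj (by rintro rfl; exact ho i.2)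
        simp only [rep]
        calc y j * (y i)⁻¹ * y j = (y j * y j) * ((y j)⁻¹ * (y i)⁻¹) * y j := by group
          _ = (y j)⁻¹ * y i * (y j * y j) := by rw [← c, ← mul_assoc _ (y j) (y j), r3 j hj]; group
          _ = y i * (y j * ((y i)⁻¹ * (y j)⁻¹)) := by rw [a i i.2, r3 j hj]; group
          _ = y i * ((y j)⁻¹ * y i) := by rw [← b i i.2, ← r3 j hj]; group
          _ = _ := by rw [a i i.2]; group
    · rcases r with _ | _ | _ | i
      · exact ⟨y j, hy j hj', none, by simp [rep]⟩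
      · exact ⟨_, inv_mem (hy j hj'), some (some none), b j hj'⟩
      · exact ⟨_, hy j hj', some (some (some ⟨j, hj'⟩)), a j hj'⟩
      · by_cases e : (i : ι) = j
        · exact ⟨1, one_mem _, some none, by simp [rep, e]⟩
        have hi := Finset.mem_insert_of_mem (b := o) i.2
        refine ⟨(y j)⁻¹ * y i * (y j)⁻¹ * y i, mul_mem (mul_mem (mul_mem (inv_mem (hy j hj')) (hy i i.2))
          (inv_mem (hy j hj'))) (hy i i.2), some (some (some i)), ?_⟩
        simp only [rep]
        calc y o * (y i)⁻¹ * y j = y o * ((y i)⁻¹ * (y j)⁻¹) * (y j * y j) := by group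
          _ = (y o * y j) * y i * (y j)⁻¹ := by rw [← r2 j hj i hi (Ne.symm e), r3 j hj]; group
          _ = (y j)⁻¹ * ((y o)⁻¹ * y i) * (y j)⁻¹ := by rw [b j hj']; group
          _ = (y j)⁻¹ * y i * y o * ((y i)⁻¹ * (y j)⁻¹) := by rw [a i i.2]; group
          _ = (y j)⁻¹ * y i * (y o * y j) * y i := by rw [← r2 j hj i hi (Ne.symm e)]; group
          _ = (y j)⁻¹ * y i * (y j)⁻¹ * ((y o)⁻¹ * y i) := by rw [b j hj']; group
          _ = _ := by rw [a i i.2]; group
  have cov : ∀ g ∈ closure (y '' (insert o S : Finset ι)), ∃ u ∈ U, ∃ r, g = u * rep r := by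
    intro g hg
    induction hg using closure_induction_right with
    | one => exact ⟨1, one_mem _, none, by simp [rep]⟩
    | mul_right x _ g hg ih =>
      obtain ⟨j, hj, rfl⟩ := hg
      obtain ⟨u, hu, r, rfl⟩ := ih
      obtain ⟨u', hu', r', e⟩ := key j hj r
      exact ⟨u * u', mul_mem hu hu', r', by rw [mul_assoc, e, mul_assoc]⟩
    | mul_inv_cancel x _ g hg ih =>
      obtain ⟨j, hj, rfl⟩ := hg
      obtain ⟨u, hu, r, rfl⟩ := ih
      obtain ⟨u', hu', r', e⟩ := key j hj r
      obtain ⟨u'', hu'', r'', e'⟩ := key j hj r'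
      exact ⟨u * u' * u'', mul_mem (mul_mem hu hu') hu'', r'', by
        rw [← r3 j hj, mul_assoc, ← mul_assoc (rep r), e, mul_assoc u', e']; group⟩
  choose u hu r hr using cov
  have := Nat.card_le_card_of_injective
    (fun g : closure (y '' (insert o S : Finset ι)) => ((⟨u g g.2, hu g g.2⟩ : U), r g g.2))
    fun g g' e => Subtype.ext (by
      rw [hr g g.2, hr g' g'.2, show u g g.2 = u g' g'.2 from congrArg (·.1.1) e,
        show r g g.2 = r g' g'.2 from congrArg (·.2) e])
  rw [Nat.card_prod] at this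
  simp only [Nat.card_eq_fintype_card (α := Option _), Fintype.card_option, Fintype.card_coe] at this
  rw [Finset.card_insert_of_notMem ho, Nat.factorial_succ (S.card + 2)]
  nlinarith

/-- Carmichael's presentation -/
theorem carmichael [Fintype Ω] {G : Type*} [Group G] [Finite G] {a b : Ω} (hab : a ≠ b) (x : Ω → G)
    (h3 : ∀ c, c ≠ a → c ≠ b → x c ^ 3 = 1)
    (h2 : ∀ c d, c ≠ a → c ≠ b → d ≠ a → d ≠ b → c ≠ d → (x c * x d) ^ 2 = 1) :
    ∃ Ψ : alternatingGroup Ω →* G, ∀ c, c ≠ a → c ≠ b → ∀ g : alternatingGroup Ω,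
      (g : Perm Ω) = c3 a b c → Ψ g = x c := by
  have : Nontrivial Ω := ⟨a, b, hab⟩
  let S : Finset Ω := (Finset.univ.erase a).erase b
  have hS : ∀ c, c ∈ S ↔ c ≠ b ∧ c ≠ a := fun c => by simp [S]
  let y : Ω → G × Perm Ω := fun c => (x c, c3 a b c)
  have h := carmichael_card y S (fun c hc => Prod.ext (h3 c ((hS c).mp hc).2 ((hS c).mp hc).1)
    (c3_cube hab ((hS c).mp hc).2.symm ((hS c).mp hc).1.symm))
    fun c hc d hd e => Prod.ext (h2 c d ((hS c).mp hc).2 ((hS c).mp hc).1 ((hS d).mp hd).2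
      ((hS d).mp hd).1 e) (c3_sq hab ((hS c).mp hc).2.symm ((hS c).mp hc).1.symm
        ((hS d).mp hd).2.symm ((hS d).mp hd).1.symm e)
  have hc : S.card + 2 = Fintype.card Ω := by
    have := Fintype.one_lt_card (α := Ω)
    simp only [S]
    rw [Finset.card_erase_of_mem (by simp [hab.symm]), Finset.card_erase_of_mem (by simp),
      Finset.card_univ]
    omega
  set D := closure (y '' S) with hD
  have hle : D.map (MonoidHom.snd _ _) ≤ alternatingGroup Ω := by
    rw [hD, MonoidHom.map_closure, closure_le]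
    rintro _ ⟨_, ⟨c, hc, rfl⟩, rfl⟩
    exact sign_c3 hab ((hS c).mp hc).2.symm
  let ρ : D →* alternatingGroup Ω :=
    ((MonoidHom.snd _ _).comp D.subtype).codRestrict _ fun d => hle ⟨d, d.2, rfl⟩
  have hm : ∀ c, c ≠ a → c ≠ b → y c ∈ D := fun c h1 h2 => subset_closure ⟨c, (hS c).mpr ⟨h2, h1⟩, rfl⟩
  have hρ : Function.Bijective ρ := by
    refine (Function.Surjective.bijective_of_nat_card_le (fun g => ?_) ?_)
    · obtain ⟨d, hd, e⟩ := mem_closure_c3 hab hle (fun c h1 h2 => ⟨_, hm c h1 h2, rfl⟩) g.2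
      exact ⟨⟨d, hd⟩, Subtype.ext e⟩
    · have := two_mul_nat_card_alternatingGroup (α := Ω)
      rw [Nat.card_perm, Nat.card_eq_fintype_card (α := Ω), ← hc] at this
      omega
  refine ⟨((MonoidHom.fst _ _).comp D.subtype).comp (MulEquiv.ofBijective ρ hρ).symm.toMonoidHom,
    fun c h1 h2 g hg => ?_⟩
  have : (MulEquiv.ofBijective ρ hρ).symm g = ⟨_, hm c h1 h2⟩ :=
    (MulEquiv.symm_apply_eq _).mpr (Subtype.ext hg)
  simp [this, y]

end Cfsg.Lib.Alt
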