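import Cfsg.Agent.Lib.Alt.B2
import Cfsg.Agent.Lib.Alt.P1

/-!
The permutation model.
-/

set_option autoImplicit false

namespace Cfsg.Lib.Alt

open Equiv Subgroup Cfsg.Lib.Kondo Cfsg.Lib.FT

/-- the points -/
abbrev Om (κ E : Type) := PI κ × ZMod 2 ⊕ E

variable {κ E : Type}

/-- the elements of the wreath product -/
def wr (c : PI κ → ZMod 2) (σ : Perm (PI κ)) : Perm (Om κ E) :=
  Perm.sumCongr
    { toFun := fun x => (σ x.1, x.2 + c x.1)
      invFun := fun x => (σ⁻¹ x.1, x.2 + c (σ⁻¹ x.1))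
      left_inv := fun x => by simp [add_assoc, z2_add]
      right_inv := fun x => by simp [add_assoc, z2_add] } 1

@[simp] theorem wr_inl (c : PI κ → ZMod 2) (σ : Perm (PI κ)) (p : PI κ) (y : ZMod 2) :
    (wr c σ : Perm (Om κ E)) (.inl (p, y)) = .inl (σ p, y + c p) := rfl

@[simp] theorem wr_inr (c : PI κ → ZMod 2) (σ : Perm (PI κ)) (e : E) :
    (wr c σ : Perm (Om κ E)) (.inr e) = .inr e := rfl

theorem wr_mul (c c' : PI κ → ZMod 2) (σ σ' : Perm (PI κ)) :
    (wr c σ * wr c' σ' : Perm (Om κ E)) = wr (c ∘ σ' + c') (σ * σ') := by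
  ext (⟨p, y⟩ | e)
  · simp [add_assoc, add_comm (c' p)]
  · simp

theorem wr_one : (wr 0 1 : Perm (Om κ E)) = 1 := by ext (⟨p, y⟩ | e) <;> simp

theorem wr_inj {c c' : PI κ → ZMod 2} {σ σ' : Perm (PI κ)}
    (h : (wr c σ : Perm (Om κ E)) = wr c' σ') : c = c' ∧ σ = σ' := by
  have := fun p => Equiv.congr_fun h (.inl (p, 0))
  simp only [wr_inl, zero_add, Sum.inl.injEq, Prod.mk.injEq] at this
  exact ⟨funext fun p => (this p).2, Equiv.ext fun p => (this p).1⟩

/-- flips -/
abbrev bb (v : PI κ → ZMod 2) : Perm (Om κ E) := wr v 1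

/-- permutations of the pairs -/
abbrev pp (σ : Perm (PI κ)) : Perm (Om κ E) := wr 0 σ

theorem bb_add (v v' : PI κ → ZMod 2) : (bb (v + v') : Perm (Om κ E)) = bb v * bb v' := by
  rw [wr_mul]; rfl

theorem bb_sq (v : PI κ → ZMod 2) : (bb v * bb v : Perm (Om κ E)) = 1 := by
  rw [← bb_add, vadd]; exact wr_one

theorem wr_bb (c v : PI κ → ZMod 2) (σ : Perm (PI κ)) :
    (wr c σ * bb v * (wr c σ)⁻¹ : Perm (Om κ E)) = bb (v ∘ ⇑σ⁻¹) := by
  rw [mul_inv_eq_iff_eq_mul, wr_mul, wr_mul]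
  congr 1
  funext p; simp [add_comm]

theorem pp_mul (σ σ' : Perm (PI κ)) : (pp σ * pp σ' : Perm (Om κ E)) = pp (σ * σ') := by
  rw [wr_mul]; rfl

/-- the shift in the blocks -/
def shP (v : κ → ZMod 2) : Perm (PI κ) :=
  Function.Involutive.toPerm (fun p => p.map fun x => (x.1, x.2 + v x.1)) (by
    rintro (_ | p) <;> simp [add_assoc, z2_add])

@[simp] theorem shP_none (v : κ → ZMod 2) : shP v none = none := rfl
@[simp] theorem shP_some (v : κ → ZMod 2) (i : κ) (x : ZMod 2) :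
    shP v (some (i, x)) = some (i, x + v i) := rfl

theorem shP_zero : shP (0 : κ → ZMod 2) = 1 := by ext1 p; rcases p with _ | ⟨i, x⟩ <;> simp

variable [DecidableEq κ]

theorem shP_δ (i : κ) : shP (δ i) = swap (some (i, 0)) (some (i, 1)) := by
  ext1 p
  rcases p with _ | ⟨j, x⟩
  · rw [swap_apply_of_ne_of_ne (by simp) (by simp)]; rfl
  · by_cases h : j = i
    · subst h
      rcases z2_cases x with rfl | rfl <;> simp [z2_add]
    · rw [swap_apply_of_ne_of_ne (by simp [h]) (by simp [h])]; simp [h]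

variable [DecidableEq E]

theorem bb_δ (p : PI κ) : (bb (δ p) : Perm (Om κ E)) = swap (.inl (p, 0)) (.inl (p, 1)) := by
  ext1 x
  rcases x with ⟨q, y⟩ | e
  · by_cases h : q = p
    · subst h
      rcases z2_cases y with rfl | rfl <;> simp [z2_add]
    · rw [swap_apply_of_ne_of_ne (by simp [h]) (by simp [h])]; simp [h]
  · rw [swap_apply_of_ne_of_ne (by simp) (by simp)]; rfl

theorem pp_swap {p q : PI κ} (h : p ≠ q) : (pp (swap p q) : Perm (Om κ E)) =
    swap (.inl (p, 0)) (.inl (q, 0)) * swap (.inl (p, 1)) (.inl (q, 1)) := by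
  ext1 x
  rcases x with ⟨r, y⟩ | e
  · by_cases h1 : r = p
    · subst h1
      rcases z2_cases y with rfl | rfl <;> simp [swap_apply_def, h]
    by_cases h2 : r = q
    · subst h2
      rcases z2_cases y with rfl | rfl <;> simp [swap_apply_def, h1]
    · simp [swap_apply_def, h1, h2]
  · simp [swap_apply_def]

/-- the sign as a function on `ZMod 2` -/
def sg (a : ZMod 2) : ℤˣ := if a = 0 then 1 else -1

theorem sg_add (a b : ZMod 2) : sg (a + b) = sg a * sg b := by revert a b; decide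

theorem sg_eq_one {a : ZMod 2} : sg a = 1 ↔ a = 0 := by revert a; decide

variable [Fintype κ] [Fintype E]

theorem sign_bb (v : PI κ → ZMod 2) : Perm.sign (bb v : Perm (Om κ E)) = sg (∑ p, v p) := by
  induction v using Pi.single_induction with
  | zero => simp [wr_one, sg]
  | add a b ha hb => simp only [bb_add, map_mul, ha, hb, Pi.add_apply, Finset.sum_add_distrib, sg_add]
  | single i m =>
    rcases z2_cases m with rfl | rfl
    · simp [wr_one, sg]
    · rw [bb_δ, Perm.sign_swap (by simp)]; simp [sg]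

theorem sign_pp (σ : Perm (PI κ)) : Perm.sign (pp σ : Perm (Om κ E)) = 1 := by
  induction σ using Perm.swap_induction_on with
  | one => simp [wr_one]
  | swap_mul σ p q h ih => rw [← pp_mul, map_mul, ih, pp_swap h]; simp [h]

theorem sign_wr (c : PI κ → ZMod 2) (σ : Perm (PI κ)) :
    Perm.sign (wr c σ : Perm (Om κ E)) = sg (∑ p, c p) := by
  rw [← sign_bb (E := E), ← one_mul (Perm.sign (bb c)), ← sign_pp (E := E) σ, ← map_mul, wr_mul]
  simp

omit [DecidableEq κ] [DecidableEq E] [Fintype E] in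
/-- the embedding of `J` -/
def jt : HJ κ →* Perm (Om κ E) := MonoidHom.mk' (fun x => wr (vec x.a x.d) (shP x.v)) fun x y => by
  rw [wr_mul]
  congr 1
  · funext p
    rcases p with _ | ⟨i, u⟩
    · simp [Finset.sum_add_distrib]
    · simp; ring
  · ext1 p
    rcases p with _ | ⟨i, u⟩
    · simp
    · simp; ring

omit [DecidableEq κ] [DecidableEq E] [Fintype E] in
theorem jt_apply (x : HJ κ) : (jt x : Perm (Om κ E)) = wr (vec x.a x.d) (shP x.v) := rfl

omit [DecidableEq κ] [DecidableEq E] [Fintype E] in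
theorem jt_bb (a d : κ → ZMod 2) : (jt ⟨a, d, 0⟩ : Perm (Om κ E)) = bb (vec a d) := by
  rw [jt_apply, shP_zero]

omit [DecidableEq E] [Fintype E] in
theorem jt_sq' (i : κ) : (jt (sq' i) : Perm (Om κ E)) = pp (swap (some (i, 0)) (some (i, 1))) := by
  rw [jt_apply, shP_δ]
  congr 1
  funext p
  rcases p with _ | p <;> simp

omit [DecidableEq κ] [DecidableEq E] [Fintype E] in
theorem jt_inj : Function.Injective (jt : HJ κ → Perm (Om κ E)) := fun x y h => by
  obtain ⟨h1, h2⟩ := wr_inj h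
  exact HJ.ext (vec_inj h1).1 (vec_inj h1).2
    (funext fun i => by simpa using Equiv.congr_fun h2 (some (i, 0)))

theorem sign_jt (x : HJ κ) : Perm.sign (jt x : Perm (Om κ E)) = 1 := by
  rw [jt_apply, sign_wr, sg_eq_one]; exact ev_vec _ _

/-- the centraliser of the involution in the alternating group -/
def Hm (E : Type) [DecidableEq E] [Fintype E] (I : κ → ZMod 2) : Subgroup (Perm (Om κ E)) :=
  alternatingGroup _ ⊓ C1[bb (vec I 0)]

theorem mem_Hm {I : κ → ZMod 2} {h : Perm (Om κ E)} :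
    h ∈ Hm E I ↔ Perm.sign h = 1 ∧ h * bb (vec I 0) * h⁻¹ = bb (vec I 0) := by
  rw [mul_inv_eq_iff_eq_mul, ← mem_C1]; rfl

theorem wr_mem {I : κ → ZMod 2} {c : PI κ → ZMod 2} {σ : Perm (PI κ)} (hc : Ev c)
    (hσ : ∀ p, vec I 0 (σ p) = vec I 0 p) : wr c σ ∈ Hm E I :=
  mem_Hm.mpr ⟨by rw [sign_wr, sg_eq_one]; exact hc, by
    rw [wr_bb]; congr 1; funext p; simp [← hσ (σ.symm p)]⟩

theorem bb_mem {I : κ → ZMod 2} {v : PI κ → ZMod 2} (hv : Ev v) : bb v ∈ Hm E I :=
  wr_mem hv fun _ => rfl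

theorem jt_mem (I : κ → ZMod 2) (x : HJ κ) : jt x ∈ Hm E I :=
  wr_mem (ev_vec _ _) (by rintro (_ | ⟨i, u⟩) <;> simp)

theorem pp_swap_mem {I : κ → ZMod 2} {p q : PI κ} (h : vec I 0 p = vec I 0 q) :
    pp (swap p q) ∈ Hm E I :=
  wr_mem ev_zero fun x => by
    rw [swap_apply_def]; split_ifs with h1 h2
    exacts [h1 ▸ h.symm, h2 ▸ h, rfl]

/-- the first point of the extra pair -/
abbrev t0 : Om κ E := .inl (none, 0)

/-- the second point of the extra pair -/
abbrev t1 : Om κ E := .inl (none, 1)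

open Classical in
omit [Fintype κ] [Fintype E] in
/-- the element of order three centralising the blocks -/
noncomputable def w3 (κ E : Type) [DecidableEq κ] [DecidableEq E] : Perm (Om κ E) :=
  if h : Nonempty E then c3 t0 t1 (.inr h.some) else 1

omit [Fintype κ] [Fintype E] in
theorem w3_cases [Subsingleton E] :
    (IsEmpty E ∧ w3 κ E = 1) ∨ ∃ e, w3 κ E = c3 t0 t1 (.inr e) := by
  by_cases h : Nonempty E
  · exact Or.inr ⟨_, dif_pos h⟩
  · exact Or.inl ⟨not_nonempty_iff.mp h, dif_neg h⟩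

omit [Fintype κ] [Fintype E] in
theorem conj_w3 [Subsingleton E] {c : PI κ → ZMod 2} {σ : Perm (PI κ)} (h : σ none = none) :
    wr c σ * w3 κ E * (wr c σ)⁻¹ = if c none = 0 then w3 κ E else (w3 κ E)⁻¹ := by
  rcases w3_cases (κ := κ) (E := E) with ⟨-, e⟩ | ⟨e, he⟩
  · simp [e]
  · rw [he, conj_c3]
    rcases z2_cases (c none) with h1 | h1
    · simp [h, h1]
    · rw [← c3_swap (by simp) (by simp) (by simp)]; simp [h, h1, z2_add]

omit [Fintype κ] [Fintype E] in
theorem w3_cube [Subsingleton E] : w3 κ E ^ 3 = 1 := by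
  rcases w3_cases (κ := κ) (E := E) with ⟨-, e⟩ | ⟨e, he⟩
  · simp [e]
  · rw [he, c3_cube (by simp) (by simp) (by simp)]

theorem w3_mem [Subsingleton E] (I : κ → ZMod 2) : w3 κ E ∈ Hm E I := by
  refine mem_Hm.mpr ⟨?_, ?_⟩
  · rcases w3_cases (κ := κ) (E := E) with ⟨-, e⟩ | ⟨e, he⟩
    · simp [e]
    · rw [he, sign_c3 (by simp) (by simp)]
  · have := conj_w3 (E := E) (c := vec I 0) (σ := 1) rfl
    rw [if_pos (by simp), mul_inv_eq_iff_eq_mul] at this
    rw [← this, mul_inv_cancel_right]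

omit [Fintype κ] [Fintype E] in
theorem w3_some [Subsingleton E] (p : κ × ZMod 2) (y : ZMod 2) :
    w3 κ E (.inl (some p, y)) = .inl (some p, y) := by
  rcases w3_cases (κ := κ) (E := E) with ⟨-, e⟩ | ⟨e, he⟩
  · simp [e]
  · simp [he, c3, swap_apply_def]

theorem eq_w3_pow [Subsingleton E] {r : Perm (Om κ E)} (hs : Perm.sign r = 1)
    (h : ∀ p y, r (.inl (some p, y)) = .inl (some p, y)) : ∃ k : ℕ, r = w3 κ E ^ k := by
  have pts : ∀ x : Om κ E, (∃ p y, x = .inl (some p, y)) ∨ x = t0 ∨ x = t1 ∨ ∃ e, x = .inr e := by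
    rintro (⟨_ | p, y⟩ | e)
    · rcases z2_cases y with rfl | rfl <;> simp
    · simp
    · simp
  rcases w3_cases (κ := κ) (E := E) with ⟨hE, -⟩ | ⟨e, he⟩
  · refine ⟨0, eq_one_of_two hs t0 t1 fun x h1 h2 => ?_⟩
    rcases pts x with ⟨p, y, rfl⟩ | rfl | rfl | ⟨e, rfl⟩
    exacts [h p y, absurd rfl h1, absurd rfl h2, hE.elim e]
  obtain ⟨k, hk⟩ : ∃ k : ℕ, r t0 = (w3 κ E ^ k) t0 := by
    rcases pts (r t0) with ⟨p, y, e1⟩ | e1 | e1 | ⟨e', e1⟩
    · exact absurd (r.injective (e1.trans (h p y).symm)) (by simp)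
    · exact ⟨0, e1⟩
    · exact ⟨2, by simp [e1, he, c3, pow_two, swap_apply_def]⟩
    · exact ⟨1, by simp [e1, he, c3, swap_apply_def, Subsingleton.elim e' e]⟩
  refine ⟨k, (inv_mul_eq_one.mp (eq_one_of_two ?_ t1 (.inr e) fun x h1 h2 => ?_)).symm⟩
  · simp [hs, (mem_Hm.mp (w3_mem (E := E) (0 : κ → ZMod 2))).1]
  · rw [Perm.mul_apply, Perm.inv_eq_iff_eq]
    rcases pts x with ⟨p, y, rfl⟩ | rfl | rfl | ⟨e', rfl⟩
    · rw [h, Perm.pow_apply_eq_self_of_apply_eq_self (w3_some p y)]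
    · exact hk
    · exact absurd rfl h1
    · exact absurd (congrArg _ (Subsingleton.elim _ _)) h2

omit [DecidableEq κ] [DecidableEq E] [Fintype κ] [Fintype E] in
/-- an element commuting with a flip -/
theorem comm_bb {h : Perm (Om κ E)} {v : PI κ → ZMod 2} (e : h * bb v * h⁻¹ = bb v) {p : PI κ}
    (hp : v p = 1) : ∃ q c, v q = 1 ∧ ∀ y, h (.inl (p, y)) = .inl (q, y + c) := by
  rw [mul_inv_eq_iff_eq_mul] at e
  have h1 := Equiv.congr_fun e (.inl (p, 0))
  simp only [Perm.mul_apply, wr_inl, Perm.one_apply, hp, zero_add] at h1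
  rcases hx : h (.inl (p, 0)) with ⟨q, c⟩ | e'
  · rw [hx, wr_inl] at h1
    have hq : v q = 1 := (z2_cases _).resolve_left fun e => by
      simpa using h.injective (h1.trans (by simp [e, hx]) : _ = h (.inl (p, 0)))
    refine ⟨q, c, hq, fun y => ?_⟩
    rcases z2_cases y with rfl | rfl
    · simp [hx]
    · simp [h1, hq, add_comm]
  · rw [hx, wr_inr, ← hx] at h1
    simpa using h.injective h1

theorem cz_model [Subsingleton E] {h : Perm (Om κ E)} (hs : Perm.sign h = 1)
    (e : ∀ i, h * jt (zq (δ i)) * h⁻¹ = jt (zq (δ i))) : ∃ x, ∃ k : ℕ, h = jt x * w3 κ E ^ k := by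
  have h1 : ∀ i u, ∃ u' c, ∀ y, h (.inl (some (i, u), y)) = .inl (some (i, u'), y + c) := fun i u => by
    obtain ⟨q, c, h1, h2⟩ := comm_bb (p := some (i, u)) (v := vec (δ i) 0)
      (jt_bb (E := E) (δ i) 0 ▸ e i) (by simp)
    rcases q with _ | ⟨j, u'⟩
    · simp at h1
    · obtain rfl : j = i := by
        by_contra hh
        simp [hh] at h1
      exact ⟨u', c, h2⟩
  choose u c h1 using h1
  have h2 : ∀ i, u i 1 = 1 + u i 0 := fun i => by
    have : u i 1 ≠ u i 0 := fun e => by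
      have := h.injective ((h1 i 1 (c i 0)).trans ((h1 i 0 (c i 1)).trans (by rw [e, add_comm])).symm)
      simp at this
    revert this
    generalize u i 1 = a
    generalize u i 0 = b
    revert a b; decide
  let x : HJ κ := ⟨fun i => c i 0, fun i => c i 0 + c i 1, fun i => u i 0⟩
  obtain ⟨k, hk⟩ := eq_w3_pow (r := (jt x)⁻¹ * h) (by simp [hs, sign_jt]) fun p y => by
    obtain ⟨i, a⟩ := p
    rw [Perm.mul_apply, Perm.inv_eq_iff_eq, h1, jt_apply]
    rcases z2_cases a with rfl | rfl <;> simp [x, h2, ← add_assoc, z2_add]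
  exact ⟨x, k, by rw [← hk, mul_inv_cancel_left]⟩

omit [Fintype κ] [Fintype E] [DecidableEq E] in
/-- the transposition inside a block -/
def tr (i : κ) : Perm (Om κ E) :=
  Function.Involutive.toPerm (fun
    | .inl (some (j, u), y) => if j = i then .inl (some (j, y), u) else .inl (some (j, u), y)
    | x => x) (by
    rintro (⟨_ | ⟨j, u⟩, y⟩ | e)
    · rfl
    · by_cases h : j = i <;> simp [h]
    · rfl)

omit [Fintype κ] [Fintype E] [DecidableEq E] in
theorem tr_some (i j : κ) (u y : ZMod 2) : (tr i : Perm (Om κ E)) (.inl (some (j, u), y)) =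
    if j = i then .inl (some (j, y), u) else .inl (some (j, u), y) := rfl

omit [Fintype κ] [Fintype E] in
theorem tr_eq (i : κ) :
    (tr i : Perm (Om κ E)) = swap (.inl (some (i, 0), 1)) (.inl (some (i, 1), 0)) := by
  ext1 x
  rcases x with ⟨_ | ⟨j, u⟩, y⟩ | e
  · rw [swap_apply_of_ne_of_ne (by simp) (by simp)]; rfl
  · rw [tr_some]
    by_cases h : j = i
    · subst h
      rcases z2_cases u with rfl | rfl <;> rcases z2_cases y with rfl | rfl <;> simp [swap_apply_def]
    · rw [swap_apply_of_ne_of_ne (by simp [h]) (by simp [h]), if_neg h]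
  · rw [swap_apply_of_ne_of_ne (by simp) (by simp)]; rfl

omit [Fintype E] [DecidableEq E] in
theorem rr_conj (i : κ) {x : HJ κ} (hx : x.d i = 0) :
    (tr i * bb (δ none) * jt x * (tr i * bb (δ none))⁻¹ : Perm (Om κ E)) =
      jt ⟨Function.update x.a i (x.v i), x.d, Function.update x.v i (x.a i)⟩ := by
  rw [mul_inv_eq_iff_eq_mul]
  ext1 p
  rcases p with ⟨_ | ⟨j, u⟩, y⟩ | e
  · change Sum.inl (none, y + _ + _) = Sum.inl (none, y + _ + _)
    rw [add_right_comm]; rfl
  · by_cases h : j = i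
    · subst h
      simp [jt_apply, tr_some, hx]
    · simp [jt_apply, tr_some, h]
  · rfl

theorem rr_mem {I : κ → ZMod 2} {i : κ} (hi : I i = 0) : tr i * bb (δ none) ∈ Hm E I := by
  refine mem_Hm.mpr ⟨by rw [map_mul, tr_eq, bb_δ]; simp, ?_⟩
  rw [← jt_bb, rr_conj i rfl]
  congr 2
  · rw [Function.update_eq_self_iff]; exact hi.symm
  · rw [Function.update_eq_self_iff]; exact hi

end Cfsg.Lib.Alt
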