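import Cfsg.Agent.Lib.Alt.M1

/-!
Transport of the model to the group, characters and twists.
-/

set_option autoImplicit false

namespace Cfsg.Lib.Alt

open Equiv Subgroup Cfsg.Lib.Kondo Cfsg.Lib.FT

variable {κ E : Type} [DecidableEq κ] [DecidableEq E] [Fintype κ] [Fintype E] {G : Type*} [Group G]

/-- wreath data on the support of the involution -/
structure WD (I : κ → ZMod 2) (h : Perm (Om κ E)) (c : PI κ → ZMod 2) (σ : Perm (PI κ)) : Prop where
  side : ∀ p, vec I 0 (σ p) = vec I 0 p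
  out : ∀ p, vec I 0 p = 0 → σ p = p ∧ c p = 0
  act : ∀ p y, vec I 0 p = 1 → h (.inl (p, y)) = .inl (σ p, y + c p)

omit [DecidableEq κ] [DecidableEq E] [Fintype E] in
theorem WD.mul {I : κ → ZMod 2} {h h' : Perm (Om κ E)} {c c' : PI κ → ZMod 2} {σ σ' : Perm (PI κ)}
    (a : WD I h c σ) (b : WD I h' c' σ') : WD I (h * h') (c ∘ σ' + c') (σ * σ') :=
  ⟨fun p => by rw [Perm.mul_apply, a.side, b.side],
    fun p hp => by simp [(b.out p hp).1, (b.out p hp).2, a.out p hp],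
    fun p y hp => by
      rw [Perm.mul_apply, b.act p y hp, a.act _ _ ((b.side p).trans hp)]
      simp [add_assoc, add_comm (c' p)]⟩

omit [DecidableEq κ] [DecidableEq E] [Fintype E] in
theorem WD.unique {I : κ → ZMod 2} {h : Perm (Om κ E)} {c c' : PI κ → ZMod 2} {σ σ' : Perm (PI κ)}
    (a : WD I h c σ) (b : WD I h c' σ') : c = c' ∧ σ = σ' := by
  rw [funext_iff, Equiv.ext_iff, ← forall_and]
  intro p
  rcases z2_cases (vec I 0 p) with e | e
  · simp [a.out p e, b.out p e]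
  · simpa [and_comm] using (a.act p 0 e).symm.trans (b.act p 0 e)

theorem exists_wd {I : κ → ZMod 2} {h : Perm (Om κ E)} (hh : h ∈ Hm E I) : ∃ c σ, WD I h c σ := by
  have h1 : ∀ p, ∃ q c, vec I 0 q = vec I 0 p ∧ (vec I 0 p = 0 → q = p ∧ c = 0) ∧
      (vec I 0 p = 1 → ∀ y, h (.inl (p, y)) = .inl (q, y + c)) := fun p => by
    rcases z2_cases (vec I 0 p) with e | e
    · exact ⟨p, 0, rfl, by simp, by simp [e]⟩
    · obtain ⟨q, c, h1, h2⟩ := comm_bb (mem_Hm.mp hh).2 e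
      exact ⟨q, c, h1.trans e.symm, by simp [e], fun _ => h2⟩
  choose q c h1 h2 h3 using h1
  have hi : Function.Injective q := fun p p' e => by
    have e1 : vec I 0 p = vec I 0 p' := by rw [← h1, e, h1]
    rcases z2_cases (vec I 0 p) with e2 | e2
    · rw [← (h2 p e2).1, e, (h2 p' (e1 ▸ e2)).1]
    · have := h.injective ((h3 p e2 (c p')).trans
        ((h3 p' (e1 ▸ e2) (c p)).trans (by rw [e, add_comm])).symm)
      exact congrArg Prod.fst (Sum.inl_injective this)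
  exact ⟨c, Equiv.ofBijective q (Finite.injective_iff_bijective.mp hi), h1, h2, fun p y hp => h3 p hp y⟩

omit [DecidableEq κ] [DecidableEq E] [Fintype E] in
theorem wd_bb (I : κ → ZMod 2) (v : PI κ → ZMod 2) :
    WD I (bb v : Perm (Om κ E)) (vec I 0 * v) 1 :=
  ⟨fun _ => rfl, fun p hp => by simp [hp], fun p y hp => by simp [hp]⟩

theorem exists_char (I : κ → ZMod 2) (f : (PI κ → ZMod 2) → Perm (PI κ) → ZMod 2)
    (hf : ∀ c σ c' (σ' : Perm (PI κ)), f (c ∘ σ' + c') (σ * σ') = f c σ + f c' σ') :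
    ∃ χ : Perm (Om κ E) → ZMod 2, (∀ x ∈ Hm E I, ∀ y ∈ Hm E I, χ (x * y) = χ x + χ y) ∧
      ∀ h c σ, WD I h c σ → χ h = f c σ := by
  classical
  have key : ∀ h : Perm (Om κ E), ∃ a, ∀ c σ, WD I h c σ → a = f c σ := fun h => by
    by_cases hh : ∃ c σ, WD I h c σ
    · obtain ⟨c, σ, a⟩ := hh
      exact ⟨f c σ, fun c' σ' b => by rw [(a.unique b).1, (a.unique b).2]⟩
    · exact ⟨0, fun c σ a => absurd ⟨c, σ, a⟩ hh⟩
  choose χ hχ using key
  refine ⟨χ, fun x hx y hy => ?_, hχ⟩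
  obtain ⟨c, σ, a⟩ := exists_wd hx
  obtain ⟨c', σ', b⟩ := exists_wd hy
  rw [hχ _ _ _ (a.mul b), hχ _ _ _ a, hχ _ _ _ b, hf]

theorem exists_eps (I : κ → ZMod 2) :
    ∃ χ : Perm (Om κ E) → ZMod 2, (∀ x ∈ Hm E I, ∀ y ∈ Hm E I, χ (x * y) = χ x + χ y) ∧
      ∀ v, χ (bb v) = ∑ p, (vec I 0 * v) p := by
  obtain ⟨χ, h1, h2⟩ := exists_char (E := E) I (fun c _ => ∑ p, c p) fun c σ c' σ' => by
    simp only [Pi.add_apply, Finset.sum_add_distrib, Function.comp_apply, Equiv.sum_comp σ' c]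
  exact ⟨χ, h1, fun v => h2 _ _ _ (wd_bb I v)⟩

theorem exists_sig :
    ∃ χ : Perm (Om κ E) → ZMod 2, (∀ x ∈ Hm E 1, ∀ y ∈ Hm E 1, χ (x * y) = χ x + χ y) ∧
      (∀ v, χ (bb v) = 0) ∧ ∀ i, χ (jt (sq' i)) = 1 := by
  obtain ⟨χ, h1, h2⟩ := exists_char (E := E) (1 : κ → ZMod 2)
    (fun _ σ => if Perm.sign σ = 1 then 0 else 1) fun c σ c' σ' => by
      rw [map_mul]
      generalize Perm.sign σ = a
      generalize Perm.sign σ' = b
      revert a b; decide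
  refine ⟨χ, h1, fun v => by simpa using h2 _ _ _ (wd_bb 1 v), fun i => ?_⟩
  rw [h2 _ 0 (shP (δ i)) ⟨?_, ?_, ?_⟩, shP_δ]
  · simp
  all_goals rintro (_ | ⟨j, u⟩) <;> simp [jt_apply]

/-- the isomorphism with the centraliser in the alternating group -/
structure Mod (I : κ → ZMod 2) (z : G) (φ : Perm (Om κ E) → G) : Prop where
  mul : ∀ x ∈ Hm E I, ∀ y ∈ Hm E I, φ (x * y) = φ x * φ y
  inj : ∀ x ∈ Hm E I, ∀ y ∈ Hm E I, φ x = φ y → x = y
  surj : ∀ g, g * z * g⁻¹ = z → ∃ x ∈ Hm E I, φ x = g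
  zt : φ (bb (vec I 0)) = z

omit [DecidableEq κ] in
theorem Ev.eq_vec {v : PI κ → ZMod 2} (hv : Ev v) :
    v = vec (fun i => v (some (i, 0))) fun i => v (some (i, 0)) + v (some (i, 1)) := by
  obtain ⟨a, d, rfl⟩ := hv.exists_vec
  simp [← add_assoc, z2_add]

omit [DecidableEq E] [Fintype E] in
theorem pp_conj {p q : PI κ} (c : PI κ → ZMod 2) {τ : Perm (PI κ)} (h1 : τ p = p) (h2 : τ q = q) :
    (pp (swap p q) * wr c τ * (pp (swap p q))⁻¹ : Perm (Om κ E)) =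
      wr c τ * bb ((c p + c q) • (δ p + δ q)) := by
  rw [mul_inv_eq_iff_eq_mul, wr_mul, wr_mul, wr_mul, Perm.coe_one, Function.comp_id, ← comp_swap,
    mul_one, mul_swap_eq_swap_mul, h1, h2]
  congr 1
  funext x; simp

namespace Mod

variable {I : κ → ZMod 2} {z : G} {φ : Perm (Om κ E) → G} (M : Mod I z φ)
include M

theorem one : φ 1 = 1 := by simpa using M.mul 1 (one_mem _) 1 (one_mem _)

theorem inv {x : Perm (Om κ E)} (hx : x ∈ Hm E I) : φ x⁻¹ = (φ x)⁻¹ :=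
  eq_inv_of_mul_eq_one_left (by rw [← M.mul _ (inv_mem hx) _ hx, inv_mul_cancel, M.one])

theorem conj {x y : Perm (Om κ E)} (hx : x ∈ Hm E I) (hy : y ∈ Hm E I) :
    φ x * φ y * (φ x)⁻¹ = φ (x * y * x⁻¹) := by
  rw [M.mul _ (mul_mem hx hy) _ (inv_mem hx), M.mul _ hx _ hy, M.inv hx]

theorem pow {x : Perm (Om κ E)} (hx : x ∈ Hm E I) (k : ℕ) : φ (x ^ k) = φ x ^ k := by
  induction k with
  | zero => simpa using M.one
  | succ k ih => rw [pow_succ, M.mul _ (pow_mem hx k) _ hx, ih, pow_succ]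

theorem fix {x : Perm (Om κ E)} (hx : x ∈ Hm E I) : φ x * z * (φ x)⁻¹ = z := by
  rw [← M.zt, M.conj hx (bb_mem (ev_vec I 0)), (mem_Hm.mp hx).2]

theorem mem_C1 {x : Perm (Om κ E)} (hx : x ∈ Hm E I) : φ x ∈ C1[z] :=
  FT.mem_C1.mpr (mul_inv_eq_iff_eq_mul.mp (M.fix hx))

/-- the embedding of `J` -/
def lam : HJ κ →* G :=
  MonoidHom.mk' (fun x => φ (jt x)) fun x y => by rw [map_mul, M.mul _ (jt_mem I x) _ (jt_mem I y)]

theorem lam_apply (x : HJ κ) : M.lam x = φ (jt x) := rfl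

theorem lam_bb (a d : κ → ZMod 2) : M.lam ⟨a, d, 0⟩ = φ (bb (vec a d)) := by rw [lam_apply, jt_bb]

theorem lam_z : M.lam (zq I) = z := by rw [lam_bb, M.zt]

theorem range_le : M.lam.range ≤ C1[z] := by rintro _ ⟨x, rfl⟩; exact M.mem_C1 (jt_mem I x)

theorem bs : BS fun v => φ (bb v) :=
  ⟨fun v v' hv hv' => by rw [bb_add, M.mul _ (bb_mem hv) _ (bb_mem hv')],
    fun v v' hv hv' e => (wr_inj (M.inj _ (bb_mem hv) _ (bb_mem hv') e)).1⟩

theorem acts {c : PI κ → ZMod 2} {σ : Perm (PI κ)} (h : wr c σ ∈ Hm E I) :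
    Acts (fun v => φ (bb v)) (φ (wr c σ)) σ := fun v hv => by
  rw [M.conj h (bb_mem hv), wr_bb]

theorem sw : SW (fun v => φ (bb v)) I := fun _ _ _ h => ⟨_, M.acts (pp_swap_mem h)⟩

theorem bb_mem_HB {β : κ → ZMod 2} {v : PI κ → ZMod 2} (hv : Ev v)
    (h : ∀ i, β i = 1 → v (some (i, 0)) = v (some (i, 1))) : φ (bb v) ∈ (HB β).map M.lam :=
  ⟨⟨fun i => v (some (i, 0)), fun i => v (some (i, 0)) + v (some (i, 1)), 0⟩,
    mem_HB.mpr fun i => ⟨fun e => by simp only [h i e, z2_add], fun _ => rfl⟩,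
    by rw [lam_bb, ← hv.eq_vec]⟩

theorem grp_eq : M.bs.grp = (HB 0).map M.lam := by
  refine le_antisymm ?_ ?_
  · rintro _ ⟨v, hv, rfl⟩
    exact M.bb_mem_HB hv (by simp)
  · rintro _ ⟨⟨a, d, v⟩, hx, rfl⟩
    obtain rfl : v = 0 := mem_HB_zero.mp hx
    exact ⟨_, ev_vec a d, (M.lam_bb a d).symm⟩

theorem jh [Subsingleton E] : JH M.lam (φ (w3 κ E)) := by
  refine ⟨fun x y e => jt_inj (M.inj _ (jt_mem I x) _ (jt_mem I y) e),
    by rw [← M.pow (w3_mem I), w3_cube, M.one], fun x => ?_, fun g hg => ?_⟩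
  · rw [lam_apply, M.conj (jt_mem I x) (w3_mem I), jt_apply, conj_w3 rfl, vec_none]
    split_ifs
    exacts [rfl, M.inv (w3_mem I)]
  · have h1 : ∀ a, g * M.lam (zq a) * g⁻¹ = M.lam (zq a) := fun a => by
      induction a using Pi.single_induction with
      | zero => simp [zq_zero]
      | add a b ha hb => rw [zq_add, map_mul, ← conj_mul, ha, hb]
      | single i m =>
        rcases z2_cases m with rfl | rfl
        · simp [zq_zero]
        · exact hg i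
    obtain ⟨h, hh, rfl⟩ := M.surj g (M.lam_z ▸ h1 I)
    obtain ⟨x, k, rfl⟩ := cz_model (mem_Hm.mp hh).1 fun i =>
      M.inj _ (mul_mem (mul_mem hh (jt_mem I _)) (inv_mem hh)) _ (jt_mem I _)
        ((M.conj hh (jt_mem I _)).symm.trans (hg i))
    exact ⟨x, k, by rw [M.mul _ (jt_mem I x) _ (pow_mem (w3_mem I) k), M.pow (w3_mem I)]; rfl⟩

theorem exists_char {χ : Perm (Om κ E) → ZMod 2}
    (hχ : ∀ x ∈ Hm E I, ∀ y ∈ Hm E I, χ (x * y) = χ x + χ y) : ∃ χ' : G → ZMod 2,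
      (∀ x ∈ C1[z], ∀ y ∈ C1[z], χ' (x * y) = χ' x + χ' y) ∧ ∀ x ∈ Hm E I, χ' (φ x) = χ x := by
  have key : ∀ g : G, ∃ a, ∀ x ∈ Hm E I, φ x = g → a = χ x := fun g => by
    by_cases hh : ∃ x ∈ Hm E I, φ x = g
    · obtain ⟨x, hx, rfl⟩ := hh
      exact ⟨χ x, fun y hy e => by rw [M.inj y hy x hx e]⟩
    · exact ⟨0, fun x hx e => absurd ⟨x, hx, e⟩ hh⟩
  choose χ' h using key
  refine ⟨χ', fun x' hx' y' hy' => ?_, fun x hx => h _ x hx rfl⟩
  obtain ⟨x, hx, rfl⟩ := M.surj x' (mul_inv_eq_iff_eq_mul.mpr (FT.mem_C1.mp hx'))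
  obtain ⟨y, hy, rfl⟩ := M.surj y' (mul_inv_eq_iff_eq_mul.mpr (FT.mem_C1.mp hy'))
  rw [h _ _ (mul_mem hx hy) (M.mul _ hx _ hy), h _ x hx rfl, h _ y hy rfl, hχ x hx y hy]

theorem comp {α : Perm (Om κ E) → Perm (Om κ E)} (h1 : ∀ x ∈ Hm E I, α x ∈ Hm E I)
    (h2 : ∀ x ∈ Hm E I, ∀ y ∈ Hm E I, α (x * y) = α x * α y)
    (h3 : ∀ x ∈ Hm E I, ∀ y ∈ Hm E I, α x = α y → x = y) (h4 : α (bb (vec I 0)) = bb (vec I 0)) :
    Mod I z (φ ∘ α) := by
  refine ⟨fun x hx y hy => ?_, fun x hx y hy e => h3 x hx y hy (M.inj _ (h1 x hx) _ (h1 y hy) e),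
    fun g hg => ?_, by rw [Function.comp_apply, h4, M.zt]⟩
  · simp only [Function.comp_apply, h2 x hx y hy, M.mul _ (h1 x hx) _ (h1 y hy)]
  · obtain ⟨x, hx, rfl⟩ := M.surj g hg
    obtain ⟨y, hy⟩ := Finite.surjective_of_injective (f := fun x : Hm E I => (⟨α x, h1 x x.2⟩ : Hm E I))
      (fun x y e => Subtype.ext (h3 x x.2 y y.2 (congrArg Subtype.val e))) ⟨x, hx⟩
    exact ⟨y, y.2, congrArg φ (congrArg Subtype.val hy)⟩

theorem twist {χ : Perm (Om κ E) → ZMod 2}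
    (hχ : ∀ x ∈ Hm E I, ∀ y ∈ Hm E I, χ (x * y) = χ x + χ y) (h0 : χ (bb (vec I 0)) = 0) :
    Mod I z (φ ∘ fun x => x * bb (χ x • vec I 0)) := by
  have e0 : χ 1 = 0 := by simpa using hχ 1 (one_mem _) 1 (one_mem _)
  have e1 : ∀ a : ZMod 2, χ (bb (a • vec I 0)) = 0 := fun a => by
    rcases z2_cases a with rfl | rfl
    · rw [zero_smul, bb, wr_one, e0]
    · rwa [one_smul]
  have e2 : ∀ (a : ZMod 2), ∀ y ∈ Hm E I, bb (a • vec I 0) * y = y * bb (a • vec I 0) := fun a y hy => by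
    rcases z2_cases a with rfl | rfl
    · rw [zero_smul, bb, wr_one, one_mul, mul_one]
    · rw [one_smul, ← mul_inv_eq_iff_eq_mul.mp (mem_Hm.mp hy).2]
  have e3 := fun a : ZMod 2 => bb_mem (E := E) (I := I) ((ev_vec I 0).smul a)
  refine M.comp (fun x hx => mul_mem hx (e3 _)) (fun x hx y hy => ?_) (fun x hx y hy e => ?_)
    (by rw [h0, zero_smul, bb, bb, wr_one, mul_one])
  · rw [hχ x hx y hy, add_smul, bb_add, mul_assoc, mul_assoc, ← mul_assoc y, ← e2 _ y hy, mul_assoc]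
  · have := congrArg χ e
    rw [hχ _ hx _ (e3 _), hχ _ hy _ (e3 _), e1, e1, add_left_inj] at this
    simpa [this] using e

theorem pp_tv {β : κ → ZMod 2} {p q : PI κ} (h : vec I 0 p = vec I 0 q)
    (hp : ∀ i x, p = some (i, x) → β i = 0) (hq : ∀ i x, q = some (i, x) → β i = 0)
    (a : κ → ZMod 2) (ha : vec a 0 p ≠ vec a 0 q) :
    TV ((HB β).map M.lam) (φ (pp (swap p q))) (φ (bb (δ p + δ q))) := by
  have hpq : p ≠ q := fun e => ha (by rw [e])
  have a1 := M.acts (pp_swap_mem (E := E) h)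
  refine ⟨M.bb_mem_HB (ev_δ p q) fun i hi => ?_, a1.fix (ev_δ p q) (by simp [hpq, hpq.symm]), ?_,
    _, mem_map_of_mem _ (zq_mem a β), by rw [lam_bb]; exact M.bs.moves a1 hpq (ev_vec a 0) ha⟩
  · have n : ∀ {p : PI κ}, (∀ i x, p = some (i, x) → β i = 0) → ∀ x, some (i, x) ≠ p :=
      fun h x e => by simp [h i x e.symm] at hi
    simp [n hp, n hq]
  · rintro _ ⟨x, hx, rfl⟩
    have n : ∀ {p : PI κ}, (∀ i x, p = some (i, x) → β i = 0) → shP x.v p = p := by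
      rintro (_ | ⟨i, u⟩) h
      · rfl
      · simp [(mem_HB.mp hx i).2 (h i u rfl)]
    rw [lam_apply, M.conj (pp_swap_mem h) (jt_mem I x), jt_apply, pp_conj _ (n hp) (n hq), ← jt_apply]
    rcases z2_cases (vec x.a x.d p + vec x.a x.d q) with e | e <;> rw [e]
    · exact Or.inl (by rw [zero_smul, bb, wr_one, mul_one])
    · exact Or.inr (by rw [one_smul, M.mul _ (jt_mem I x) _ (bb_mem (ev_δ p q))])

theorem rr_act {i : κ} (hi : I i = 0) {x : HJ κ} (hx : x.d i = 0) :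
    φ (tr i * bb (δ none)) * M.lam x * (φ (tr i * bb (δ none)))⁻¹ =
      M.lam (x * ⟨(x.a i + x.v i) • δ i, 0, (x.a i + x.v i) • δ i⟩) := by
  rw [lam_apply, M.conj (rr_mem hi) (jt_mem I x), rr_conj i hx, lam_apply]
  congr 2
  ext j
  · by_cases h : j = i <;> simp [h, hx, ← add_assoc, z2_add]
  · simp
  · by_cases h : j = i <;> simp [h, add_comm (x.a i), ← add_assoc, z2_add]

theorem rr_tv [Subsingleton E] {β : κ → ZMod 2} {i : κ} (hi : I i = 0) (hβ : β i = 1) :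
    TV ((HB β).map M.lam) (φ (tr i * bb (δ none))) (M.lam ⟨δ i, 0, δ i⟩) := by
  refine ⟨mem_map_of_mem _ (mem_HB.mpr fun j => ⟨fun _ => rfl, fun e =>
    Pi.single_eq_of_ne (by rintro rfl; simp [hβ] at e) _⟩), ?_, ?_, _,
    mem_map_of_mem _ (zq_mem (δ i) β), fun e => ?_⟩
  · rw [M.rr_act hi rfl]; simp [z2_add, show (⟨0, 0, 0⟩ : HJ κ) = 1 from rfl]
  · rintro _ ⟨x, hx, rfl⟩
    rw [M.rr_act hi ((mem_HB.mp hx i).1 hβ)]
    rcases z2_cases (x.a i + x.v i) with e | e <;> simp [e, show (⟨0, 0, 0⟩ : HJ κ) = 1 from rfl]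
  · rw [M.rr_act hi rfl] at e
    simpa using congrFun (congrArg HJ.v (M.jh.inj e)) i

variable [Subsingleton E] [Finite G]

theorem N_range_le (hB : N[(HB 0).map M.lam] ≤ C1[z]) : N[M.lam.range] ≤ C1[z] := fun g hg => by
  obtain ⟨π, hπ⟩ := M.jh.zz_conj hg
  obtain ⟨β, e⟩ := M.jh.eq_HB ((M.jh.mx 0).conj g)
    (map_conj_le_of_mem_normalizer (map_le_range _ _) hg)
  have h1 : N[(HB β).map M.lam] ≤ C1[M.lam (zq (I ∘ ⇑π⁻¹))] := by
    rw [← e, ← hπ, M.lam_z, normalizer_map_conj, ← conj_centralizer_singleton]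
    exact map_mono hB
  have h2 : ∀ i, (I ∘ ⇑π⁻¹) i = 1 → I i = 1 := fun i hi => (z2_cases _).resolve_left fun hI => by
    rcases z2_cases (β i) with h | h
    · have := FT.mem_C1.mp (h1 (M.pp_tv (β := β) (p := some (i, 0)) (q := none) (by simp [hI])
        (by simp [h]) (by simp) (δ i) (by simp)).mem_N)
      rw [← mul_inv_eq_iff_eq_mul, lam_bb] at this
      exact M.bs.moves (M.acts (pp_swap_mem (p := some (i, 0)) (q := none) (by simp [hI])))
        (by simp) (ev_vec _ 0) (by simpa using hi.trans_ne one_ne_zero) this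
    · have := FT.mem_C1.mp (h1 (M.rr_tv hI h).mem_N)
      rw [← mul_inv_eq_iff_eq_mul, M.rr_act hI rfl] at this
      have := congrFun (congrArg HJ.v (M.jh.inj this)) i
      simp only [HJ.mul_v, Pi.add_apply, Pi.zero_apply, hi] at this
      simp at this
  have h3 : I ∘ ⇑π⁻¹ = I := by
    have := Finset.eq_of_subset_of_card_le (s := Finset.univ.filter fun i => (I ∘ ⇑π⁻¹) i = 1)
      (t := Finset.univ.filter fun i => I i = 1) (fun i => by simpa using h2 i) (wt_comp I π⁻¹).ge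
    funext i
    have := Finset.ext_iff.mp this i
    simp only [Finset.mem_filter, Finset.mem_univ, true_and] at this
    revert this
    generalize (I ∘ ⇑π⁻¹) i = a
    generalize I i = b
    revert a b; decide
  rw [FT.mem_C1, ← mul_inv_eq_iff_eq_mul, ← M.lam_z, hπ, h3]

theorem not_N_le (hG : ∀ N : Subgroup G, N.index ≠ 2) {i : κ} (hi : I i = 1) :
    ¬ N[M.bs.grp] ≤ C1[z] := fun h => by
  rw [M.grp_eq] at h
  obtain ⟨χ, h1, h2⟩ := exists_eps (E := E) I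
  obtain ⟨χ', h3, h4⟩ := M.exists_char h1
  refine M.jh.thompson hG (M.N_range_le h) χ' h3 (eq'_mem (i := i) rfl) ?_ h
  rw [lam_apply, h4 _ (jt_mem I _), jt_bb, h2, vec_δ']
  simpa [hi] using sum_mul_δδ (vec I 0) (some (i, 1)) none

end Mod

end Cfsg.Lib.Alt
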