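import Cfsg.Agent.Lib.Alt.M2
import Cfsg.Agent.Lib.Alt.Outer

/-!
The normaliser of `B` induces the full symmetric group.
-/

set_option autoImplicit false

namespace Cfsg.Lib.Alt

open Equiv Subgroup Cfsg.Lib.Kondo Cfsg.Lib.FT

variable {κ E : Type} [DecidableEq κ] [DecidableEq E] [Fintype κ] [Fintype E] {G : Type*} [Group G]

theorem Ev.induction {ι : Type} [Fintype ι] [DecidableEq ι] (o : ι) {P : (ι → ZMod 2) → Prop}
    (h0 : P 0) (h1 : ∀ x, P (δ x + δ o)) (h2 : ∀ v v', Ev v → Ev v' → P v → P v' → P (v + v'))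
    {v : ι → ZMod 2} (hv : Ev v) : P v := by
  have key : ∀ s : Finset ι, Ev (∑ p ∈ s, v p • (δ p + δ o)) ∧ P (∑ p ∈ s, v p • (δ p + δ o)) :=
    fun s => by
      induction s using Finset.induction_on with
      | empty => exact ⟨ev_zero, h0⟩
      | insert a s ha ih =>
        rw [Finset.sum_insert ha]
        refine ⟨((ev_δ a o).smul _).add ih.1, h2 _ _ ((ev_δ a o).smul _) ih.1 ?_ ih.2⟩
        rcases z2_cases (v a) with e | e <;> simp [e, h0, h1]
  have e : ∑ p, v p • (δ p + δ o) = v := by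
    simp only [smul_add, Finset.sum_add_distrib, ← Finset.sum_smul, show ∑ p, v p = 0 from hv,
      zero_smul, add_zero]
    funext x
    simp [Finset.sum_apply, Pi.single_apply]
  exact e ▸ (key Finset.univ).2

namespace JH

variable {Λ : HJ κ →* G} {w : G} (H : JH Λ w)
include H

theorem tv_sq' {β : κ → ZMod 2} {i : κ} (h : β i = 0) :
    TV ((HB β).map Λ) (Λ (sq' i)) (Λ (zq (δ i))) := by
  refine ⟨mem_map_of_mem Λ (zq_mem _ _), by rw [← map_inv, ← map_mul, ← map_mul, zq_conj], ?_,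
    _, mem_map_of_mem Λ (eq'_mem h), fun e => ?_⟩
  · rintro _ ⟨x, -, rfl⟩
    simp only [← map_inv, ← map_mul]
    exact (sq'_tv i x).imp (congrArg Λ) (congrArg Λ)
  · rw [← map_inv, ← map_mul, ← map_mul, sq'_conj, mul_δ_one (by simp)] at e
    exact zq_δ_ne i (mul_eq_left.mp (H.inj e))

theorem pow_cases (k : ℕ) : w ^ k = 1 ∨ w ^ k = w ∨ w ^ k = w⁻¹ := by
  rw [pow_eq_pow_mod k H.w3]
  have : k % 3 = 0 ∨ k % 3 = 1 ∨ k % 3 = 2 := by omega
  rcases this with e | e | e <;> rw [e]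
  · simp
  · simp
  · exact Or.inr (Or.inr (eq_inv_of_mul_eq_one_left (by rw [← pow_succ, H.w3])))

theorem three_mem [Finite G] {g : G} (h3 : g ^ 3 = 1)
    (h : ∀ i, g * Λ (zq (δ i)) * g⁻¹ = Λ (zq (δ i))) : g = 1 ∨ g = w ∨ g = w⁻¹ := by
  obtain ⟨x, k, rfl⟩ := H.cz g h
  have h1 : Λ x ∈ N[zpowers w] := mem_normalizer_fintype (by
    rintro _ ⟨m, rfl⟩
    simp only [← conj_zpow, H.wconj]
    split_ifs
    exacts [zpow_mem_zpowers w m, zpow_mem (inv_mem (mem_zpowers w)) m])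
  obtain ⟨m, hm⟩ := inv_mem (pow_mul_mem h1 (pow_mem (mem_zpowers w) k) 3)
  simp only [h3, mul_one, inv_inv] at hm
  have h4 : Λ x ^ 2 ^ 2 = 1 := by rw [← map_pow, show 2 ^ 2 = 4 from rfl, x.pow_four, map_one]
  have h5 := eq_one_of_two_three (x := Λ x ^ 3) (k := 2) (by rw [← pow_mul, mul_comm, pow_mul, h4, one_pow])
    (by rw [← hm, ← zpow_natCast, zpow_comm, zpow_natCast, H.w3, one_zpow])
  rw [eq_one_of_two_three h4 h5, one_mul]
  exact H.pow_cases k

theorem fix_zq {g : G} (hg : ∀ i, g * Λ (zq (δ i)) * g⁻¹ = Λ (zq (δ i))) (a : κ → ZMod 2) :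
    g * Λ (zq a) * g⁻¹ = Λ (zq a) := by
  induction a using Pi.single_induction with
  | zero => simp [zq_zero]
  | add a b ha hb => rw [zq_add, map_mul, ← conj_mul, ha, hb]
  | single i m =>
    rcases z2_cases m with rfl | rfl
    · simp [zq_zero]
    · exact hg i

theorem comm_w {x : HJ κ} (h : ∑ i, x.d i = 0) : Λ x * w = w * Λ x := by
  rw [← mul_inv_eq_iff_eq_mul, H.wconj, if_pos h]

theorem eq_one_of_comm {x : HJ κ} (h : ∑ i, x.d i = 1) (e : Λ x * w = w * Λ x) : w = 1 := by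
  rw [← mul_inv_eq_iff_eq_mul, H.wconj, if_neg (by simp [h])] at e
  exact eq_one_of_two_three (k := 1) (by rw [pow_one, pow_two]; nth_rw 1 [← e]; simp) H.w3

end JH

omit [Fintype κ] [Fintype E] in
/-- the six points of a block and the extra pair -/
def f6 (E : Type) (k : κ) : Fin 6 ↪ Om κ E :=
  ⟨![.inl (some (k, 0), 0), .inl (some (k, 0), 1), .inl (some (k, 1), 0), .inl (some (k, 1), 1),
    t0, t1], by
      intro i j e
      fin_cases i <;> fin_cases j <;> simp_all⟩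

omit [Fintype κ] [Fintype E] in
theorem ve_f6 (k : κ) : ve (f6 E k) (swap 0 1) = bb (δ (some (k, 0))) ∧
    ve (f6 E k) (swap 2 3) = bb (δ (some (k, 1))) ∧ ve (f6 E k) (swap 4 5) = bb (δ none) ∧
    ve (f6 E k) (swap 0 2 * swap 1 3) = pp (swap (some (k, 0)) (some (k, 1))) := by
  rw [map_mul, ve_swap, ve_swap, ve_swap, ve_swap, ve_swap, bb_δ, bb_δ, bb_δ, pp_swap (by simp)]
  exact ⟨rfl, rfl, rfl, rfl⟩

omit [Fintype κ] [Fintype E] [DecidableEq κ] [DecidableEq E] in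
theorem bb_f6 {k : κ} {v : PI κ → ZMod 2} (h0 : v none = 0) (h1 : ∀ u, v (some (k, u)) = 0)
    (x : Fin 6) : bb v (f6 E k x) = f6 E k x := by
  have : ∀ p y, v p = 0 → (bb v : Perm (Om κ E)) (.inl (p, y)) = .inl (p, y) := fun p y h => by
    simp [h]
  fin_cases x
  exacts [this _ _ (h1 0), this _ _ (h1 0), this _ _ (h1 1), this _ _ (h1 1), this _ _ h0, this _ _ h0]

theorem exists_twist {I : κ → ZMod 2} {k : κ} (hk : I k = 0) :
    ∃ (α : Perm (Om κ E) → Perm (Om κ E)) (S : Subgroup (Perm (Om κ E))), S ≤ Hm E I ∧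
      (∀ x ∈ Hm E I, (∀ a, ∃ b, x (f6 E k a) = f6 E k b) → x ∈ S) ∧ (∀ x ∈ S, α x ∈ S) ∧
      (∀ x ∈ S, ∀ y ∈ S, α (x * y) = α x * α y) ∧ (∀ x ∈ S, ∀ y ∈ S, α x = α y → x = y) ∧
      (∀ v : PI κ → ZMod 2, v none = 0 → (∀ u, v (some (k, u)) = 0) → α (bb v) = bb v ∧
        α (bb (v + δ none)) = bb (v + δ (some (k, 0)) + δ (some (k, 1)) + δ none)) ∧
      α (bb (δ (some (k, 0)) + δ none)) = jt (sq' k) ∧
      α (bb (δ (some (k, 1)) + δ none)) = jt (sq' k * zq (δ k)) := by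
  obtain ⟨ω, h1, h2, h3, h4, h5⟩ := exists_outer
  set f := f6 E k with hf
  have key : ∀ h : Perm (Om κ E), ∃ h', ∀ h₁ g, (∀ x, h₁ (f x) = f x) → h = h₁ * ve f g →
      h' = h₁ * ve f (ω g) := fun h => by
    by_cases hh : ∃ h₁ g, (∀ x, h₁ (f x) = f x) ∧ h = h₁ * ve f g
    · obtain ⟨h₁, g, a, rfl⟩ := hh
      refine ⟨h₁ * ve f (ω g), fun h₂ g' b e => ?_⟩
      obtain rfl : g = g' := Equiv.ext fun x => f.injective (by
        simpa [ve_apply, a, b] using Equiv.congr_fun e (f x))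
      rw [mul_right_cancel e]
    · exact ⟨h, fun h₁ g a e => absurd ⟨h₁, g, a, e⟩ hh⟩
  choose α hα using key
  have hz : ∀ x, bb (vec I 0) (f x) = f x := bb_f6 (by simp) (by simp [hk])
  have hv : ∀ g, Perm.sign g = 1 → ve f g ∈ Hm E I := fun g hg =>
    mem_Hm.mpr ⟨by rw [sign_ve, hg], by rw [← comm_ve f hz, mul_inv_cancel_right]⟩
  let S : Subgroup (Perm (Om κ E)) :=
    { carrier := {x | x ∈ Hm E I ∧ ∃ h₁ g, (∀ x, h₁ (f x) = f x) ∧ x = h₁ * ve f g}
      one_mem' := ⟨one_mem _, 1, 1, fun _ => rfl, by simp⟩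
      mul_mem' := by
        rintro _ _ ⟨hx, h₁, g, a, rfl⟩ ⟨hy, h₂, g', b, rfl⟩
        exact ⟨mul_mem hx hy, h₁ * h₂, g * g', fun x => by simp [a, b], by
          rw [map_mul, mul_assoc, mul_assoc, ← mul_assoc (ve f g), ← comm_ve f b, mul_assoc]⟩
      inv_mem' := by
        rintro _ ⟨hx, h₁, g, a, rfl⟩
        exact ⟨inv_mem hx, h₁⁻¹, g⁻¹, fun x => by rw [Perm.inv_eq_iff_eq, a], by
          rw [comm_ve f a, mul_inv_rev, map_inv]⟩ }
  obtain ⟨e1, e2, e3, e4⟩ := ve_f6 (E := E) k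
  refine ⟨α, S, fun _ h => h.1, fun x hx h => ?_, ?_, ?_, ?_, fun v v0 v1 => ⟨?_, ?_⟩, ?_, ?_⟩
  · obtain ⟨g, hg⟩ := exists_restrict f h
    refine ⟨hx, x * (ve f g)⁻¹, g, fun a => ?_, by simp⟩
    rw [← map_inv, Perm.mul_apply, ve_apply, hg]; simp
  · rintro _ ⟨hx, h₁, g, a, rfl⟩
    rw [hα _ h₁ g a rfl]
    refine ⟨?_, h₁, _, a, rfl⟩
    have := mul_mem hx (hv (g⁻¹ * ω g) (by simp [h2]))
    rwa [mul_assoc, ← map_mul, mul_inv_cancel_left] at this
  · rintro _ ⟨-, h₁, g, a, rfl⟩ _ ⟨-, h₂, g', b, rfl⟩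
    rw [hα _ h₁ g a rfl, hα _ h₂ g' b rfl, hα _ (h₁ * h₂) (g * g') (fun x => by simp [a, b]) (by
      rw [map_mul, mul_assoc, mul_assoc, ← mul_assoc (ve f g), ← comm_ve f b, mul_assoc]),
      map_mul, map_mul, mul_assoc, mul_assoc, ← mul_assoc (ve f _) h₂, ← comm_ve f b, mul_assoc]
  · rintro _ ⟨-, h₁, g, a, rfl⟩ _ ⟨-, h₂, g', b, rfl⟩ e
    rw [hα _ h₁ g a rfl, hα _ h₂ g' b rfl] at e
    obtain rfl : g = g' := h1 (Equiv.ext fun x => f.injective (by
      simpa [ve_apply, a, b] using Equiv.congr_fun e (f x)))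
    rw [mul_right_cancel e]
  · simpa using hα _ (bb v) 1 (bb_f6 v0 v1) (by simp)
  · rw [hα _ (bb v) _ (bb_f6 v0 v1) (by rw [bb_add, e3]), h3, map_mul, map_mul, e1, e2, e3, bb_add,
      bb_add, bb_add, mul_assoc, mul_assoc, mul_assoc]
  · rw [hα _ 1 _ (fun _ => rfl) (by rw [bb_add, ← e1, ← e3, ← map_mul, one_mul]), h4, e4, jt_sq',
      one_mul]
  · rw [hα _ 1 _ (fun _ => rfl) (by rw [bb_add, ← e2, ← e3, ← map_mul, one_mul]), h5, map_mul, e4,
      map_mul, map_mul, jt_sq', one_mul, jt_bb, vec_δ, bb_add, e1, e2]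

namespace Mod

variable {I : κ → ZMod 2} {z : G} {φ : Perm (Om κ E) → G} (M : Mod I z φ) [Subsingleton E]
  [Finite G] {i₀ : κ} (hI : I i₀ = 1) {d : G} {c : PI κ → ZMod 2} (hc : Ev c)
  (hd : TV M.bs.grp d (φ (bb c))) (hm : d * z * d⁻¹ ≠ z) {i : κ} {u : ZMod 2}
  (hp : vec I 0 * c = δ (some (i, u))) (hq : ∀ x, vec I 0 x = 0 → c x = 1)
include M hI hc hd hm hp hq

omit hI in
theorem two_blocks {k k' : κ} (hk : I k = 0) (hk' : I k' = 0) : k = k' := by
  by_contra hne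
  have hi : I i = 1 ∧ c (some (i, u)) = 1 := by
    have := congrFun hp (some (i, u))
    simp only [Pi.mul_apply, vec_some, Pi.zero_apply, mul_zero, add_zero, Pi.single_eq_same] at this
    revert this
    generalize I i = a
    generalize c (some (i, u)) = b
    revert a b; decide
  have hi' : c (some (i, u + 1)) = 0 := by simpa [hi.1] using congrFun hp (some (i, u + 1))
  have n1 : i ≠ k := by rintro rfl; simp [hk] at hi
  have n2 : i ≠ k' := by rintro rfl; simp [hk'] at hi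
  rw [M.grp_eq] at hd
  obtain ⟨d₀, -, h1⟩ := M.jh.switch hd (M.jh.mx (δ k + δ k')) (map_le_range _ _)
    (M.bb_mem_HB hc fun j hj => by
      have : I j = 0 := by
        by_contra hh
        simp [show j ≠ k by rintro rfl; exact hh hk, show j ≠ k' by rintro rfl; exact hh hk'] at hj
      rw [hq _ (by simpa), hq _ (by simpa)])
    (mem_map_of_mem _ (zq_mem I _)) (mem_map_of_mem _ (zq_mem I _)) (by rwa [M.lam_z])
  rw [hc.eq_vec, ← M.lam_bb] at h1
  have a : ∀ j, I j = 0 → c (some (j, 0)) = 1 ∧ c (some (j, 1)) = 1 := fun j hj =>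
    ⟨hq _ (by simpa), hq _ (by simpa)⟩
  have o : (⟨0, 0, 0⟩ : HJ κ) = 1 := rfl
  refine M.jh.three (M.jh.mx _) h1 (M.rr_tv hk (by simp [hne])) (M.rr_tv hk' (by simp [Ne.symm hne]))
    (M.jh.tv_sq' (i := i) (by simp [n1, n2])) (by rw [M.rr_act hk rfl]; simp [hne, o])
    (by rw [M.rr_act hk rfl]; simp [n1.symm, o]) (by rw [M.rr_act hk' rfl]; simp [n2.symm, o])
    (fun e => hne (δ_inj (congrArg HJ.a (M.jh.inj e))))
    (fun e => δ_ne _ (congrArg HJ.v (M.jh.inj e))) (fun e => δ_ne _ (congrArg HJ.v (M.jh.inj e)))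
    (fun e => ?_) (fun e => ?_) fun e => ?_
  · rw [M.rr_act hk (by simp [a k hk, z2_add])] at e
    simpa [a k hk] using congrFun (congrArg HJ.v (M.jh.inj e)) k
  · rw [M.rr_act hk' (by simp [a k' hk', z2_add])] at e
    simpa [a k' hk'] using congrFun (congrArg HJ.v (M.jh.inj e)) k'
  · rw [← map_inv, ← map_mul, ← map_mul, sq'_conj] at e
    have := congrFun (congrArg HJ.a (M.jh.inj e)) i
    rcases z2_cases u with rfl | rfl <;> simp_all [z2_add]

theorem one_block {k : κ} (hk : I k = 0) :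
    ∃ φ' : Perm (Om κ E) → G, Mod I z φ' ∧ SN fun v => φ' (bb v) := by
  have h0 : ∀ j, I j = 0 → j = k := fun j hj => M.two_blocks hc hd hm hp hq hj hk
  obtain ⟨α, S, s1, s2, s3, s4, s5, s6, s7, s8⟩ := exists_twist (E := E) hk
  have hw : ∀ c σ, wr c σ ∈ Hm E I → wr c σ ∈ S := fun c σ h => s2 _ h fun a => by
    obtain ⟨c', σ', h1⟩ := exists_wd h
    have h2 : ∀ p y, vec I 0 p = 0 → ∃ b, Sum.inl (σ p, y) = f6 E k b := fun p y hp => by
      have h3 : vec I 0 (σ p) = 0 := (z2_cases _).resolve_right fun e => by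
        have := Equiv.congr_fun (mul_inv_eq_iff_eq_mul.mp (mem_Hm.mp h).2) (.inl (p, 0))
        simp [hp, e] at this
      rcases hσ : σ p with _ | ⟨j, a⟩
      · rcases z2_cases y with rfl | rfl
        exacts [⟨4, rfl⟩, ⟨5, rfl⟩]
      · obtain rfl := h0 j (by simpa [hσ] using h3)
        rcases z2_cases a with rfl | rfl <;> rcases z2_cases y with rfl | rfl
        exacts [⟨0, rfl⟩, ⟨1, rfl⟩, ⟨2, rfl⟩, ⟨3, rfl⟩]
    fin_cases a <;> exact h2 _ _ (by simp [hk])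
  have hb : ∀ v, Ev v → bb v ∈ S := fun v hv => hw _ _ (bb_mem hv)
  have ha : ∀ v v', Ev v → Ev v' → φ (α (bb (v + v'))) = φ (α (bb v)) * φ (α (bb v')) :=
    fun v v' hv hv' => by
      rw [bb_add, s4 _ (hb v hv) _ (hb v' hv'), M.mul _ (s1 (s3 _ (hb v hv))) _ (s1 (s3 _ (hb v' hv')))]
  have B : BS fun v => φ (α (bb v)) := ⟨ha, fun v v' hv hv' e => (wr_inj (s5 _ (hb v hv) _ (hb v' hv')
    (M.inj _ (s1 (s3 _ (hb v hv))) _ (s1 (s3 _ (hb v' hv'))) e))).1⟩
  have sw' : SW (fun v => φ (α (bb v))) I := fun p q _ h => ⟨φ (α (pp (swap p q))), fun v hv => by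
    have h1 := hw _ _ (pp_swap_mem (E := E) h)
    rw [mul_inv_eq_iff_eq_mul, ← M.mul _ (s1 (s3 _ h1)) _ (s1 (s3 _ (hb v hv))), ← s4 _ h1 _ (hb v hv),
      ← M.mul _ (s1 (s3 _ (hb _ (hv.comp _)))) _ (s1 (s3 _ h1)), ← s4 _ (hb _ (hv.comp _)) _ h1,
      ← wr_bb, inv_mul_cancel_right]⟩
  have hi : I i = 1 := (z2_cases _).resolve_left fun e => by simpa [e] using congrFun hp (some (i, u))
  have n1 : i ≠ k := by rintro rfl; simp [hk] at hi
  have ez : φ (α (bb (vec I 0))) = z := by rw [(s6 _ (by simp) (by simp [hk])).1, M.zt]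
  have ec : φ (α (bb (δ (some (i, u)) + δ none))) = φ (bb c) := by
    rw [(s6 _ (by simp) (by simp [n1.symm])).2]
    congr 2
    funext x
    rcases z2_cases (vec I 0 x) with e | e
    · rw [hq x e]
      rcases x with _ | ⟨j, a⟩
      · simp
      · obtain rfl := h0 j (by simpa using e)
        rcases z2_cases a with rfl | rfl <;> simp [n1.symm]
    · have := congrFun hp x
      rw [Pi.mul_apply, e, one_mul] at this
      rcases x with _ | ⟨j, a⟩
      · simp at e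
      · simp [this, show j ≠ k by rintro rfl; simp [hk] at e]
  have hle : B.grp ≤ M.lam.range := by
    rintro _ ⟨v, hv, rfl⟩
    refine hv.induction none (P := fun v => φ (α (bb v)) ∈ M.lam.range) (B.zero ▸ one_mem _)
      (fun x => ?_) fun v v' hv hv' a b => ha v v' hv hv' ▸ mul_mem a b
    rcases x with _ | ⟨j, a⟩
    · rw [vadd]; exact B.zero ▸ one_mem _
    by_cases e : j = k
    · subst e
      rcases z2_cases a with rfl | rfl
      exacts [⟨_, by rw [s7]; rfl⟩, ⟨_, by rw [s8]; rfl⟩]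
    · rw [(s6 _ (by simp) (by simp [Ne.symm e])).2, add_assoc (_ + _)]
      exact map_le_range _ _ (M.grp_eq.le (M.bs.mem ((ev_δ _ _).add (ev_δ _ _))))
  have hd' := hd
  rw [M.grp_eq] at hd'
  obtain ⟨d₀, -, h1⟩ := M.jh.switch hd' B.mx hle (ec ▸ B.mem (ev_δ _ _)) (b := z)
    ⟨_, zq_mem I _, M.lam_z⟩ (ez ▸ B.mem (ev_vec I 0)) hm
  have sn' : SN fun v => φ (α (bb v)) :=
    B.sn sw' hI M.jh (p := some (i, u)) (q := none) (by simpa) (by simp) (by rwa [ec])
  rcases w3_cases (κ := κ) (E := E) with ⟨hE, -⟩ | ⟨e, he⟩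
  · have hS : ∀ x ∈ Hm E I, x ∈ S := fun x hx => s2 x hx fun a => by
      have h2 : bb (vec I 0) (x (f6 E k a)) = x (f6 E k a) := by
        rw [← Perm.mul_apply, ← mul_inv_eq_iff_eq_mul.mp (mem_Hm.mp hx).2, Perm.mul_apply,
          bb_f6 (by simp) (by simp [hk])]
      revert h2
      rcases x (f6 E k a) with ⟨_ | ⟨j, b⟩, y⟩ | e
      · rcases z2_cases y with rfl | rfl
        exacts [fun _ => ⟨4, rfl⟩, fun _ => ⟨5, rfl⟩]
      · intro h2
        obtain rfl := h0 j (by simpa using h2)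
        rcases z2_cases b with rfl | rfl <;> rcases z2_cases y with rfl | rfl
        exacts [⟨0, rfl⟩, ⟨1, rfl⟩, ⟨2, rfl⟩, ⟨3, rfl⟩]
      · exact hE.elim e
    exact ⟨φ ∘ α, M.comp (fun x hx => s1 (s3 x (hS x hx))) (fun x hx y hy => s4 x (hS x hx) y (hS y hy))
      (fun x hx y hy => s5 x (hS x hx) y (hS y hy)) (s6 _ (by simp) (by simp [hk])).1, sn'⟩
  exfalso
  have ek : ∀ j, φ (α (bb (vec (δ j) 0))) = M.lam (zq (δ j)) := fun j => by
    by_cases e : j = k
    · subst e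
      have : vec (δ j) 0 = (δ (some (j, 0)) + δ none) + (δ (some (j, 1)) + δ none) := by
        rw [vec_δ, add_add_add_comm, vadd, add_zero]
      rw [this, ha _ _ (ev_δ _ _) (ev_δ _ _), s7, s8, ← M.lam_apply, ← M.lam_apply, ← map_mul]
      congr 1
      ext <;> simp [z2_add]
    · rw [(s6 _ (by simp) (by simp [Ne.symm e])).1, lam_bb]
  obtain ⟨g, hg⟩ := sn' (swap (some (i, u)) (some (k, 0)) * swap (some (i, u + 1)) (some (k, 1)))
  have hw3 := M.jh.three_mem (g := g * φ (w3 κ E) * g⁻¹) (by rw [conj_pow, M.jh.w3]; simp) fun j => by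
    obtain ⟨l, hl⟩ : ∃ l, g * M.lam (zq (δ l)) * g⁻¹ = M.lam (zq (δ j)) := by
      refine ⟨swap i k j, ?_⟩
      rw [← ek, ← ek, vec_δ, hg.δδ, vec_δ]
      congr 3
      by_cases e : j = i
      · subst e
        rcases z2_cases u with rfl | rfl <;> simp [swap_apply_def, n1, n1.symm, z2_add, add_comm]
      by_cases e' : j = k
      · subst e'
        rcases z2_cases u with rfl | rfl <;> simp [swap_apply_def, n1, n1.symm, z2_add, add_comm]
      · simp [swap_apply_def, e, e']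
    rw [← hl, conj_conj_eq (by rw [← M.jh.comm_w (by simp), mul_inv_cancel_right])]
  have h2 : g * M.lam (sq' k) * g⁻¹ = φ (bb c) := by
    rw [lam_apply, ← s7, hg.δδ, ← ec]
    simp [swap_apply_def, n1.symm]
  have h3 := conj_conj_eq (g := g) (mul_inv_eq_iff_eq_mul.mpr (M.jh.comm_w (x := sq' k) (by simp)))
  have h4 : φ (w3 κ E) ≠ 1 := fun e' => by
    have := Equiv.congr_fun (M.inj _ (w3_mem I) _ (one_mem _) (e'.trans M.one.symm)) t0
    simp [he, c3, swap_apply_def] at this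
  rw [h2, hc.eq_vec, ← M.lam_bb] at h3
  refine h4 (M.jh.eq_one_of_comm (x := ⟨fun i => c (some (i, 0)),
    fun i => c (some (i, 0)) + c (some (i, 1)), 0⟩) ((congrFun hc.eq_vec none).symm.trans
    (hq _ (by simp))) ?_)
  rcases hw3 with e' | e' | e'
  · exact absurd (by simpa using e') h4
  · rwa [e', mul_inv_eq_iff_eq_mul] at h3
  · rw [e', mul_inv_eq_iff_eq_mul] at h3
    exact (Commute.inv_right_iff.mp h3).eq

omit hq in
theorem sn_of_shape : ∃ φ' : Perm (Om κ E) → G, Mod I z φ' ∧ SN fun v => φ' (bb v) := by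
  have key : ∀ q, (1 + vec I 0) * c = δ q → SN fun v => φ (bb v) := fun q hq => by
    have e : c = δ (some (i, u)) + δ q := by rw [← hp, ← hq, add_mul, add_left_comm, vadd]; simp
    have m : ∀ a b : ZMod 2, (a * b = 1 → a = 1) ∧ ((1 + a) * b = 1 → a = 0) := by decide
    exact M.bs.sn M.sw hI M.jh ((m _ _).1 ((congrFun hp _).trans (Pi.single_eq_same _ _)))
      ((m _ _).2 ((congrFun hq _).trans (Pi.single_eq_same _ _))) (e ▸ hd)
  rcases (M.bs.shape M.sw hI M.jh hc hd (by rwa [M.zt])).2 with ⟨q, hq⟩ | hq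
  · exact ⟨φ, M, key q hq⟩
  have hq' : ∀ x, vec I 0 x = 0 → c x = 1 := fun x hx => by
    have := congrFun hq x
    simp only [Pi.mul_apply, Pi.add_apply, Pi.one_apply, hx, add_zero, one_mul, Pi.zero_apply] at this
    linear_combination this - z2_add 1
  by_cases h : ∃ k, I k = 0
  · obtain ⟨k, hk⟩ := h
    exact M.one_block hI hc hd hm hp hq' hk
  · refine ⟨φ, M, key none (funext ?_)⟩
    rintro (_ | ⟨j, a⟩)
    · simp [hq']
    · simp [(z2_cases (I j)).resolve_left fun e => h ⟨j, e⟩, z2_add]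

omit hc hd hm hp hq in
theorem exists_sn (hG : ∀ N : Subgroup G, N.index ≠ 2) :
    ∃ φ' : Perm (Om κ E) → G, Mod I z φ' ∧ SN fun v => φ' (bb v) := by
  obtain ⟨d, c, hc, hd, hm⟩ := M.bs.exists_tv M.sw hI (by rw [M.zt]; exact M.not_N_le hG hI)
  obtain ⟨p, hp⟩ := (M.bs.shape M.sw hI M.jh hc hd hm).1
  rw [M.zt] at hm
  rcases p with _ | ⟨i, u⟩
  · rcases hp with hp | hp <;> simpa using congrFun hp none
  rcases hp with hp | hp
  · exact M.sn_of_shape hI hc hd hm hp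
  obtain ⟨χ, h1, h2⟩ := exists_eps (E := E) I
  have e0 : vec I 0 * vec I 0 = vec I 0 := funext fun x => by
    rcases z2_cases (vec I 0 x) with e | e <;> simp [e]
  have M' := M.twist h1 (by rw [h2, e0]; exact ev_vec I 0)
  have e1 : M'.bs.grp = M.bs.grp := eq_of_le_of_card_ge (by
    rintro _ ⟨v, hv, rfl⟩
    exact ⟨_, hv.add ((ev_vec I 0).smul _), congrArg φ (bb_add _ _)⟩) (by rw [M.bs.mx.card, M'.bs.mx.card])
  have e2 : vec I 0 * (c + vec I 0) = δ (some (i, u)) := by rw [← hp, mul_add, mul_add, e0]; ring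
  refine M'.sn_of_shape hI (hc.add (ev_vec I 0)) (d := d) ?_ hm e2
  rw [e1, Function.comp_apply, h2, e2, ← bb_add]
  simpa [add_assoc, vadd] using hd

end Mod

end Cfsg.Lib.Alt
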