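import Cfsg.Agent.Lib.Alt.D5
import Cfsg.Agent.Lib.Alt.F3

/-!
Recognition of the alternating groups from the centraliser of an involution.
-/

set_option autoImplicit false

namespace Cfsg.Lib.Alt

open Equiv Subgroup Cfsg.Lib.Kondo Cfsg.Lib.FT

variable {κ E : Type} [DecidableEq κ] [DecidableEq E] [Fintype κ] [Fintype E] {G : Type*} [Group G]
  {I : κ → ZMod 2} {z : G} [Subsingleton E]

theorem Mod.centre {φ : Perm (Om κ E) → G} (M : Mod I z φ) (l : κ) {g : G}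
    (hg : ∀ x ∈ Hm E I, g * φ x * g⁻¹ = φ x) : g = 1 ∨ g = z := by
  obtain ⟨⟨a, d, v⟩, rfl, h⟩ := M.eq_lam (g := g) (l := l) (fun i => hg _ (jt_mem I _)) (hg _ (jt_mem I _))
  obtain rfl : v = 0 := funext fun j => h j (hg _ (jt_mem I _))
  obtain rfl : d = 0 := funext fun j => by
    have : M.lam _ * M.lam (sq' j) * _ = M.lam (sq' j) := hg _ (jt_mem I _)
    rw [← map_inv, ← map_mul, ← map_mul, conj_sq'] at this
    simpa [mul_zq] using congrFun (congrArg HJ.a (M.jh.inj this)) j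
  rw [M.lam_bb] at hg ⊢
  refine (const_of_side (I := I) (ev_vec a 0) fun p q e => by_contra fun hne => ?_).imp
    (fun e => by rw [e, bb, wr_one, M.one]) fun e => by rw [e, M.zt]
  refine M.bs.moves (M.acts (pp_swap_mem e)) (fun e => hne (by rw [e])) (ev_vec a 0) hne ?_
  rw [mul_inv_eq_iff_eq_mul, ← mul_inv_eq_iff_eq_mul.mp (hg _ (pp_swap_mem e))]

theorem Mod.transport {G₀ : Type*} [Group G₀] {z₀ : G₀} {φ₀ : Perm (Om κ E) → G₀} (M : Mod I z₀ φ₀)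
    (l : κ) (hz : z ≠ 1) (e : C1[z] ≃* C1[z₀]) : ∃ φ : Perm (Om κ E) → G, Mod I z φ := by
  classical
  let φ : Perm (Om κ E) → G := fun x => if h : φ₀ x ∈ C1[z₀] then e.symm ⟨_, h⟩ else 1
  have hφ : ∀ x (hx : x ∈ Hm E I), φ x = e.symm ⟨_, M.mem_C1 hx⟩ := fun x hx => dif_pos _
  refine ⟨φ, fun x hx y hy => ?_, fun x hx y hy h => ?_, fun g hg => ?_, ?_⟩
  · rw [hφ x hx, hφ y hy, hφ _ (mul_mem hx hy), ← coe_mul, ← map_mul]
    exact congrArg (fun a => (e.symm a : G)) (Subtype.ext (M.mul x hx y hy))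
  · rw [hφ x hx, hφ y hy] at h
    exact M.inj x hx y hy (congrArg Subtype.val (e.symm.injective (Subtype.ext h)))
  · obtain ⟨x, hx, h⟩ := M.surj (e ⟨g, FT.mem_C1.mpr (mul_inv_eq_iff_eq_mul.mp hg)⟩)
      (mul_inv_eq_iff_eq_mul.mpr (FT.mem_C1.mp (Subtype.prop _)))
    exact ⟨x, hx, by simp [hφ x hx, h]⟩
  · have := (M.centre l (g := e ⟨z, GW.self_mem_c1 z⟩) fun x hx => by
      have : e ⟨z, GW.self_mem_c1 z⟩ * ⟨_, M.mem_C1 hx⟩ = ⟨_, M.mem_C1 hx⟩ * e ⟨z, GW.self_mem_c1 z⟩ := by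
        obtain ⟨y, hy⟩ := e.surjective ⟨_, M.mem_C1 hx⟩
        rw [← hy, ← map_mul, ← map_mul]
        exact congrArg e (Subtype.ext (FT.mem_C1.mp y.2).symm)
      exact mul_inv_eq_iff_eq_mul.mpr (congrArg Subtype.val this)).resolve_left fun h =>
        hz (congrArg Subtype.val (e.injective ((Subtype.ext h).trans (map_one e).symm)))
    rw [hφ _ (bb_mem (ev_vec I 0))]
    simp [M.zt, ← this]

omit [Subsingleton E] in
theorem exists_mod (I : κ → ZMod 2) :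
    ∃ φ : Perm (Om κ E) → alternatingGroup (Om κ E), Mod I (jA E (zq I)) φ := by
  classical
  let φ : Perm (Om κ E) → alternatingGroup (Om κ E) := fun x =>
    if h : x ∈ alternatingGroup (Om κ E) then ⟨x, h⟩ else 1
  have hφ : ∀ x ∈ Hm E I, (φ x : Perm (Om κ E)) = x := fun x hx =>
    congrArg Subtype.val (dif_pos hx.1)
  refine ⟨φ, fun x hx y hy => Subtype.ext ?_, fun x hx y hy h => ?_, fun g hg => ?_, Subtype.ext ?_⟩
  · rw [coe_mul, hφ x hx, hφ y hy, hφ _ (mul_mem hx hy)]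
  · rw [← hφ x hx, h, hφ y hy]
  · have : (g : Perm (Om κ E)) ∈ Hm E I := mem_Hm.mpr ⟨g.2, jt_bb (E := E) I 0 ▸ congrArg Subtype.val hg⟩
    exact ⟨g, this, Subtype.ext (hφ _ this)⟩
  · rw [hφ _ (bb_mem (ev_vec I 0)), coe_jA, jt_bb]

theorem recog [Finite G] (hG : ∀ N : Subgroup G, N.index ≠ 2) (hn : 2 ≤ Fintype.card κ) {i : κ}
    (hI : I i = 1) (hz : z ≠ 1) (e : C1[z] ≃* C1[jA E (zq I)]) :
    Nonempty (G ≃* alternatingGroup (Om κ E)) := by
  obtain ⟨φ₀, M₀⟩ := exists_mod (E := E) I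
  obtain ⟨φ₁, M₁⟩ := M₀.transport i hz e
  obtain ⟨φ, Ψ, M, -, h⟩ := M₁.exists_hom' hG hI hn
  have h1 : ∀ a, Ψ (jA E (zq a)) = M.lam (zq a) := fun a => by
    rw [M.lam_bb]; exact h _ (ev_vec a 0) _ (jt_bb a 0)
  have h2 : Ψ (jA E (zq I)) = z := (h1 I).trans M.lam_z
  have inj : Function.Injective Ψ := by
    have := alternatingGroup.isSimpleGroup (α := Om κ E) (by
      rw [Nat.card_eq_fintype_card, card_Om]; omega)
    exact (MonoidHom.ker_eq_bot_iff Ψ).mp ((Ψ.normal_ker.eq_bot_or_eq_top).resolve_right fun e =>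
      hz (h2 ▸ e.ge (mem_top _)))
  have F : FH Ψ := ⟨inj, fun t t' g ht e => by
    have ht' : t' * t' = 1 := inj (by rw [map_mul, ← e, conj_mul, ← map_mul, ht]; simp)
    obtain ⟨a, ha⟩ := exists_zq ht
    obtain ⟨a', ha'⟩ := exists_zq ht'
    obtain ⟨c, rfl⟩ := exists_conj_sc (jA_sq rfl) ht ((sc_zq a).trans ha.symm)
    obtain ⟨c', rfl⟩ := exists_conj_sc (jA_sq rfl) ht' ((sc_zq a').trans ha'.symm)
    simp only [map_mul, map_inv, h1] at e
    rw [ha, ha', M.jh.wt_eq (a := a) (b := a') (g := (Ψ c')⁻¹ * g * Ψ c) (by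
      calc _ = (Ψ c')⁻¹ * (g * (Ψ c * M.lam (zq a) * (Ψ c)⁻¹) * g⁻¹) * Ψ c' := by group
        _ = _ := by rw [e]; group)]⟩
  have h3 : C1[Ψ (jA E (zq I))] ≤ Ψ.range := by
    refine (eq_of_le_of_card_ge (H := C1[jA E (zq I)].map Ψ) ?_ ?_).ge.trans (map_le_range _ _)
    · rintro _ ⟨x, hx, rfl⟩
      exact FT.mem_C1.mpr (Commute.map (FT.mem_C1.mp hx) Ψ)
    · rw [h2, card_map_of_injective inj, Nat.card_congr e.toEquiv]
  have h4 := gd_of (jA_sq rfl) h3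
  have h5 : 0 < wt I := Finset.card_pos.mpr ⟨i, by simpa using hI⟩
  have h6 : wt I ≤ Fintype.card κ := Finset.card_le_univ _
  rw [sc_zq, show 4 * wt I = 4 * (wt I - 1) + 4 by omega] at h4
  exact ⟨(MulEquiv.ofBijective Ψ ⟨inj, FH.surj (Fintype.card κ - 1) (by omega) F _ (by omega) h4⟩).symm⟩

/-- isomorphic centralisers -/
def c1Equiv {A B : Type*} [Group A] [Group B] (f : A ≃* B) (a : A) : C1[a] ≃* C1[f a] :=
  (f.subgroupMap _).trans (MulEquiv.subgroupCongr (by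
    ext x
    obtain ⟨x, rfl⟩ := f.surjective x
    refine (mem_map_iff_mem f.injective).trans ?_
    rw [FT.mem_C1, FT.mem_C1, ← map_mul, ← map_mul, f.apply_eq_iff_eq]))

theorem alt_recog [Finite G] (hG : ∀ H : Subgroup G, H.index ≠ 2) {m : ℕ} (hm : 7 ≤ m)
    (hmod : m % 4 = 2 ∨ m % 4 = 3) {zt : alternatingGroup (Fin m)} (hzt : orderOf zt = 2)
    (hz : orderOf z = 2) (e : C1[z] ≃* C1[zt]) : Nonempty (G ≃* alternatingGroup (Fin m)) := by
  have : Subsingleton (Fin (m % 2)) := Fin.subsingleton_iff_le_one.mpr (by omega)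
  obtain ⟨f⟩ : Nonempty (Fin m ≃ Om (Fin (m / 4)) (Fin (m % 2))) :=
    Fintype.card_eq.mp (by rw [card_Om]; simp; omega)
  have h1 : f.altCongrHom zt * f.altCongrHom zt = 1 := by
    rw [← map_mul, ← pow_two, orderOf_dvd_iff_pow_eq_one.mp hzt.dvd, map_one]
  obtain ⟨I, hI⟩ := exists_zq h1
  obtain ⟨c, hc⟩ := exists_conj_sc h1 (jA_sq rfl) (hI.trans (sc_zq I).symm)
  obtain ⟨i, hi⟩ : ∃ i, I i = 1 := by
    obtain ⟨i, hi⟩ := Finset.card_pos.mp (show 0 < wt I from Nat.pos_of_ne_zero fun h => by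
      rw [h, sc_eq_zero, map_eq_one_iff _ f.altCongrHom.injective] at hI
      simp [hI] at hzt)
    exact ⟨i, (Finset.mem_filter.mp hi).2⟩
  have hz1 : z ≠ 1 := by rintro rfl; simp at hz
  have e' : C1[z] ≃* C1[jA (Fin (m % 2)) (zq I)] :=
    hc ▸ e.trans (c1Equiv (f.altCongrHom.trans (MulAut.conj c)) zt)
  by_cases hn : 2 ≤ m / 4
  · obtain ⟨g⟩ := recog hG (by simpa using hn) hi hz1 e'
    exact ⟨g.trans f.altCongrHom.symm⟩
  obtain rfl : m = 7 := by omega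
  obtain ⟨φ₀, M₀⟩ := exists_mod (E := Fin (7 % 2)) I
  obtain ⟨φ, M⟩ := M₀.transport i hz1 e'
  exact (M.jh.reix finOneEquiv).base_three hG (M.w_ne ⟨0⟩)

end Cfsg.Lib.Alt
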